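import Cfsg.Agent.Recog.OrderM11.Graph

/-!
The graph on the Sylow 3-subgroups falls into maximal cliques, eleven of them, permuted
transitively; hence a subgroup of index eleven.
-/

set_option autoImplicit false
set_option linter.style.haveILetI false
set_option linter.unusedSectionVars false

namespace Cfsg.Agent.Recog.OrderM11

open Cfsg.Agent.SmallGroups Subgroup

/-- A graph with these parameters has no adjacency matrix over the field with seven elements. -/
theorem no_srg {V : Type*} [Finite V] (r : V → V → Prop) (hsymm : ∀ x y, r x y → r y x)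
    (hirr : ∀ x, ¬ r x x) (hV : Nat.card V = 55) (hdeg : ∀ x, Nat.card {z // r x z} = 18)
    (hadj : ∀ x y, r x y → Nat.card {z // r x z ∧ r y z} = 1)
    (hfar : ∀ x y, y ≠ x → ¬ r x y → Nat.card {z // r x z ∧ r y z} = 8) : False := by
  classical
  haveI := Fintype.ofFinite V
  let A : Matrix V V (ZMod 7) := Matrix.of fun x y => if r x y then 1 else 0
  let J : Matrix V V (ZMod 7) := Matrix.of fun _ _ => 1
  have hcount : ∀ x y, (∑ z, A x z * A z y) = (Nat.card {z // r x z ∧ r y z} : ZMod 7) := by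
    intro x y
    rw [Nat.card_eq_fintype_card, Fintype.card_subtype, ← Finset.sum_boole]
    refine Finset.sum_congr rfl fun z _ => ?_
    by_cases h1 : r x z
    · by_cases h2 : r y z
      · simp [A, h1, h2, hsymm _ _ h2]
      · have h2' : ¬ r z y := fun e => h2 (hsymm _ _ e)
        simp [A, h2, h2']
    · simp [A, h1]
  have hsq : A * A = (3 : ZMod 7) • (1 : Matrix V V (ZMod 7)) + J := by
    ext x y
    rw [Matrix.mul_apply, hcount]
    by_cases hxy : x = y
    · subst hxy
      rw [Nat.card_congr (Equiv.subtypeEquivRight fun z => and_self_iff), hdeg]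
      simp [J]
      decide
    · by_cases hr : r x y
      · rw [hadj x y hr]
        simp [J, Matrix.one_apply_ne hxy]
      · rw [hfar x y (Ne.symm hxy) hr]
        simp [J, Matrix.one_apply_ne hxy]
        decide
  have hJJ : J * J = (6 : ZMod 7) • J := by
    ext x y
    rw [Matrix.mul_apply]
    simp only [J, Matrix.of_apply, mul_one, Finset.sum_const, Finset.card_univ, ← Nat.card_eq_fintype_card,
      hV, Matrix.smul_apply, smul_eq_mul]
    decide
  have hAJ : A * J = (4 : ZMod 7) • J := by
    ext x y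
    rw [Matrix.mul_apply]
    simp only [J, A, Matrix.of_apply, mul_one, Matrix.smul_apply, smul_eq_mul, Finset.sum_boole]
    rw [← Fintype.card_subtype, ← Nat.card_eq_fintype_card, hdeg]
    decide
  have h4 : (A * A) * (A * A) = (2 : ZMod 7) • (1 : Matrix V V (ZMod 7)) + (5 : ZMod 7) • J := by
    rw [hsq]
    simp only [add_mul, mul_add, smul_mul_assoc, mul_smul_comm, one_mul, mul_one, hJJ, smul_add, smul_smul]
    have e1 : (3 : ZMod 7) * 3 = 2 := by decide
    have e2 : (5 : ZMod 7) = 3 + (3 + 6) := by decide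
    rw [e1, e2, add_smul, add_smul]
    abel
  have h6 : (A * A) * (A * A) * (A * A) = (6 : ZMod 7) • (1 : Matrix V V (ZMod 7)) + (5 : ZMod 7) • J := by
    rw [h4, hsq]
    simp only [add_mul, mul_add, smul_mul_assoc, mul_smul_comm, one_mul, mul_one, hJJ, smul_add, smul_smul]
    have e2 : (3 : ZMod 7) * 2 = 6 := by decide
    have e4 : (5 : ZMod 7) = 2 + (3 * 5 + 5 * 6) := by decide
    conv_rhs => rw [e4, add_smul, add_smul]
    rw [e2]
    abel
  have h7 : A ^ 7 = (6 : ZMod 7) • A + (6 : ZMod 7) • J := by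
    have : A ^ 7 = A * ((A * A) * (A * A) * (A * A)) := by
      simp only [pow_succ', pow_zero, mul_one, mul_assoc]
    rw [this, h6, mul_add, mul_smul_comm, mul_smul_comm, mul_one, hAJ, smul_smul]
    congr 2
  have htr : Matrix.trace (A ^ 7) = Matrix.trace A ^ 7 :=
    haveI : Fact (Nat.Prime 7) := ⟨by norm_num⟩
    ZMod.trace_pow_card A
  have hA0 : Matrix.trace A = 0 := by
    simp [Matrix.trace, Matrix.diag, A, hirr]
  have hJ55 : Matrix.trace J = 55 := by
    simp [Matrix.trace, Matrix.diag, J, ← Nat.card_eq_fintype_card, hV]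
  rw [h7, hA0, Matrix.trace_add, Matrix.trace_smul, Matrix.trace_smul, hA0, hJ55, zero_pow (by norm_num)] at htr
  simp at htr
  exact absurd htr (by decide)

variable {G : Type*} [Group G] [Finite G] (I : Invol G) (h : Hyp G) (T : Three G)

include I h T in
theorem Tri.spread {t : G} {P a b : Sylow 3 G} (τ : Tri t P a b) {p q : G}
    (hp : p ∈ (P : Subgroup G)) (hp1 : p ≠ 1) (hq : q ∈ (P : Subgroup G)) (hq1 : q ≠ 1) :
    (Adj a (p • a) → Adj a (q • a)) ∧ (Adj a (p • b) → Adj a (q • b)) := by
  obtain ⟨k, hk, rfl⟩ := (local_symm I h T τ.hP).2 p q hp hp1 hq hq1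
  obtain ⟨-, hfix⟩ := mem_kern.mp hk
  have key : ∀ x : Sylow 3 G, Inv t x → (k * p * k⁻¹) • x = k • (p • x) := fun x hx => by
    rw [mul_smul, mul_smul, inv_smul_eq_iff.mpr (hfix x hx).symm]
  refine ⟨fun e => ?_, fun e => ?_⟩
  · rw [key a τ.ha]
    have := e.smul k
    rwa [hfix a τ.ha] at this
  · rw [key b τ.hb]
    have := e.smul k
    rwa [hfix a τ.ha] at this

include I h T in
/-- The four possible shapes of a neighbourhood. -/
theorem Tri.types {t : G} {P a b : Sylow 3 G} (τ : Tri t P a b) :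
    common P a = 17 ∨ common P a = 1 ∨
      (common P a = 9 ∧ (∀ p ∈ (P : Subgroup G), ¬ Adj a (p • a)) ∧
        ∀ p ∈ (P : Subgroup G), Adj a (p • b)) ∨
      (common P a = 9 ∧ (∀ p ∈ (P : Subgroup G), p ≠ 1 → Adj a (p • a)) ∧
        ∀ p ∈ (P : Subgroup G), p ≠ 1 → ¬ Adj a (p • b)) := by
  classical
  haveI := Fintype.ofFinite (P : Subgroup G)
  have h9 : Fintype.card (P : Subgroup G) = 9 := by rw [← Nat.card_eq_fintype_card, h.sylow_three P]
  let A : Finset (P : Subgroup G) := Finset.univ.filter fun p => Adj a (p.1 • a)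
  let B : Finset (P : Subgroup G) := Finset.univ.filter fun p => Adj a (p.1 • b)
  have hsum : common P a = A.card + B.card := by
    let e := Equiv.ofBijective _ (τ.param_bij I h T)
    have h1 : common P a = Nat.card {x : ↥(P : Subgroup G) × Bool // Adj a (τ.param x).1} := by
      rw [common]
      exact (Nat.card_congr ((Equiv.subtypeEquiv e fun _ => Iff.rfl).trans
        (Equiv.subtypeSubtypeEquivSubtypeInter (Adj P) (Adj a)))).symm
    rw [h1, Nat.card_eq_fintype_card, Fintype.card_subtype]
    have e2 : (Finset.univ.filter fun x : ↥(P : Subgroup G) × Bool => Adj a (τ.param x).1) =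
        A.image (fun p => (p, false)) ∪ B.image (fun p => (p, true)) := by
      ext ⟨p, i⟩
      cases i <;> · rw [Finset.mem_filter]; simp [A, B, Tri.param]
    rw [e2, Finset.card_union_of_disjoint, Finset.card_image_of_injective, Finset.card_image_of_injective]
    · exact fun x y e => congrArg Prod.fst e
    · exact fun x y e => congrArg Prod.fst e
    · rw [Finset.disjoint_left]
      simp
  have hirr : ∀ x : Sylow 3 G, ¬ Adj x x := fun x hx => hx.1 rfl
  have hA0 : (1 : (P : Subgroup G)) ∉ A := by simp [A, hirr]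
  have hB0 : (1 : (P : Subgroup G)) ∈ B := by
    simp only [B, Finset.mem_filter, Finset.mem_univ, true_and, Subgroup.coe_one, one_smul]
    exact ⟨τ.ab, t, τ.ha, τ.hb⟩
  by_cases hα : ∃ p ∈ (P : Subgroup G), p ≠ 1 ∧ Adj a (p • a)
  · obtain ⟨p, hp, hp1, hpa⟩ := hα
    have hall : ∀ q ∈ (P : Subgroup G), q ≠ 1 → Adj a (q • a) := fun q hq hq1 =>
      (τ.spread I h T hp hp1 hq hq1).1 hpa
    have hAe : A = Finset.univ.erase 1 := by
      ext q
      simp only [A, Finset.mem_filter, Finset.mem_univ, true_and, Finset.mem_erase, and_true]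
      exact ⟨fun hq e => hA0 (e ▸ by simp [A, hq]), fun hq => hall q q.2 fun e => hq (Subtype.ext e)⟩
    have hA8 : A.card = 8 := by rw [hAe, Finset.card_erase_of_mem (Finset.mem_univ _), Finset.card_univ, h9]
    by_cases hβ : ∃ p ∈ (P : Subgroup G), p ≠ 1 ∧ Adj a (p • b)
    · obtain ⟨r, hr, hr1, hrb⟩ := hβ
      have hBe : B = Finset.univ := Finset.eq_univ_of_forall fun q => by
        by_cases hq1 : q = 1
        · exact hq1 ▸ hB0
        · exact Finset.mem_filter.mpr ⟨Finset.mem_univ _,
            (τ.spread I h T hr hr1 q.2 fun e => hq1 (Subtype.ext e)).2 hrb⟩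
      exact Or.inl (by rw [hsum, hA8, hBe, Finset.card_univ, h9])
    · push Not at hβ
      have hBe : B = {1} := by
        ext q
        refine ⟨fun hq => ?_, fun hq => Finset.mem_singleton.mp hq ▸ hB0⟩
        by_contra hq1
        exact hβ q q.2 (fun e => Finset.mem_singleton.not.mp hq1 (Subtype.ext e)) (Finset.mem_filter.mp hq).2
      exact Or.inr (Or.inr (Or.inr ⟨by rw [hsum, hA8, hBe, Finset.card_singleton], hall, hβ⟩))
  · push Not at hα
    have hAe : A = ∅ := Finset.eq_empty_of_forall_notMem fun q hq =>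
      hα q q.2 (fun e => hA0 (Subtype.ext (p := fun x => x ∈ (P : Subgroup G)) (a1 := q) (a2 := 1) e ▸ hq))
        (Finset.mem_filter.mp hq).2
    have hnone : ∀ p ∈ (P : Subgroup G), ¬ Adj a (p • a) := fun p hp hh =>
      (Finset.notMem_empty (⟨p, hp⟩ : (P : Subgroup G))) (hAe ▸ Finset.mem_filter.mpr ⟨Finset.mem_univ _, hh⟩)
    by_cases hβ : ∃ p ∈ (P : Subgroup G), p ≠ 1 ∧ Adj a (p • b)
    · obtain ⟨r, hr, hr1, hrb⟩ := hβ
      have hBe : B = Finset.univ := Finset.eq_univ_of_forall fun q => by
        by_cases hq1 : q = 1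
        · exact hq1 ▸ hB0
        · exact Finset.mem_filter.mpr ⟨Finset.mem_univ _,
            (τ.spread I h T hr hr1 q.2 fun e => hq1 (Subtype.ext e)).2 hrb⟩
      refine Or.inr (Or.inr (Or.inl ⟨by rw [hsum, hAe, hBe, Finset.card_univ, h9, Finset.card_empty], hnone,
        fun p hp => ?_⟩))
      have hm : (⟨p, hp⟩ : (P : Subgroup G)) ∈ B := by rw [hBe]; exact Finset.mem_univ _
      exact (Finset.mem_filter.mp hm).2
    · push Not at hβ
      have hBe : B = {1} := by
        ext q
        refine ⟨fun hq => ?_, fun hq => Finset.mem_singleton.mp hq ▸ hB0⟩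
        by_contra hq1
        exact hβ q q.2 (fun e => Finset.mem_singleton.not.mp hq1 (Subtype.ext e)) (Finset.mem_filter.mp hq).2
      exact Or.inr (Or.inl (by rw [hsum, hAe, hBe, Finset.card_singleton, Finset.card_empty]))

include I h T in
theorem exists_far (P : Sylow 3 G) : ∃ c, c ≠ P ∧ ¬ Adj P c := by
  haveI : Nonempty {Q : Sylow 3 G // Q ≠ P ∧ ¬ Adj P Q} :=
    (Nat.card_pos_iff.mp (by rw [far_card I h T P]; norm_num)).1
  exact let ⟨c, hc⟩ := Classical.arbitrary {Q : Sylow 3 G // Q ≠ P ∧ ¬ Adj P Q}; ⟨c, hc⟩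

include I h T in
theorem not_seventeen {P a : Sylow 3 G} (ha : Adj P a) : common P a ≠ 17 := by
  classical
  intro h17
  obtain ⟨c, hc, hc'⟩ := exists_far I h T P
  have hμ := two_paths I h T ha hc hc'
  rw [h17] at hμ
  have htrans : ∀ x y z : Sylow 3 G, (x = y ∨ Adj x y) → (y = z ∨ Adj y z) → (x = z ∨ Adj x z) := by
    intro x y z hxy hyz
    rcases hxy with rfl | hxy
    · exact hyz
    rcases hyz with rfl | hyz
    · exact Or.inr hxy
    by_contra hne
    push Not at hne
    have h0 : common x z = 0 := by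
      rw [common_far I h T hc hc' (Ne.symm hne.1) hne.2]; omega
    haveI : Nonempty {R : Sylow 3 G // Adj x R ∧ Adj z R} := ⟨⟨y, hxy, hyz.symm⟩⟩
    have := Nat.card_pos (α := {R : Sylow 3 G // Adj x R ∧ Adj z R})
    rw [common] at h0
    omega
  let s : Setoid (Sylow 3 G) :=
    ⟨fun x y => x = y ∨ Adj x y, fun x => Or.inl rfl,
      fun hh => hh.imp Eq.symm Adj.symm, fun h1 h2 => htrans _ _ _ h1 h2⟩
  have hfib : ∀ q : Quotient s, Nat.card {x : Sylow 3 G // Quotient.mk s x = q} = 19 := by
    intro q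
    induction q using Quotient.inductionOn with
    | h y =>
      haveI := Fintype.ofFinite (Sylow 3 G)
      have h18 := nbr_card I h T y
      rw [Nat.card_eq_fintype_card, Fintype.card_subtype] at h18 ⊢
      have e : (Finset.univ.filter fun x => Quotient.mk s x = Quotient.mk s y) =
          insert y (Finset.univ.filter fun x => Adj y x) := by
        ext x
        simp only [Quotient.eq, Finset.mem_filter, Finset.mem_univ, true_and, Finset.mem_insert]
        exact ⟨fun hh => hh.imp id Adj.symm, fun hh => hh.imp id Adj.symm⟩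
      have hyy : ¬ Adj y y := fun hh => hh.1 rfl
      rw [e, Finset.card_insert_of_notMem (by simp [hyy]), h18]
  have h55 := T.count
  haveI := Fintype.ofFinite (Quotient s)
  rw [← Nat.card_congr (Equiv.sigmaFiberEquiv (Quotient.mk s)), Nat.card_sigma] at h55
  simp only [hfib, Finset.sum_const, smul_eq_mul] at h55
  omega

include I h T in
theorem not_one {P a : Sylow 3 G} (ha : Adj P a) : common P a ≠ 1 := by
  intro h1
  refine no_srg (V := Sylow 3 G) Adj (fun x y => Adj.symm) (fun x hx => hx.1 rfl) T.count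
    (nbr_card I h T) (fun x y hxy => (common_adj I h T ha hxy).trans h1) ?_
  intro x y hne hxy
  obtain ⟨b, hb⟩ : ∃ b, Adj x b := by
    haveI : Nonempty {Q : Sylow 3 G // Adj x Q} :=
      (Nat.card_pos_iff.mp (by rw [nbr_card I h T x]; norm_num)).1
    exact let ⟨b, hb⟩ := Classical.arbitrary {Q : Sylow 3 G // Adj x Q}; ⟨b, hb⟩
  have h2 := two_paths I h T hb hne hxy
  rw [common_adj I h T ha hb, h1] at h2
  show common x y = 8
  omega

include I h T in
/-- The shape that occurs: each half of a neighbourhood is a clique. -/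
theorem Tri.shape {t : G} {P a b : Sylow 3 G} (τ : Tri t P a b) :
    (∀ p ∈ (P : Subgroup G), p ≠ 1 → Adj a (p • a)) ∧
      ∀ p ∈ (P : Subgroup G), p ≠ 1 → ¬ Adj a (p • b) := by
  classical
  rcases τ.types I h T with e | e | ⟨e, hA, hB⟩ | ⟨-, hh⟩
  · exact absurd e (not_seventeen I h T τ.adj)
  · exact absurd e (not_one I h T τ.adj)
  · exfalso
    obtain ⟨⟨p, hp⟩, hpo⟩ := exists_prime_orderOf_dvd_card' (G := (P : Subgroup G)) 3
      (by rw [h.sylow_three P]; norm_num)
    rw [Subgroup.orderOf_mk] at hpo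
    have hne : p • a ≠ a := fun e1 => by
      have := τ.inj I h T hp (one_mem _) (by rw [one_smul]; exact e1)
      rw [this, orderOf_one] at hpo
      norm_num at hpo
    obtain ⟨c, hc, hc'⟩ := exists_far I h T P
    have hμ := two_paths I h T τ.adj hc hc'
    have h4 : common a (p • a) = 4 := by
      rw [common_far I h T hc hc' hne (hA p hp)]; omega
    have hle : Nat.card (Option (P : Subgroup G)) ≤ common a (p • a) := by
      refine Nat.card_le_card_of_injective (fun o => match o with
        | none => ⟨P, τ.adj.symm, ?_⟩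
        | some q => ⟨q.1 • b, hB q q.2, ?_⟩) ?_
      · have := τ.adj.symm.smul p
        rwa [mem_smul_self hp] at this
      · have := (hB (p⁻¹ * q) (mul_mem (inv_mem hp) q.2)).smul p
        rwa [smul_smul, mul_inv_cancel_left] at this
      · have hnb : ∀ q : (P : Subgroup G), P ≠ q.1 • b := fun q e1 => τ.bP (by
          rw [← inv_smul_eq_iff.mpr e1, mem_smul_self (inv_mem q.2)])
        intro x y exy
        have e' := congrArg Subtype.val exy
        match x, y with
        | none, none => rfl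
        | none, some q => exact absurd e' (hnb q)
        | some q, none => exact absurd e'.symm (hnb q)
        | some q, some r => exact congrArg some (Subtype.ext (τ.swap.inj I h T q.2 r.2 e'))
    rw [Finite.card_option, h.sylow_three P] at hle
    omega
  · exact hh

/-- The clique through an edge. -/
def clique (P Q : Sylow 3 G) : Set (Sylow 3 G) :=
  {R | R = P ∨ R = Q ∨ (Adj P R ∧ Adj Q R ∧ ¬ ∃ t : G, Inv t P ∧ Inv t Q ∧ Inv t R)}

theorem clique_comm (P Q : Sylow 3 G) : clique P Q = clique Q P := by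
  ext R
  simp only [clique, Set.mem_ofPred_eq]
  constructor <;>
  · rintro (e | e | ⟨a, b, c⟩)
    · exact Or.inr (Or.inl e)
    · exact Or.inl e
    · exact Or.inr (Or.inr ⟨b, a, fun ⟨t, x, y, z⟩ => c ⟨t, y, x, z⟩⟩)

theorem smul_mem_clique {g : G} {P Q R : Sylow 3 G} (hR : R ∈ clique P Q) :
    g • R ∈ clique (g • P) (g • Q) := by
  rcases hR with rfl | rfl | ⟨a, b, c⟩
  · exact Or.inl rfl
  · exact Or.inr (Or.inl rfl)
  · refine Or.inr (Or.inr ⟨a.smul g, b.smul g, fun ⟨t, x, y, z⟩ => c ⟨g⁻¹ * t * g⁻¹⁻¹, ?_, ?_, ?_⟩⟩)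
    · simpa using x.smul g⁻¹
    · simpa using y.smul g⁻¹
    · simpa using z.smul g⁻¹

theorem image_clique (g : G) (P Q : Sylow 3 G) :
    (fun R => g • R) '' clique P Q = clique (g • P) (g • Q) := by
  ext R
  constructor
  · rintro ⟨S, hS, rfl⟩; exact smul_mem_clique hS
  · intro hR
    refine ⟨g⁻¹ • R, ?_, smul_inv_smul g R⟩
    have := smul_mem_clique (g := g⁻¹) hR
    rwa [inv_smul_smul, inv_smul_smul] at this

include I h T in
theorem Tri.mem_clique {t : G} {P a b : Sylow 3 G} (τ : Tri t P a b) {R : Sylow 3 G} :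
    R ∈ clique P a ↔ R = P ∨ ∃ p ∈ (P : Subgroup G), R = p • a := by
  obtain ⟨hA, hB⟩ := τ.shape I h T
  constructor
  · rintro (e | e | ⟨hPR, haR, hno⟩)
    · exact Or.inl e
    · exact Or.inr ⟨1, one_mem _, by rw [one_smul, e]⟩
    · obtain ⟨p, hp, e | e⟩ := τ.nbr I h T hPR
      · exact Or.inr ⟨p, hp, e⟩
      · exfalso
        by_cases hp1 : p = 1
        · rw [hp1, one_smul] at e
          exact hno ⟨t, τ.hP, τ.ha, e ▸ τ.hb⟩
        · exact hB p hp hp1 (e ▸ haR)
  · rintro (e | ⟨p, hp, rfl⟩)
    · exact Or.inl e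
    · by_cases hp1 : p = 1
      · exact Or.inr (Or.inl (by rw [hp1, one_smul]))
      · refine Or.inr (Or.inr ⟨?_, hA p hp hp1, ?_⟩)
        · have := τ.adj.smul p
          rwa [mem_smul_self hp] at this
        · rintro ⟨s, hs1, hs2, hs3⟩
          have hst := hs1.unique T τ.hP hs2 τ.ha τ.aP.symm
          rw [hst] at hs3
          rcases τ.only I h T hs3 with e | e | e
          · exact τ.aP (by rw [← inv_smul_eq_iff.mpr e.symm, mem_smul_self (inv_mem hp)])
          · exact hp1 (τ.inj I h T hp (one_mem _) (by rw [one_smul]; exact e))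
          · exact τ.sep I h T hp (one_mem _) (by rw [one_smul]; exact e)

include I h T in
theorem clique_pivot {x y R : Sylow 3 G} (hxy : Adj x y) (hR : R ∈ clique x y) (hne : R ≠ x) :
    Adj x R ∧ clique x R = clique x y := by
  obtain ⟨t, ht1, ht2⟩ := hxy.2
  obtain ⟨b, τ⟩ := exists_tri I h T ht1 ht2 hxy.1.symm
  obtain ⟨p, hp, rfl⟩ := ((τ.mem_clique I h T).mp hR).resolve_left hne
  have τ' : Tri (p * t * p⁻¹) x (p • y) (p • b) := by
    have := τ.smul p
    rwa [mem_smul_self hp] at this
  refine ⟨τ'.adj, ?_⟩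
  ext S
  rw [τ'.mem_clique I h T, τ.mem_clique I h T]
  refine or_congr Iff.rfl ⟨?_, ?_⟩
  · rintro ⟨q, hq, rfl⟩; exact ⟨q * p, mul_mem hq hp, (mul_smul q p y).symm⟩
  · rintro ⟨q, hq, rfl⟩
    exact ⟨q * p⁻¹, mul_mem hq (inv_mem hp), by rw [smul_smul, inv_mul_cancel_right]⟩

include I h T in
theorem clique_any {x y c d : Sylow 3 G} (hxy : Adj x y) (hc : c ∈ clique x y) (hd : d ∈ clique x y)
    (hne : d ≠ c) : Adj c d ∧ clique c d = clique x y := by
  by_cases hcx : c = x
  · subst hcx
    exact clique_pivot I h T hxy hd hne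
  · obtain ⟨h1, h2⟩ := clique_pivot I h T hxy hc hcx
    rw [clique_comm] at h2
    obtain ⟨h3, h4⟩ := clique_pivot I h T h1.symm (R := d) (h2 ▸ hd) hne
    exact ⟨h3, h4.trans h2⟩

include I h T in
theorem clique_card {x y : Sylow 3 G} (hxy : Adj x y) : Nat.card (clique x y) = 10 := by
  obtain ⟨t, ht1, ht2⟩ := hxy.2
  obtain ⟨b, τ⟩ := exists_tri I h T ht1 ht2 hxy.1.symm
  have hnx : ∀ q : (x : Subgroup G), x ≠ q.1 • y := fun q e1 => τ.aP (by
    rw [← inv_smul_eq_iff.mpr e1, mem_smul_self (inv_mem q.2)])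
  let f : Option (x : Subgroup G) → clique x y := fun o => match o with
    | none => ⟨x, Or.inl rfl⟩
    | some q => ⟨q.1 • y, (τ.mem_clique I h T).mpr (Or.inr ⟨q, q.2, rfl⟩)⟩
  have hf : Function.Bijective f := by
    constructor
    · intro u v e
      have e' := congrArg Subtype.val e
      match u, v with
      | none, none => rfl
      | none, some q => exact absurd e' (hnx q)
      | some q, none => exact absurd e'.symm (hnx q)
      | some q, some r => exact congrArg some (Subtype.ext (τ.inj I h T q.2 r.2 e'))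
    · rintro ⟨S, hS⟩
      rcases (τ.mem_clique I h T).mp hS with rfl | ⟨q, hq, rfl⟩
      · exact ⟨none, rfl⟩
      · exact ⟨some ⟨q, hq⟩, rfl⟩
  rw [← Nat.card_eq_of_bijective f hf, Finite.card_option, h.sylow_three x]

include I h T in
theorem exists_index_eleven : ∃ H : Subgroup G, H.index = 11 := by
  classical
  let C := {s : Set (Sylow 3 G) // ∃ x y, Adj x y ∧ s = clique x y}
  letI : MulAction G C :=
    { smul := fun g s => ⟨(fun R => g • R) '' s.1, by
        obtain ⟨x, y, hxy, e⟩ := s.2
        exact ⟨g • x, g • y, hxy.smul g, e ▸ image_clique g x y⟩⟩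
      one_smul := fun s => Subtype.ext (show (fun R => (1 : G) • R) '' s.1 = s.1 by simp)
      mul_smul := fun a b s => Subtype.ext (show (fun R => (a * b) • R) '' s.1 =
        (fun R => a • R) '' ((fun R => b • R) '' s.1) by simp [Set.image_image, mul_smul]) }
  haveI : MulAction.IsPretransitive G C := ⟨by
    rintro ⟨-, x, y, hxy, rfl⟩ ⟨-, x', y', hxy', rfl⟩
    obtain ⟨g, rfl, rfl⟩ := edge_trans I h T hxy hxy'
    exact ⟨g, Subtype.ext (image_clique g x y)⟩⟩
  have htwo : ∀ P : Sylow 3 G, Nat.card {s : C // P ∈ s.1} = 2 := by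
    intro P
    obtain ⟨t, a, b, τ⟩ := exists_tri' I h T P
    have key : ∀ a b, Tri t P a b → b ∉ clique P a := fun a b τ hb => by
      obtain ⟨p, hp, e⟩ := ((τ.mem_clique I h T).mp hb).resolve_left τ.bP
      exact τ.sep I h T hp (one_mem _) (by rw [one_smul]; exact e.symm)
    let f : Bool → {s : C // P ∈ s.1} := fun i => bif i
      then ⟨⟨clique P b, P, b, τ.swap.adj, rfl⟩, Or.inl rfl⟩
      else ⟨⟨clique P a, P, a, τ.adj, rfl⟩, Or.inl rfl⟩
    have hf : Function.Bijective f := by
      constructor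
      · intro i j e
        have e' := congrArg (fun z => z.1.1) e
        have hb : b ∈ clique P b := Or.inr (Or.inl rfl)
        cases i <;> cases j
        · rfl
        · exact absurd ((show clique P a = clique P b from e').symm ▸ hb) (key a b τ)
        · exact absurd ((show clique P b = clique P a from e') ▸ hb) (key a b τ)
        · rfl
      · rintro ⟨⟨-, x, y, hxy, rfl⟩, hP⟩
        obtain ⟨d, hd, hdP⟩ : ∃ d ∈ clique x y, d ≠ P := by
          by_cases hx : x = P
          · exact ⟨y, Or.inr (Or.inl rfl), fun e => hxy.1 (hx.trans e.symm)⟩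
          · exact ⟨x, Or.inl rfl, hx⟩
        obtain ⟨hPd, he⟩ := clique_any I h T hxy hP hd hdP
        obtain ⟨p, hp, e | e⟩ := τ.nbr I h T hPd
        · refine ⟨false, Subtype.ext (Subtype.ext ?_)⟩
          exact (clique_pivot I h T τ.adj ((τ.mem_clique I h T).mpr (Or.inr ⟨p, hp, e⟩)) hdP).2.symm.trans he
        · refine ⟨true, Subtype.ext (Subtype.ext ?_)⟩
          exact (clique_pivot I h T τ.swap.adj ((τ.swap.mem_clique I h T).mpr (Or.inr ⟨p, hp, e⟩)) hdP).2.symm.trans he
    rw [← Nat.card_eq_of_bijective f hf, Nat.card_eq_fintype_card, Fintype.card_bool]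
  have hten : ∀ s : C, Nat.card {P : Sylow 3 G // P ∈ s.1} = 10 := by
    rintro ⟨-, x, y, hxy, rfl⟩
    exact clique_card I h T hxy
  have hdc := double_count (fun (P : Sylow 3 G) (s : C) => P ∈ s.1) htwo hten
  rw [T.count] at hdc
  obtain ⟨P⟩ : Nonempty (Sylow 3 G) := inferInstance
  obtain ⟨t, a, b, τ⟩ := exists_tri' I h T P
  have h11 : Nat.card C = 11 := by omega
  exact ⟨MulAction.stabilizer G (⟨clique P a, P, a, τ.adj, rfl⟩ : C), by
    rw [MulAction.index_stabilizer_of_transitive]; exact h11⟩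

omit I T in
include h in
/-- A simple group of order 7920 has a subgroup of index eleven. -/
theorem Hyp.exists_index : ∃ H : Subgroup G, H.index = 11 :=
  h.index_or_invol.elim id fun I => exists_index_eleven I h (I.three h)

end Cfsg.Agent.Recog.OrderM11
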