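import Cfsg.Agent.Recog.OrderM11.NormalThree

/-!
An element of order three commuting with an involution is inverted in its centraliser.
-/

set_option autoImplicit false
set_option linter.style.haveILetI false
set_option linter.unusedSectionVars false

namespace Cfsg.Agent.Recog.OrderM11

open Cfsg.Agent.SmallGroups Subgroup

variable {G : Type*} [Group G] [Finite G]

/-- A Sylow 2-subgroup of the centraliser of an element of order three is central, and the
2-elements form a normal subgroup. -/
theorem Invol.twelve_facts (I : Invol G) (h : Hyp G) {t w : G} (ht : orderOf t = 2)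
    (hw : orderOf w = 3) (htw : Commute t w) (ha : aCard t w = 12) :
    ∀ (S : Sylow 2 ↥(centralizer ({t} : Set G) ⊓ centralizer ({w} : Set G))),
    (∀ g ∈ centralizer ({t} : Set G),
      ∀ k ∈ (S : Subgroup ↥(centralizer ({t} : Set G) ⊓ centralizer ({w} : Set G))).map
        (centralizer ({t} : Set G) ⊓ centralizer ({w} : Set G)).subtype, Commute k g) ∧
    ∀ (T : Sylow 2 ↥(centralizer ({t} : Set G))), ∀ g ∈ centralizer ({t} : Set G), g ^ 16 = 1 →
      g ∈ (T : Subgroup ↥(centralizer ({t} : Set G))).map (centralizer ({t} : Set G)).subtype := by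
  classical
  set C := centralizer ({t} : Set G) with hC
  have hC48 : Nat.card C = 48 := I.cent t ht
  have htC : t ∈ C := mem_cent.mpr (Commute.refl t)
  have hb12 : ∀ v : G, orderOf v = 3 → Commute t v →
      ∀ g ∈ C, g * v * g⁻¹ ∈ zpowers v → Commute g v := by
    intro v hv htv g hg hgv
    have hav : aCard t v = 12 := (I.card_indep ht ht hw hv htw htv).1.trans ha
    have hbv : bCard t v = 12 := by
      rcases I.ab_cases ht hv htv with ⟨e, x | x⟩ | ⟨e, -⟩
      · omega
      · omega
      · exact e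
    have heq : C ⊓ centralizer ({v} : Set G) = C ⊓ normalizer ((zpowers v : Subgroup G) : Set G) :=
      Subgroup.eq_of_le_of_card_ge (inf_le_inf_left C (cent_le_normalizer_zpowers hv))
        (hbv.trans hav.symm).le
    have hgN : g ∈ normalizer ((zpowers v : Subgroup G) : Set G) := by
      refine (mem_normalizer_zpowers hv).mpr ?_
      rw [mem_zpowers_iff_mem_range_orderOf, hv] at hgv
      simp only [Finset.mem_image, Finset.mem_range] at hgv
      obtain ⟨i, hi, e⟩ := hgv
      interval_cases i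
      · exfalso
        rw [pow_zero] at e
        have : v = 1 := by simpa [conj_eq_one_iff] using e.symm
        simp [this] at hv
      · exact Or.inl (by rw [← e, pow_one])
      · exact Or.inr (by
          rw [← e]
          exact eq_inv_of_mul_eq_one_left
            (by rw [← pow_succ]; exact orderOf_dvd_iff_pow_eq_one.mp hv.dvd))
    have : g ∈ C ⊓ centralizer ({v} : Set G) := heq ▸ ⟨hg, hgN⟩
    exact mem_cent.mp this.2
  set A := C ⊓ centralizer ({w} : Set G) with hA
  have hA12 : Nat.card A = 12 := ha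
  have hwA : w ∈ A := ⟨mem_cent.mpr htw.symm, mem_cent.mpr (Commute.refl w)⟩
  have htA : t ∈ A := ⟨htC, mem_cent.mpr htw⟩
  intro S
  -- a Sylow 2-subgroup of `A`
  set K := (S : Subgroup A).map A.subtype with hKdef
  have hK4 : Nat.card K = 4 := by
    rw [hKdef, Subgroup.card_map_of_injective A.subtype_injective,
      card_sylow_subgroup (a := 2) (m := 3) (by rw [hA12]; norm_num) (by norm_num) S]
    norm_num
  have hKA : K ≤ A := Subgroup.map_subtype_le _
  have hK4pow : ∀ k ∈ K, k ^ 4 = 1 := fun k hk =>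
    orderOf_dvd_iff_pow_eq_one.mp (hK4 ▸ Subgroup.orderOf_dvd_natCard _ hk)
  -- `K` centralises every element of order three of `C`
  have hKv : ∀ v : G, orderOf v = 3 → Commute t v → ∀ k ∈ K, Commute k v := by
    intro v hv htv k hk
    have hkC : k ∈ C := (hKA hk).1
    have hkw : Commute k w := mem_cent.mp (hKA hk).2
    have hvC : v ∈ C := mem_cent.mpr htv.symm
    haveI hsyl : ∀ T : Sylow 3 C, Fact (Nat.card (T : Subgroup C) = 3) := fun T =>
      ⟨(card_sylow_subgroup (a := 1) (m := 16) (by rw [hC48]; norm_num) (by norm_num) T).trans (pow_one 3)⟩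
    have hmk : ∀ a : G, orderOf a = 3 → ∀ haC : a ∈ C, ∃ T : Sylow 3 C,
        zpowers (⟨a, haC⟩ : C) = (T : Subgroup C) := by
      intro a ha haC
      obtain ⟨T, hT⟩ := (IsPGroup.of_card (G := zpowers (⟨a, haC⟩ : C)) (n := 1) (p := 3)
        (by rw [Nat.card_zpowers, Subgroup.orderOf_mk, ha, pow_one])).exists_le_sylow
      exact ⟨T, Subgroup.eq_of_le_of_card_ge hT (by
        rw [(hsyl T).out, Nat.card_zpowers, Subgroup.orderOf_mk, ha])⟩
    have hwC : w ∈ C := hwA.1
    obtain ⟨W, hW⟩ := hmk w hw hwC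
    obtain ⟨V, hV⟩ := hmk v hv hvC
    -- four Sylow subgroups
    have hn4 : Nat.card (Sylow 3 C) = 4 := by
      have hb : bCard t w = 12 := by
        rcases I.ab_cases ht hw htw with ⟨e, x | x⟩ | ⟨e, -⟩ <;> omega
      have h1 := card_sylow_mul_card_normalizer W
      have hnorm : Nat.card (normalizer ((W : Subgroup C) : Set C)) = 12 := by
        rw [← hb, bCard, ← hC, ← Subgroup.card_map_of_injective C.subtype_injective]
        congr 1
        rw [← hW]
        have : (normalizer ((zpowers (⟨w, hwC⟩ : C) : Subgroup C) : Set C)).map C.subtype =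
            C ⊓ normalizer ((zpowers w : Subgroup G) : Set G) := by
          ext x
          constructor
          · rintro ⟨y, hy, rfl⟩
            exact ⟨y.2, (mem_normalizer_zpowers hw).mpr
              (((mem_normalizer_zpowers (a := (⟨w, hwC⟩ : C)) (by rw [Subgroup.orderOf_mk, hw])).mp hy).imp
                (fun e => congrArg Subtype.val e) (fun e => congrArg Subtype.val e))⟩
          · rintro ⟨hxC, hxN⟩
            exact ⟨⟨x, hxC⟩, (mem_normalizer_zpowers (by rw [Subgroup.orderOf_mk, hw])).mpr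
              (((mem_normalizer_zpowers hw).mp hxN).imp (fun e => Subtype.ext e) (fun e => Subtype.ext e)), rfl⟩
        rw [this]
      rw [hnorm, hC48] at h1
      omega
    -- `k` fixes every one of them
    have hkfix : ∀ T : Sylow 3 C, (⟨k, hkC⟩ : C) • T = T := by
      intro T
      by_cases hTW : T = W
      · rw [hTW, smul_eq_iff, ← hW]
        exact (mem_normalizer_zpowers (by rw [Subgroup.orderOf_mk, hw])).mpr
          (Or.inl (Subtype.ext (mul_inv_eq_iff_eq_mul.mpr hkw)))
      set wc : C := ⟨w, hwC⟩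
      set kc : C := ⟨k, hkC⟩
      have hwfix : ∀ X : Sylow 3 C, wc • X = X → X = W := by
        intro X hX
        have hmem : wc ∈ (X : Subgroup C) := mem_of_normalizes (p := 3) (v := wc)
          (by rw [Subgroup.orderOf_mk, hw]) X (smul_eq_iff.mp hX)
        refine Sylow.ext ?_
        rw [← hW]
        exact (Subgroup.eq_of_le_of_card_ge (zpowers_le.mpr hmem)
          (by rw [(hsyl X).out, Nat.card_zpowers, Subgroup.orderOf_mk, hw])).symm
      have hwW : wc • W = W := by
        rw [smul_eq_iff, ← hW]; exact Subgroup.le_normalizer (mem_zpowers _)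
      have h3 : wc ^ 3 = 1 := orderOf_dvd_iff_pow_eq_one.mp (by rw [Subgroup.orderOf_mk, hw])
      have h3' : ∀ X : Sylow 3 C, wc • wc • wc • X = X := fun X => by
        rw [← mul_smul, ← mul_smul, show wc * wc * wc = wc ^ 3 by rw [pow_succ, sq], h3, one_smul]
      have hneW : ∀ X : Sylow 3 C, X ≠ W → wc • X ≠ W := fun X hX e =>
        hX (MulAction.injective wc (e.trans hwW.symm))
      have hd1 : wc • T ≠ T := fun e => hTW (hwfix T e)
      have hd2 : wc • wc • T ≠ T := fun e => hd1 (by
        have := congrArg (wc • ·) e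
        simp only [h3'] at this
        exact this.symm)
      haveI := Fintype.ofFinite (Sylow 3 C)
      have huniv : ∀ X : Sylow 3 C, X ≠ W → X = T ∨ X = wc • T ∨ X = wc • wc • T := by
        intro X hX
        by_contra hne
        push Not at hne
        obtain ⟨n1, n2, n3⟩ := hne
        have hcard : ({W, T, wc • T, wc • wc • T, X} : Finset (Sylow 3 C)).card = 5 := by
          simp [Ne.symm hTW, (hneW T hTW).symm, (hneW _ (hneW T hTW)).symm, hX.symm, hd1.symm, hd2.symm,
            n1.symm, n2.symm, n3.symm, (MulAction.injective wc).ne hd1.symm]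
        have hle := Finset.card_le_univ ({W, T, wc • T, wc • wc • T, X} : Finset (Sylow 3 C))
        rw [hcard, ← Nat.card_eq_fintype_card, hn4] at hle
        omega
      have hkW : kc • W = W := by
        rw [smul_eq_iff, ← hW]
        exact (mem_normalizer_zpowers (by rw [Subgroup.orderOf_mk, hw])).mpr
          (Or.inl (Subtype.ext (mul_inv_eq_iff_eq_mul.mpr hkw)))
      have hcomm : Commute kc wc := Subtype.ext hkw
      have hk4 : kc ^ 4 = 1 := Subtype.ext (hK4pow k hk)
      obtain ⟨i, hi⟩ : ∃ i : ℕ, kc • T = wc ^ i • T := by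
        rcases huniv (kc • T) (fun e => hTW (MulAction.injective kc (e.trans hkW.symm))) with e | e | e
        · exact ⟨0, by rw [pow_zero, one_smul, e]⟩
        · exact ⟨1, by rw [pow_one, e]⟩
        · exact ⟨2, by rw [sq, mul_smul, e]⟩
      have hiter : ∀ m : ℕ, (kc ^ m) • T = wc ^ (i * m) • T := by
        intro m
        induction m with
        | zero => simp
        | succ m ih =>
          rw [pow_succ', mul_smul, ih, ← mul_smul, (hcomm.pow_right (i * m)).eq, mul_smul, hi,
            ← mul_smul, ← pow_add, show i * m + i = i * (m + 1) by ring]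
      have h4 := hiter 4
      rw [hk4, one_smul, show i * 4 = i + 3 * i by ring, pow_add, pow_mul, h3, one_pow, mul_one] at h4
      exact hi.trans h4.symm
    have hkV := hkfix V
    rw [smul_eq_iff, ← hV] at hkV
    have hmem : k * v * k⁻¹ ∈ zpowers v := by
      have h1 : (⟨k, hkC⟩ : C) * ⟨v, hvC⟩ * (⟨k, hkC⟩ : C)⁻¹ ∈ zpowers (⟨v, hvC⟩ : C) :=
        (Subgroup.mem_normalizer_iff.mp hkV _).mp (mem_zpowers _)
      obtain ⟨j, hj⟩ := h1
      exact ⟨j, by simpa using congrArg Subtype.val hj⟩
    exact hb12 v hv htv k hkC hmem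
  -- the elements of order three
  set Q := C ⊓ centralizer (K : Set G) with hQ
  haveI hKcomm : IsMulCommutative K :=
    IsPGroup.isMulCommutative_of_card_eq_prime_sq (p := 2) (by rw [hK4]; norm_num)
  have hKQ : K ≤ Q := le_inf (hKA.trans inf_le_left) K.le_centralizer
  have hthree : ∀ v, orderOf v = 3 → Commute t v → v ∈ Q := fun v hv htv =>
    ⟨mem_cent.mpr htv.symm, fun k hk => (hKv v hv htv k hk).eq⟩
  -- count
  have h8 : Nat.card {v : G // orderOf v = 3 ∧ Commute t v} = 8 := by
    have hb : bCard t w = 12 := by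
      rcases I.ab_cases ht hw htw with ⟨e, x | x⟩ | ⟨e, -⟩ <;> omega
    have hS3 : ∀ T : Sylow 3 C, Nat.card (T : Subgroup C) = 3 := fun T =>
      (card_sylow_subgroup (a := 1) (m := 16) (by rw [hC48]; norm_num) (by norm_num) T).trans (pow_one 3)
    have hn4 : Nat.card (Sylow 3 C) = 4 := by
      obtain ⟨W, hW⟩ := (IsPGroup.of_card (G := zpowers (⟨w, hwA.1⟩ : C)) (n := 1) (p := 3)
        (by rw [Nat.card_zpowers, Subgroup.orderOf_mk, hw, pow_one])).exists_le_sylow
      have hWeq : zpowers (⟨w, hwA.1⟩ : C) = (W : Subgroup C) := Subgroup.eq_of_le_of_card_ge hW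
        (by rw [hS3, Nat.card_zpowers, Subgroup.orderOf_mk, hw])
      have h1 := card_sylow_mul_card_normalizer W
      have hnorm : Nat.card (normalizer ((W : Subgroup C) : Set C)) = 12 := by
        rw [← hb, bCard, ← hC, ← Subgroup.card_map_of_injective C.subtype_injective]
        congr 1
        rw [← hWeq]
        have : (normalizer ((zpowers (⟨w, hwA.1⟩ : C) : Subgroup C) : Set C)).map C.subtype =
            C ⊓ normalizer ((zpowers w : Subgroup G) : Set G) := by
          ext x
          constructor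
          · rintro ⟨y, hy, rfl⟩
            exact ⟨y.2, (mem_normalizer_zpowers hw).mpr
              (((mem_normalizer_zpowers (a := (⟨w, hwA.1⟩ : C)) (by rw [Subgroup.orderOf_mk, hw])).mp hy).imp
                (fun e => congrArg Subtype.val e) (fun e => congrArg Subtype.val e))⟩
          · rintro ⟨hxC, hxN⟩
            exact ⟨⟨x, hxC⟩, (mem_normalizer_zpowers (by rw [Subgroup.orderOf_mk, hw])).mpr
              (((mem_normalizer_zpowers hw).mp hxN).imp (fun e => Subtype.ext e) (fun e => Subtype.ext e)), rfl⟩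
        rw [this]
      rw [hnorm, hC48] at h1
      omega
    have := card_orderOf_eq_prime hS3
    rw [hn4] at this
    rw [show (8 : ℕ) = 4 * (3 - 1) from rfl, ← this]
    exact Nat.card_congr
      { toFun := fun v => ⟨⟨v.1, mem_cent.mpr v.2.2.symm⟩, by rw [Subgroup.orderOf_mk]; exact v.2.1⟩
        invFun := fun v => ⟨v.1.1, by rw [Subgroup.orderOf_coe]; exact v.2, (mem_cent.mp v.1.2).symm⟩
        left_inv := fun _ => rfl
        right_inv := fun _ => rfl }
  -- forty-eight elements centralise `K`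
  let φ : K × {v : G // orderOf v = 3 ∧ Commute t v} → Q := fun p =>
    ⟨p.1.1 * p.2.1, Q.mul_mem (hKQ p.1.2) (hthree _ p.2.2.1 p.2.2.2)⟩
  have hφinj : Function.Injective φ := by
    rintro ⟨⟨k, hk⟩, ⟨v, hv, htv⟩⟩ ⟨⟨k', hk'⟩, ⟨v', hv', htv'⟩⟩ e
    have e' : k * v = k' * v' := congrArg Subtype.val e
    have e4 := congrArg (fun z => z ^ 4) e'
    simp only [(hKv v hv htv k hk).mul_pow, (hKv v' hv' htv' k' hk').mul_pow, hK4pow k hk,
      hK4pow k' hk', one_mul] at e4
    have hpow : ∀ a : G, orderOf a = 3 → a ^ 4 = a := fun a ha => by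
      rw [pow_succ, orderOf_dvd_iff_pow_eq_one.mp ha.dvd, one_mul]
    rw [hpow v hv, hpow v' hv'] at e4
    subst e4
    obtain rfl := mul_right_cancel e'
    rfl
  have hQle : Nat.card Q ∣ 48 := hC48 ▸ Subgroup.card_dvd_of_le inf_le_left
  have hQ48 : Q = C := by
    refine Subgroup.eq_of_le_of_card_ge inf_le_left ?_
    have h1 := Nat.card_le_card_of_injective φ hφinj
    rw [Nat.card_prod, hK4, h8] at h1
    have key : ∀ d ∈ Nat.divisors 48, 32 ≤ d → d = 48 := by decide +kernel
    rw [hC48, key _ (Nat.mem_divisors.mpr ⟨hQle, by norm_num⟩) h1]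
  have hcentral : ∀ g ∈ C, ∀ k ∈ K, Commute k g := fun g hg k hk =>
    ((hQ48 ▸ hg : g ∈ Q).2 k hk)
  -- the Sylow 2-subgroup of `C` is normal
  refine ⟨hcentral, fun T => ?_⟩
  set T' := (T : Subgroup C).map C.subtype with hT'
  have hT16 : Nat.card T' = 16 := by
    rw [hT', Subgroup.card_map_of_injective C.subtype_injective,
      card_sylow_subgroup (a := 4) (m := 3) (by rw [hC48]; norm_num) (by norm_num) T]
    norm_num
  haveI := Fintype.ofFinite G
  intro g hg hg16
  set B := Finset.univ.filter fun a : G => a ∈ C ∧ a ^ 16 ≠ 1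
  set Tf := Finset.univ.filter fun a : G => a ∈ T'
  have hBcard : 32 ≤ B.card := by
    have h1 : (Finset.univ.image fun p : K × {v : G // orderOf v = 3 ∧ Commute t v} =>
        (φ p : G)) ⊆ B := by
      intro a ha
      simp only [Finset.mem_image, Finset.mem_univ, true_and] at ha
      obtain ⟨⟨⟨k, hk⟩, ⟨v, hv, htv⟩⟩, rfl⟩ := ha
      simp only [B, Finset.mem_filter, Finset.mem_univ, true_and]
      refine ⟨(hQ48.le (φ _).2), ?_⟩
      show (k * v) ^ 16 ≠ 1
      rw [(hKv v hv htv k hk).mul_pow, show 16 = 4 * 4 from rfl, pow_mul, hK4pow k hk, one_pow,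
        one_mul, show v ^ (4 * 4) = v ^ (3 * 5 + 1) from rfl, pow_succ, pow_mul,
        orderOf_dvd_iff_pow_eq_one.mp hv.dvd, one_pow, one_mul]
      rintro rfl
      simp at hv
    have h2 := Finset.card_le_card h1
    rw [Finset.card_image_of_injective _ (fun a b e => hφinj (Subtype.ext e)), Finset.card_univ,
      ← Nat.card_eq_fintype_card, Nat.card_prod, hK4, h8] at h2
    exact h2
  have hTf : Tf.card = 16 := by
    rw [← hT16, Nat.card_eq_fintype_card, Fintype.card_subtype]
  by_contra hgT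
  have hsub : insert g (B ∪ Tf) ⊆ Finset.univ.filter fun a : G => a ∈ C := by
    intro a ha
    simp only [Finset.mem_insert, Finset.mem_union, B, Tf, Finset.mem_filter, Finset.mem_univ,
      true_and] at ha ⊢
    rcases ha with rfl | ⟨h1, -⟩ | h1
    · exact hg
    · exact h1
    · exact Subgroup.map_subtype_le _ h1
  have hdisj : Disjoint B Tf := by
    rw [Finset.disjoint_left]
    intro a ha ha'
    simp only [B, Tf, Finset.mem_filter, Finset.mem_univ, true_and] at ha ha'
    exact ha.2 (orderOf_dvd_iff_pow_eq_one.mp (hT16 ▸ Subgroup.orderOf_dvd_natCard _ ha'))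
  have h3 := Finset.card_le_card hsub
  rw [Finset.card_insert_of_notMem (by simp [B, Tf, hg, hg16, hgT]),
    Finset.card_union_of_disjoint hdisj, hTf] at h3
  have h4 : (Finset.univ.filter fun a : G => a ∈ C).card = 48 := by
    rw [← hC48, Nat.card_eq_fintype_card, Fintype.card_subtype]
  omega

theorem Invol.a_ne (I : Invol G) (h : Hyp G) {t w : G} (ht : orderOf t = 2) (hw : orderOf w = 3)
    (htw : Commute t w) : aCard t w ≠ 12 := by
  classical
  intro ha
  set C := centralizer ({t} : Set G) with hC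
  have hC48 : Nat.card C = 48 := I.cent t ht
  have htC : t ∈ C := mem_cent.mpr (Commute.refl t)
  set A := C ⊓ centralizer ({w} : Set G) with hA
  have hA12 : Nat.card A = 12 := ha
  have hwA : w ∈ A := ⟨mem_cent.mpr htw.symm, mem_cent.mpr (Commute.refl w)⟩
  have htA : t ∈ A := ⟨htC, mem_cent.mpr htw⟩
  obtain ⟨S⟩ : Nonempty (Sylow 2 A) := inferInstance
  set K := (S : Subgroup A).map A.subtype with hKdef
  have hK4 : Nat.card K = 4 := by
    rw [hKdef, Subgroup.card_map_of_injective A.subtype_injective,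
      card_sylow_subgroup (a := 2) (m := 3) (by rw [hA12]; norm_num) (by norm_num) S]
    norm_num
  have hKA : K ≤ A := Subgroup.map_subtype_le _
  have hK4pow : ∀ k ∈ K, k ^ 4 = 1 := fun k hk =>
    orderOf_dvd_iff_pow_eq_one.mp (hK4 ▸ Subgroup.orderOf_dvd_natCard _ hk)
  obtain ⟨hcentral, hTmem'⟩ := I.twelve_facts h ht hw htw ha S
  obtain ⟨T⟩ : Nonempty (Sylow 2 C) := inferInstance
  set T' := (T : Subgroup C).map C.subtype with hT'
  have hT16 : Nat.card T' = 16 := by
    rw [hT', Subgroup.card_map_of_injective C.subtype_injective,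
      card_sylow_subgroup (a := 4) (m := 3) (by rw [hC48]; norm_num) (by norm_num) T]
    norm_num
  haveI := Fintype.ofFinite G
  have hTmem : ∀ g, g ∈ C → g ^ 16 = 1 → g ∈ T' := hTmem' T
  have hKT : K ≤ T' := fun k hk => hTmem k (hKA hk).1 (by
    rw [show 16 = 4 * 4 from rfl, pow_mul, hK4pow k hk, one_pow])
  have hTC : T' ≤ C := Subgroup.map_subtype_le _
  -- the involutions outside `K`
  let X := {s : G // (orderOf s = 2 ∧ Commute t s) ∧ s ∉ K}
  let Om := {k : G // k ∈ K ∧ k * k = 1}
  have hc : Nat.card {s : G // orderOf s = 2 ∧ Commute t s} =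
      Nat.card {s : G // s ∈ K ∧ orderOf s = 2} + Nat.card X := by
    rw [← Nat.card_sum]
    refine Nat.card_congr ((Equiv.sumCompl fun s : {s : G // orderOf s = 2 ∧ Commute t s} => s.1 ∈ K).symm.trans
      (Equiv.sumCongr
        { toFun := fun s => ⟨s.1.1, s.2, s.1.2.1⟩
          invFun := fun s => ⟨⟨s.1, s.2.2, (mem_cent.mp (hKA s.2.1).1).symm⟩, s.2.1⟩
          left_inv := fun _ => rfl
          right_inv := fun _ => rfl }
        { toFun := fun s => ⟨s.1.1, s.1.2, s.2⟩
          invFun := fun s => ⟨⟨s.1, s.2.1⟩, s.2.2⟩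
          left_inv := fun _ => rfl
          right_inv := fun _ => rfl }))
  have htK : t ∈ K := by
    by_contra htK
    have h16 : Commute t w := htw
    -- `t` together with `K` would generate a 2-subgroup of `A` of order eight
    have hnorm : zpowers (⟨t, htA⟩ : A) ≤ normalizer ((S : Subgroup A) : Set A) := by
      rw [zpowers_le, Subgroup.mem_normalizer_iff]
      intro x
      have : (⟨t, htA⟩ : A) * x * (⟨t, htA⟩ : A)⁻¹ = x :=
        Subtype.ext (mul_inv_eq_iff_eq_mul.mpr (mem_cent.mp x.2.1).symm)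
      rw [this]
    have hp : IsPGroup 2 ↥((S : Subgroup A) ⊔ zpowers (⟨t, htA⟩ : A)) :=
      IsPGroup.to_sup_of_normal_left' S.isPGroup'
        (IsPGroup.of_card (n := 1) (by rw [Nat.card_zpowers, Subgroup.orderOf_mk, ht, pow_one])) hnorm
    have hle : zpowers (⟨t, htA⟩ : A) ≤ (S : Subgroup A) :=
      le_sup_right.trans (S.is_maximal' hp le_sup_left).le
    exact htK ⟨⟨t, htA⟩, hle (mem_zpowers _), rfl⟩
  -- multiplication by the elements of square one preserves `X`
  have hOmX : ∀ (k : Om) (x : X), (orderOf (k.1 * x.1) = 2 ∧ Commute t (k.1 * x.1)) ∧ k.1 * x.1 ∉ K := by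
    rintro ⟨k, hk, hk2⟩ ⟨x, ⟨hxo, hxt⟩, hxK⟩
    have hkx : Commute k x := hcentral x (mem_cent.mpr hxt.symm) k hk
    have hnot : k * x ∉ K := fun e => hxK (by simpa using K.mul_mem (K.inv_mem hk) e)
    refine ⟨⟨orderOf_two ?_ fun e => hnot (e ▸ K.one_mem),
      ((mem_cent.mp (hKA hk).1).symm).mul_right hxt⟩, hnot⟩
    rw [← sq, hkx.mul_pow, sq, sq, hk2, invol_mul_self hxo, one_mul]
  have hdvdOm : Nat.card Om ∣ Nat.card X := by
    let Ω : Subgroup G :=
      { carrier := {k | k ∈ K ∧ k * k = 1}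
        one_mem' := ⟨K.one_mem, one_mul 1⟩
        mul_mem' := by
          rintro a b ⟨ha, ha2⟩ ⟨hb, hb2⟩
          refine ⟨K.mul_mem ha hb, ?_⟩
          rw [← sq, (hcentral b (hKA hb).1 a ha).mul_pow, sq, sq, ha2, hb2, one_mul]
        inv_mem' := by
          rintro a ⟨ha, ha2⟩
          refine ⟨K.inv_mem ha, ?_⟩
          rw [← mul_inv_rev, ha2, inv_one] }
    letI : MulAction Ω X :=
      { smul := fun k x => ⟨k.1 * x.1, hOmX ⟨k.1, k.2⟩ x⟩
        one_smul := fun x => Subtype.ext (one_mul x.1)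
        mul_smul := fun a b x => Subtype.ext (mul_assoc (a : G) b x.1) }
    haveI := Fintype.ofFinite (Quotient (MulAction.orbitRel Ω X))
    have h1 := Nat.card_congr (MulAction.selfEquivSigmaOrbits Ω X)
    rw [Nat.card_sigma, Finset.sum_const_nat (m := Nat.card Ω)] at h1
    · rw [h1]; exact dvd_mul_left _ _
    intro q _
    set x := q.out
    refine (Nat.card_eq_of_bijective
      (fun k : Ω => (⟨k • x, k, rfl⟩ : MulAction.orbit Ω x)) ⟨?_, ?_⟩).symm
    · intro a b e
      have e' : (a : G) * x.1 = (b : G) * x.1 :=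
        congrArg (fun z : MulAction.orbit Ω x => z.1.1) e
      exact Subtype.ext (mul_right_cancel e')
    · rintro ⟨_, k, rfl⟩; exact ⟨k, rfl⟩
  have hc1 := I.c_one h ht
  rw [hc] at hc1
  have hKinv : Nat.card {s : G // s ∈ K ∧ orderOf s = 2} + 1 = Nat.card Om := by
    rw [Nat.card_eq_fintype_card, Fintype.card_subtype, Nat.card_eq_fintype_card, Fintype.card_subtype]
    have e : (Finset.univ.filter fun k : G => k ∈ K ∧ k * k = 1) =
        insert 1 (Finset.univ.filter fun s : G => s ∈ K ∧ orderOf s = 2) := by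
      ext a
      simp only [Finset.mem_insert, Finset.mem_filter, Finset.mem_univ, true_and]
      constructor
      · rintro ⟨ha, ha2⟩
        by_cases h1 : a = 1
        · exact Or.inl h1
        · exact Or.inr ⟨ha, orderOf_two ha2 h1⟩
      · rintro (rfl | ⟨ha, ha2⟩)
        · exact ⟨K.one_mem, one_mul 1⟩
        · exact ⟨ha, invol_mul_self ha2⟩
    rw [e, Finset.card_insert_of_notMem (by simp)]
  have hOm4 : Nat.card Om ≤ 4 := hK4 ▸ Nat.card_le_card_of_injective
    (fun k : Om => (⟨k.1, k.2.1⟩ : K)) (fun a b e => Subtype.ext (congrArg Subtype.val e :))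
  have hOm2 : 2 ≤ Nat.card Om := by
    haveI : Nontrivial Om := ⟨⟨⟨1, K.one_mem, one_mul 1⟩, ⟨t, htK, invol_mul_self ht⟩, fun e => by
      have : t = 1 := (congrArg Subtype.val e).symm
      simp [this] at ht⟩⟩
    exact Finite.one_lt_card
  have hOmdvd : Nat.card Om ≠ 3 := by
    intro e
    obtain ⟨a, b, ha, hb, hab⟩ : ∃ a b : G, (a ∈ K ∧ orderOf a = 2) ∧ (b ∈ K ∧ orderOf b = 2) ∧ a ≠ b := by
      have h2 : Nat.card {s : G // s ∈ K ∧ orderOf s = 2} = 2 := by omega
      haveI : Nontrivial {s : G // s ∈ K ∧ orderOf s = 2} := Finite.one_lt_card_iff_nontrivial.mp (by omega)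
      obtain ⟨a, b, hab⟩ := exists_pair_ne {s : G // s ∈ K ∧ orderOf s = 2}
      exact ⟨a.1, b.1, a.2, b.2, fun e => hab (Subtype.ext e)⟩
    have hco : Commute a b := hcentral b (hKA hb.1).1 a ha.1
    have h4 : ({1, a, b, a * b} : Finset G).card = 4 := by
      have a1 : a ≠ 1 := fun e => by simp [e] at ha
      have b1 : b ≠ 1 := fun e => by simp [e] at hb
      have ab1 : a * b ≠ 1 := fun e => hab (by rw [mul_eq_one_iff_eq_inv.mp e, invol_inv hb.2])
      simp [a1.symm, b1.symm, ab1.symm, hab, a1, b1]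
    have hsub : ({1, a, b, a * b} : Finset G) ⊆ Finset.univ.filter fun k : G => k ∈ K ∧ k * k = 1 := by
      intro x hx
      simp only [Finset.mem_insert, Finset.mem_singleton] at hx
      simp only [Finset.mem_filter, Finset.mem_univ, true_and]
      rcases hx with rfl | rfl | rfl | rfl
      · exact ⟨K.one_mem, one_mul 1⟩
      · exact ⟨ha.1, invol_mul_self ha.2⟩
      · exact ⟨hb.1, invol_mul_self hb.2⟩
      · exact ⟨K.mul_mem ha.1 hb.1, by
          rw [← sq, hco.mul_pow, sq, sq, invol_mul_self ha.2, invol_mul_self hb.2, one_mul]⟩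
    have := Finset.card_le_card hsub
    rw [h4, ← Fintype.card_subtype, ← Nat.card_eq_fintype_card] at this
    change 4 ≤ Nat.card Om at this
    omega
  obtain ⟨q, hq⟩ := hdvdOm
  rcases (show Nat.card Om = 2 ∨ Nat.card Om = 4 by omega) with hO | hO
  swap
  · rw [hO] at hKinv hq; omega
  rw [hO] at hKinv hq
  -- `K` is cyclic
  obtain ⟨κ, hκK, hκ⟩ : ∃ κ ∈ K, κ * κ = t := by
    obtain ⟨κ, hκK, hκ1⟩ : ∃ κ ∈ K, κ * κ ≠ 1 := by
      by_contra hall
      push Not at hall
      have : Nat.card Om = 4 := by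
        rw [← hK4]
        exact Nat.card_congr (Equiv.subtypeEquivRight fun k => ⟨fun hk => hk.1, fun hk => ⟨hk, hall k hk⟩⟩)
      omega
    refine ⟨κ, hκK, ?_⟩
    have h2 : orderOf (κ * κ) = 2 := orderOf_two (by
      rw [show κ * κ * (κ * κ) = κ ^ 4 by simp only [pow_succ, pow_zero, one_mul, mul_assoc], hK4pow κ hκK]) hκ1
    by_contra hne
    have h3 : Nat.card {s : G // s ∈ K ∧ orderOf s = 2} ≤ 1 := by omega
    exact hne (congrArg Subtype.val
      ((Finite.card_le_one_iff_subsingleton.mp h3).elim ⟨κ * κ, K.mul_mem hκK hκK, h2⟩ ⟨t, htK, ht⟩))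
  have htwo : ∀ d ∈ K, d * d = 1 → d = 1 ∨ d = t := fun d hd hd2 => by
    by_cases h1 : d = 1
    · exact Or.inl h1
    · exact Or.inr (congrArg Subtype.val ((Finite.card_le_one_iff_subsingleton.mp (show
        Nat.card {s : G // s ∈ K ∧ orderOf s = 2} ≤ 1 by omega)).elim
          ⟨d, hd, orderOf_two hd2 h1⟩ ⟨t, htK, ht⟩))
  -- an involution outside `K`
  have hexists : ∀ s ∈ T', s ∉ K → s * s ∈ K → (∀ e ∈ K, e * e = 1 → s * s ≠ e) ∨ Nonempty X := by
    intro s hsT hsK hs2
    by_cases hcase : ∀ e ∈ K, e * e = 1 → s * s ≠ e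
    · exact Or.inl hcase
    push Not at hcase
    obtain ⟨e, he, he2, hse⟩ := hcase
    right
    rcases htwo e he he2 with rfl | rfl
    · exact ⟨⟨s, ⟨orderOf_two hse fun e => hsK (e ▸ K.one_mem), (mem_cent.mp (hTC hsT)).symm⟩, hsK⟩⟩
    · have hκs : Commute κ s := hcentral s (hTC hsT) κ hκK
      have hnot : κ * s ∉ K := fun e => hsK (by simpa using K.mul_mem (K.inv_mem hκK) e)
      refine ⟨⟨κ * s, ⟨orderOf_two ?_ fun e => hnot (e ▸ K.one_mem),
        (mem_cent.mp (hKA hκK).1).symm.mul_right (mem_cent.mp (hTC hsT)).symm⟩, hnot⟩⟩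
      rw [← sq, hκs.mul_pow, sq, sq, hκ, hse, invol_mul_self ht]
  have hX : Nonempty X := by
    -- a square in `K`
    obtain ⟨s, hsT, hsK, hs2⟩ : ∃ s ∈ T', s ∉ K ∧ s * s ∈ K := by
      obtain ⟨s, hsT, hsK⟩ := SetLike.not_le_iff_exists.mp (fun hle : T' ≤ K => by
        have := Subgroup.card_le_of_le hle
        omega)
      by_cases hs2 : s * s ∈ K
      · exact ⟨s, hsT, hsK, hs2⟩
      refine ⟨s * s, T'.mul_mem hsT hsT, hs2, ?_⟩
      haveI : (K.subgroupOf T').Normal := ⟨fun a ha g => by
        rw [Subgroup.mem_subgroupOf] at ha ⊢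
        rw [Subgroup.coe_mul, Subgroup.coe_mul, Subgroup.coe_inv,
          (hcentral g.1 (hTC g.2) a.1 ha).symm.eq, mul_inv_cancel_right]
        exact ha⟩
      have hidx : (K.subgroupOf T').index = 4 := by
        have h1 := (K.subgroupOf T').index_mul_card
        rw [Nat.card_congr (Subgroup.subgroupOfEquivOfLe hKT).toEquiv, hK4, hT16] at h1
        omega
      have := (K.subgroupOf T').pow_index_mem ⟨s, hsT⟩
      rw [hidx, Subgroup.mem_subgroupOf] at this
      simpa [pow_succ, mul_assoc] using this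
    rcases hexists s hsT hsK hs2 with hgen | hX
    swap
    · exact hX
    set s' := w * s * w⁻¹ with hs'
    have hwC : w ∈ C := hwA.1
    have hs'C : s' ∈ C := C.mul_mem (C.mul_mem hwC (hTC hsT)) (C.inv_mem hwC)
    have hs'2 : s' * s' = s * s := by
      rw [hs', show w * s * w⁻¹ * (w * s * w⁻¹) = w * (s * s) * w⁻¹ by group,
        ← (hcentral w hwC _ hs2).eq, mul_inv_cancel_right]
    have hs'T : s' ∈ T' := hTmem s' hs'C (by
      rw [show 16 = 2 * 8 from rfl, pow_mul, sq, hs'2, ← sq, ← pow_mul]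
      exact orderOf_dvd_iff_pow_eq_one.mp ((Subgroup.orderOf_dvd_natCard _ hsT).trans hT16.dvd))
    -- `s'` is in another coset
    have hcoset : s⁻¹ * s' ∉ K := by
      intro hin
      have hk : Commute (s⁻¹ * s') w := hcentral w hwC _ hin
      set k := s⁻¹ * s' with hkdef
      have e1 : w * s * w⁻¹ = s * k := by rw [hkdef, hs', mul_inv_cancel_left]
      have e2 : s⁻¹ * w * s = k * w := by
        rw [mul_assoc, mul_inv_eq_iff_eq_mul.mp e1]
        group
      have ho : orderOf (k * w) = 3 := by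
        rw [← e2]; simpa using (orderOf_conj s⁻¹ w).trans hw
      have h3 : (k * w) ^ 3 = 1 := orderOf_dvd_iff_pow_eq_one.mp ho.dvd
      rw [hk.mul_pow, orderOf_dvd_iff_pow_eq_one.mp hw.dvd, mul_one] at h3
      have hk1 : k = 1 := by
        have h4 := hK4pow k hin
        rwa [pow_succ, h3, one_mul] at h4
      rw [hk1, mul_one] at e1
      have hsw : Commute s w := (mul_inv_eq_iff_eq_mul.mp e1).symm
      -- `s` lies in the Sylow subgroup `K`
      have hsA : s ∈ A := ⟨hTC hsT, mem_cent.mpr hsw⟩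
      have hmax : zpowers (⟨s, hsA⟩ : A) ⊔ (S : Subgroup A) = (S : Subgroup A) := by
        refine S.is_maximal' ?_ le_sup_right
        refine IsPGroup.to_sup_of_normal_right' ?_ S.isPGroup' ?_
        · refine IsPGroup.to_le (K := T'.subgroupOf A) ?_
            (zpowers_le.mpr (show (⟨s, hsA⟩ : A) ∈ T'.subgroupOf A from hsT))
          exact (IsPGroup.of_card (n := 4) (by rw [hT16]; norm_num) : IsPGroup 2 T').comap_subtype
        · rw [zpowers_le, Subgroup.mem_normalizer_iff]
          intro x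
          have key : ∀ z ∈ K, s * z * s⁻¹ = z := fun z hz => by
            rw [← (hcentral s (hTC hsT) z hz).eq, mul_inv_cancel_right]
          constructor
          · intro hx
            have : (⟨s, hsA⟩ : A) * x * (⟨s, hsA⟩ : A)⁻¹ = x := Subtype.ext (key x.1 ⟨x, hx, rfl⟩)
            rwa [this]
          · intro hx
            have h1 := key _ ⟨_, hx, rfl⟩
            have : ((⟨s, hsA⟩ : A) * x * (⟨s, hsA⟩ : A)⁻¹ : A) = x := by
              apply Subtype.ext
              exact mul_left_cancel (mul_right_cancel h1)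
            rwa [this] at hx
      exact hsK ⟨⟨s, hsA⟩, hmax ▸ Subgroup.mem_sup_left (mem_zpowers _), rfl⟩
    -- the commutator of `s` and `s'` has square one
    haveI : (K.subgroupOf T').Normal := ⟨fun a ha g => by
      rw [Subgroup.mem_subgroupOf] at ha ⊢
      rw [Subgroup.coe_mul, Subgroup.coe_mul, Subgroup.coe_inv,
        (hcentral g.1 (hTC g.2) a.1 ha).symm.eq, mul_inv_cancel_right]
      exact ha⟩
    have hquot : ∀ a b : T' ⧸ K.subgroupOf T', a * b = b * a := by
      have h4 : Nat.card (T' ⧸ K.subgroupOf T') = 2 ^ 2 := by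
        rw [← Subgroup.index_eq_card]
        have h1 := (K.subgroupOf T').index_mul_card
        rw [Nat.card_congr (Subgroup.subgroupOfEquivOfLe hKT).toEquiv, hK4, hT16] at h1
        norm_num
        omega
      exact fun a b => (IsPGroup.isMulCommutative_of_card_eq_prime_sq (p := 2) h4).is_comm.comm a b
    set d := (s' * s⁻¹)⁻¹ * (s⁻¹ * s') with hd
    have hdK : d ∈ K := by
      have h1 := hquot (QuotientGroup.mk (⟨s, hsT⟩ : T'))⁻¹ (QuotientGroup.mk (⟨s', hs'T⟩ : T'))
      rw [← QuotientGroup.mk_inv, ← QuotientGroup.mk_mul, ← QuotientGroup.mk_mul,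
        eq_comm, QuotientGroup.eq, Subgroup.mem_subgroupOf] at h1
      simpa [hd] using h1
    have hdc : ∀ g ∈ C, Commute d g := fun g hg => hcentral g hg d hdK
    have hcs : Commute (s * s) s⁻¹ := (hcentral s (hTC hsT) _ hs2).inv_right
    have e2 : s' * s⁻¹ = s⁻¹ * s' * d⁻¹ := by rw [hd]; group
    have hx2 : s⁻¹ * s' * (s⁻¹ * s') = d⁻¹ := by
      calc s⁻¹ * s' * (s⁻¹ * s') = s⁻¹ * (s' * s⁻¹) * s' := by group
        _ = s⁻¹ * (s⁻¹ * s' * d⁻¹) * s' := by rw [e2]
        _ = s⁻¹ * s⁻¹ * s' * (d⁻¹ * s') := by group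
        _ = s⁻¹ * s⁻¹ * s' * (s' * d⁻¹) := by rw [((hdc s' hs'C).inv_left).eq]
        _ = s⁻¹ * s⁻¹ * (s' * s') * d⁻¹ := by group
        _ = s⁻¹ * s⁻¹ * (s * s) * d⁻¹ := by rw [hs'2]
        _ = d⁻¹ := by group
    have hd2 : d * d = 1 := by
      have e1 : s' * s' * s⁻¹ = s⁻¹ * (s' * s') * 1 := by rw [mul_one, hs'2]; exact hcs.eq
      have e3 : s' * s' * s⁻¹ = s⁻¹ * (s' * s') * (d⁻¹ * d⁻¹) := by
        calc s' * s' * s⁻¹ = s' * (s' * s⁻¹) := mul_assoc _ _ _
          _ = s' * (s⁻¹ * s' * d⁻¹) := by rw [e2]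
          _ = (s' * s⁻¹) * (s' * d⁻¹) := by group
          _ = (s⁻¹ * s' * d⁻¹) * (s' * d⁻¹) := by rw [e2]
          _ = s⁻¹ * s' * (d⁻¹ * s') * d⁻¹ := by group
          _ = s⁻¹ * s' * (s' * d⁻¹) * d⁻¹ := by rw [((hdc s' hs'C).inv_left).eq]
          _ = _ := by group
      have e4 := mul_left_cancel (e1.symm.trans e3)
      have e5 : (d * d)⁻¹ = 1 := by rw [mul_inv_rev]; exact e4.symm
      exact inv_eq_one.mp e5
    have hdinv : d⁻¹ = d := inv_eq_of_mul_eq_one_right hd2
    rcases hexists (s⁻¹ * s') (T'.mul_mem (T'.inv_mem hsT) hs'T) hcoset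
      (by rw [hx2]; exact K.inv_mem hdK) with hgen' | hX
    · exact absurd (hx2.trans hdinv) (hgen' d hdK hd2)
    · exact hX
  -- at most six
  have hle6 : 2 * Nat.card X ≤ 12 := by
    have hmem : ∀ x : X, x.1 ∈ T' ∧ κ * x.1 ∈ T' ∧ κ * x.1 ∉ K := fun x => by
      have hxT : x.1 ∈ T' := hTmem x.1 (mem_cent.mpr x.2.1.2.symm) (by
        rw [show 16 = 2 * 8 from rfl, pow_mul, sq, invol_mul_self x.2.1.1, one_pow])
      exact ⟨hxT, T'.mul_mem (hKT hκK) hxT,
        fun e => x.2.2 (by simpa using K.mul_mem (K.inv_mem hκK) e)⟩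
    let ψ : X ⊕ X → {g : G // g ∈ T' ∧ g ∉ K} := fun p => match p with
      | .inl x => ⟨x.1, (hmem x).1, x.2.2⟩
      | .inr x => ⟨κ * x.1, (hmem x).2.1, (hmem x).2.2⟩
    have hmix : ∀ a b : X, a.1 = κ * b.1 → False := fun a b e => by
      have hkb : Commute κ b.1 := hcentral b.1 (mem_cent.mpr b.2.1.2.symm) κ hκK
      have h1 : (κ * b.1) * (κ * b.1) = 1 := e ▸ invol_mul_self a.2.1.1
      rw [← sq, hkb.mul_pow, sq, sq, hκ, invol_mul_self b.2.1.1, mul_one] at h1
      simp [h1] at ht
    have hψ : Function.Injective ψ := by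
      rintro (a | a) (b | b) e <;> have e' := congrArg Subtype.val e
      · exact congrArg Sum.inl (Subtype.ext e')
      · exact (hmix a b e').elim
      · exact (hmix b a e'.symm).elim
      · exact congrArg Sum.inr (Subtype.ext (mul_left_cancel e'))
    have := Nat.card_le_card_of_injective ψ hψ
    rw [Nat.card_sum] at this
    have h12 : Nat.card {g : G // g ∈ T' ∧ g ∉ K} = 12 := by
      rw [Nat.card_eq_fintype_card, Fintype.card_subtype]
      have e : (Finset.univ.filter fun g : G => g ∈ T' ∧ g ∉ K) =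
          (Finset.univ.filter fun g : G => g ∈ T') \ (Finset.univ.filter fun g : G => g ∈ K) := by
        ext g; simp
      rw [e, Finset.card_sdiff_of_subset (fun g hg => by
        simp only [Finset.mem_filter, Finset.mem_univ, true_and] at hg ⊢; exact hKT hg),
        ← Fintype.card_subtype, ← Fintype.card_subtype, ← Nat.card_eq_fintype_card,
        ← Nat.card_eq_fintype_card, hT16, hK4]
    omega
  -- conjugation by `w` has no fixed point on `X`
  have hthreeX : 3 ∣ Nat.card X := by
    letI : MulAction (zpowers w) X :=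
      { smul := fun g x => ⟨(g : G) * x.1 * (g : G)⁻¹, by
          have hgA : (g : G) ∈ A := zpowers_le.mpr hwA g.2
          refine ⟨⟨(orderOf_conj _ _).trans x.2.1.1, ?_⟩, fun e => x.2.2 ?_⟩
          · have := commute_conj (g : G) x.2.1.2
            rwa [show (g : G) * t * (g : G)⁻¹ = t from
              mul_inv_eq_iff_eq_mul.mpr (mem_cent.mp hgA.1)] at this
          · have hc := hcentral _ hgA.1 _ e
            have : x.1 = (g : G) * x.1 * (g : G)⁻¹ := by
              calc x.1 = (g : G)⁻¹ * ((g : G) * x.1 * (g : G)⁻¹ * g) := by group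
                _ = (g : G)⁻¹ * (g * ((g : G) * x.1 * (g : G)⁻¹)) := by rw [hc.eq]
                _ = _ := by group
            exact this ▸ e⟩
        one_smul := fun x => Subtype.ext (show (1 : G) * x.1 * (1 : G)⁻¹ = x.1 by simp)
        mul_smul := fun a b x => Subtype.ext
          (show ((a : G) * b) * x.1 * ((a : G) * b)⁻¹ = a * (b * x.1 * (b : G)⁻¹) * (a : G)⁻¹ by group) }
    have hmod := (IsPGroup.of_card (G := zpowers w) (n := 1) (p := 3)
      (by rw [Nat.card_zpowers, hw, pow_one])).card_modEq_card_fixedPoints X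
    haveI : IsEmpty (MulAction.fixedPoints (zpowers w) X) := ⟨fun ⟨x, hx⟩ => by
      have e : w * x.1 * w⁻¹ = x.1 := congrArg Subtype.val (hx ⟨w, mem_zpowers w⟩)
      have hxA : x.1 ∈ A := ⟨mem_cent.mpr x.2.1.2.symm,
        mem_cent.mpr (mul_inv_eq_iff_eq_mul.mp e).symm⟩
      have hmax : zpowers (⟨x.1, hxA⟩ : A) ⊔ (S : Subgroup A) = (S : Subgroup A) := by
        refine S.is_maximal' ?_ le_sup_right
        refine IsPGroup.to_sup_of_normal_right' (IsPGroup.of_card (n := 1)
          (by rw [Nat.card_zpowers, Subgroup.orderOf_mk, x.2.1.1, pow_one])) S.isPGroup' ?_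
        rw [zpowers_le, Subgroup.mem_normalizer_iff]
        intro a
        have key : ∀ z ∈ K, x.1 * z * x.1⁻¹ = z := fun z hz => by
          rw [← (hcentral x.1 hxA.1 z hz).eq, mul_inv_cancel_right]
        constructor
        · intro ha
          have : (⟨x.1, hxA⟩ : A) * a * (⟨x.1, hxA⟩ : A)⁻¹ = a := Subtype.ext (key a.1 ⟨a, ha, rfl⟩)
          rwa [this]
        · intro ha
          have h1 := key _ ⟨_, ha, rfl⟩
          have : ((⟨x.1, hxA⟩ : A) * a * (⟨x.1, hxA⟩ : A)⁻¹ : A) = a := by
            apply Subtype.ext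
            exact mul_left_cancel (mul_right_cancel h1)
          rwa [this] at ha
      exact x.2.2 ⟨⟨x.1, hxA⟩, hmax ▸ Subgroup.mem_sup_left (mem_zpowers _), rfl⟩⟩
    rw [Nat.card_of_isEmpty (α := MulAction.fixedPoints (zpowers w) X), Nat.ModEq, Nat.zero_mod] at hmod
    exact Nat.dvd_of_mod_eq_zero hmod
  obtain ⟨r, hr⟩ := hthreeX
  have hpos : 0 < Nat.card X := Nat.card_pos
  omega

end Cfsg.Agent.Recog.OrderM11
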