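import Cfsg.Agent.Recog.OrderM11.Tools

/-!
The Sylow subgroups of order eleven of a simple group of order 7920.
-/

set_option autoImplicit false
set_option linter.style.haveILetI false
set_option linter.unusedSectionVars false

namespace Cfsg.Agent.Recog.OrderM11

open Cfsg.Agent.SmallGroups Subgroup

instance fact_eleven : Fact (Nat.Prime 11) := ⟨by norm_num⟩
instance fact_five : Fact (Nat.Prime 5) := ⟨by norm_num⟩

variable {G : Type*} [Group G] [Finite G]

theorem card_fixed_sylow_eleven (hP : ∀ P : Sylow 11 G, Nat.card (P : Subgroup G) = 11)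
    (P Q : Sylow 11 G) (h : (P : Subgroup G) ≤ normalizer ((Q : Subgroup G) : Set G)) : Q = P := by
  obtain ⟨⟨v, hv⟩, hvo⟩ := exists_prime_orderOf_dvd_card' (G := (P : Subgroup G)) 11 (by rw [hP])
  rw [Subgroup.orderOf_mk] at hvo
  have hvQ := mem_of_normalizes hvo Q (h hv)
  apply Sylow.ext
  rw [← Subgroup.eq_of_le_of_card_ge (zpowers_le.mpr hvQ) (by rw [hP, Nat.card_zpowers, hvo]),
    ← Subgroup.eq_of_le_of_card_ge (zpowers_le.mpr hv) (by rw [hP, Nat.card_zpowers, hvo])]

/-- The Sylow data for the prime eleven. -/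
theorem Hyp.eleven (h : Hyp G) :
    Nat.card (Sylow 11 G) = 144 ∧
      (∀ P : Sylow 11 G, Nat.card (P : Subgroup G) = 11) ∧
      (∀ P : Sylow 11 G, Nat.card (centralizer ((P : Subgroup G) : Set G)) = 11) ∧
      ∀ P : Sylow 11 G, Nat.card (normalizer ((P : Subgroup G) : Set G)) = 55 := by
  classical
  haveI := h.simple
  obtain ⟨n, k, c, hn, hnm, hk, hkc, hP, hC, hN⟩ :=
    exists_primeSylow_data (r := 11) (m := 720) h.nc (by rw [h.card]) (by norm_num)
  obtain ⟨P⟩ : Nonempty (Sylow 11 G) := inferInstance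
  rw [show (720 : ℕ).divisors.filter (fun a => a % 11 = 1 ∧ 1 < a) = {12, 45, 144} by decide +kernel]
    at hnm
  rw [show (11 - 1 : ℕ).divisors.filter (fun a => 1 < a) = {2, 5, 10} by decide +kernel] at hk
  simp only [Finset.mem_insert, Finset.mem_singleton] at hnm hk
  rcases hnm with rfl | rfl | rfl
  · -- twelve Sylow subgroups
    exfalso
    set H := normalizer ((P : Subgroup G) : Set G) with hH
    have hidx : H.index = 12 := (P.card_eq_index_normalizer.symm.trans hn)
    have h1 := two_mul_card_normalizer_dvd_of_index (p := 11) h.nc (by norm_num) H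
      (fun e => by rw [e, Subgroup.index_top] at hidx; omega) (by rw [hidx]; norm_num)
      (P : Subgroup G) (hP P)
    rw [hN P, hidx, show k * c = 60 by omega] at h1
    norm_num [Nat.factorial] at h1
  · -- forty-five Sylow subgroups
    exfalso
    have hkc16 : k * c = 16 := by omega
    obtain ⟨hk2, hc8⟩ : k = 2 ∧ c = 8 := by rcases hk with rfl | rfl | rfl <;> omega
    set C := centralizer ((P : Subgroup G) : Set G) with hCdef
    have hC88 : Nat.card C = 88 := by rw [hC P, hc8]
    haveI : Nontrivial (Sylow 11 G) := Finite.one_lt_card_iff_nontrivial.mp (by omega)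
    obtain ⟨Q, hQ⟩ := exists_ne P
    have hCfix : ∀ v ∈ C, v • P = P := fun v hv =>
      Sylow.smul_eq_iff_mem_normalizer.mpr (centralizer_le_normalizer _ hv)
    have horb : (MulAction.orbit C Q).ncard ≤ 44 := by
      have hsub : MulAction.orbit C Q ⊆ {P}ᶜ := by
        rintro _ ⟨⟨v, hv⟩, rfl⟩ (e : v • Q = P)
        exact hQ (smul_left_cancel v (e.trans (hCfix v hv).symm))
      refine (Set.ncard_le_ncard hsub (Set.toFinite _)).trans (le_of_eq ?_)
      rw [Set.ncard_compl, Set.ncard_singleton, hn]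
    rw [← MulAction.index_stabilizer] at horb
    have hmul := (MulAction.stabilizer C Q).card_mul_index
    rw [hC88] at hmul
    have h11 : ¬ 11 ∣ Nat.card (MulAction.stabilizer C Q) := by
      intro hd
      obtain ⟨⟨⟨v, hvC⟩, hvQ⟩, hvo⟩ := exists_prime_orderOf_dvd_card' (G := MulAction.stabilizer C Q) 11 hd
      rw [Subgroup.orderOf_mk, Subgroup.orderOf_mk] at hvo
      have hvQ' : v ∈ (Q : Subgroup G) :=
        mem_of_normalizes hvo Q (Sylow.smul_eq_iff_mem_normalizer.mp hvQ)
      have hvP : v ∈ (P : Subgroup G) :=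
        mem_of_normalizes hvo P (centralizer_le_normalizer _ hvC)
      exact hQ (Sylow.ext (by
        rw [← Subgroup.eq_of_le_of_card_ge (zpowers_le.mpr hvQ') (by rw [hP, Nat.card_zpowers, hvo]),
          ← Subgroup.eq_of_le_of_card_ge (zpowers_le.mpr hvP) (by rw [hP, Nat.card_zpowers, hvo])]))
    have h2 : 2 ∣ Nat.card (MulAction.stabilizer C Q) := by
      set a := Nat.card (MulAction.stabilizer C Q)
      have ha : a ∈ Nat.divisors 88 := Nat.mem_divisors.mpr ⟨⟨_, hmul.symm⟩, by norm_num⟩
      rw [show (88 : ℕ).divisors = {1, 2, 4, 8, 11, 22, 44, 88} by decide +kernel] at ha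
      simp only [Finset.mem_insert, Finset.mem_singleton] at ha
      rcases ha with e | e | e | e | e | e | e | e <;> rw [e] at h11 hmul ⊢ <;> omega
    haveI : Fact (Nat.Prime 2) := ⟨Nat.prime_two⟩
    obtain ⟨⟨⟨d, hdC⟩, hdQ⟩, hdo⟩ := exists_prime_orderOf_dvd_card' (G := MulAction.stabilizer C Q) 2 h2
    rw [Subgroup.orderOf_mk, Subgroup.orderOf_mk] at hdo
    let A := {R : Sylow 11 G // d • R = R}
    have hcomm : ∀ v ∈ (P : Subgroup G), v * d = d * v := fun v hv => hdC v hv
    letI : MulAction (P : Subgroup G) A :=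
      { smul := fun v R => ⟨(v : G) • R.1, by rw [← mul_smul, ← hcomm v v.2, mul_smul, R.2]⟩
        one_smul := fun R => Subtype.ext (one_smul G R.1)
        mul_smul := fun v w R => Subtype.ext (mul_smul (v : G) (w : G) R.1) }
    have hmod := (IsPGroup.of_card (G := (P : Subgroup G)) (n := 1) (p := 11)
      (by rw [hP, pow_one])).card_modEq_card_fixedPoints A
    have hfix : Nat.card (MulAction.fixedPoints (P : Subgroup G) A) = 1 := by
      rw [Nat.card_eq_one_iff_unique]
      refine ⟨⟨fun a b => ?_⟩, ⟨⟨⟨P, hCfix d hdC⟩, fun v => Subtype.ext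
        (Sylow.smul_eq_iff_mem_normalizer.mpr (Subgroup.le_normalizer v.2))⟩⟩⟩
      have key : ∀ a : MulAction.fixedPoints (P : Subgroup G) A, a.1.1 = P := fun a =>
        card_fixed_sylow_eleven hP P a.1.1 fun v hv =>
          Sylow.smul_eq_iff_mem_normalizer.mp (congrArg Subtype.val (a.2 ⟨v, hv⟩))
      exact Subtype.ext (Subtype.ext ((key a).trans (key b).symm))
    rw [hfix, Nat.ModEq] at hmod
    have hfour := h.moved_four (α := Sylow 11 G) hdo (f := Nat.card A) rfl
    rw [hn] at hfour
    have hge : 2 ≤ Nat.card A := by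
      haveI : Nontrivial A := ⟨⟨⟨P, hCfix d hdC⟩, ⟨Q, hdQ⟩,
        fun e => hQ (congrArg Subtype.val e).symm⟩⟩
      exact Finite.one_lt_card
    have hle : Nat.card A ≤ 45 := hn ▸ Nat.card_le_card_of_injective _ Subtype.val_injective
    have hne : Nat.card A ≠ 45 := by
      intro e
      have hbij : Function.Bijective (Subtype.val : A → Sylow 11 G) :=
        Subtype.val_injective.bijective_of_nat_card_le (by rw [e, hn])
      rcases injective_or_trivial (MulAction.toPermHom G (Sylow 11 G)) with hi | ht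
      · have : d = 1 := hi (by
          ext R
          obtain ⟨a, rfl⟩ := hbij.2 R
          simp [a.2])
        simp [this] at hdo
      · obtain ⟨g, hg⟩ := MulAction.exists_smul_eq G P Q
        exact hQ (hg.symm.trans (Equiv.Perm.congr_fun (ht g) P))
    omega
  · have hkc5 : k * c = 5 := by omega
    obtain ⟨hk5, hc1⟩ : k = 5 ∧ c = 1 := by rcases hk with rfl | rfl | rfl <;> omega
    exact ⟨hn, hP, fun P => by rw [hC P, hc1], fun P => by rw [hN P, hkc5]⟩

theorem Hyp.card_centralizer_eleven (h : Hyp G) {x : G} (hx : orderOf x = 11) :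
    Nat.card (centralizer ({x} : Set G)) = 11 := by
  obtain ⟨-, hP, hC, -⟩ := h.eleven
  obtain ⟨P, hxP⟩ := (IsPGroup.of_card (G := zpowers x) (n := 1) (p := 11)
    (by rw [Nat.card_zpowers, hx, pow_one])).exists_le_sylow
  rw [← Subgroup.centralizer_closure, ← zpowers_eq_closure,
    Subgroup.eq_of_le_of_card_ge hxP (by rw [hP, Nat.card_zpowers, hx]), hC]

end Cfsg.Agent.Recog.OrderM11
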