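import Cfsg.Agent.Recog.OrderM11.Eleven

/-!
The Sylow subgroups of order five of a simple group of order 7920, and a bound for the number of
involutions.
-/

set_option autoImplicit false
set_option linter.style.haveILetI false
set_option linter.unusedSectionVars false

namespace Cfsg.Agent.Recog.OrderM11

open Cfsg.Agent.SmallGroups Subgroup

variable {G : Type*} [Group G] [Finite G]

/-- `Y` normalises `P`. -/
abbrev Fixes (Y : Sylow 5 G) (P : Sylow 11 G) : Prop :=
  (Y : Subgroup G) ≤ normalizer ((P : Subgroup G) : Set G)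

theorem fixes_smul (g : G) (Y : Sylow 5 G) (P : Sylow 11 G) :
    Fixes (g • Y) (g • P) ↔ Fixes Y P := by
  have key : ∀ v : G, g * v * g⁻¹ ∈ normalizer (((g • P : Sylow 11 G) : Subgroup G) : Set G) ↔
      v ∈ normalizer ((P : Subgroup G) : Set G) := fun v => by
    rw [← smul_eq_iff, ← smul_eq_iff, mul_smul, mul_smul,
      inv_smul_smul, smul_left_cancel_iff]
  have hmem : ∀ v : G, g * v * g⁻¹ ∈ ((g • Y : Sylow 5 G) : Subgroup G) ↔ v ∈ (Y : Subgroup G) :=
    fun v => by
      rw [Sylow.smul_def, Sylow.pointwise_smul_def]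
      exact Subgroup.smul_mem_pointwise_smul_iff (a := MulAut.conj g) (S := (Y : Subgroup G)) (x := v)
  refine ⟨fun hY v hv => (key v).mp (hY ((hmem v).mpr hv)), fun hY u hu => ?_⟩
  obtain ⟨v, rfl⟩ : ∃ v, g * v * g⁻¹ = u := ⟨g⁻¹ * u * g, by group⟩
  exact (key v).mpr (hY ((hmem v).mp hu))

theorem card_fixes_congr (Y Y' : Sylow 5 G) :
    Nat.card {P : Sylow 11 G // Fixes Y P} = Nat.card {P : Sylow 11 G // Fixes Y' P} := by
  obtain ⟨g, rfl⟩ := MulAction.exists_smul_eq G Y Y'
  exact Nat.card_congr (Equiv.subtypeEquiv (MulAction.toPerm g) fun P => (fixes_smul g Y P).symm)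

/-- Each normaliser of a subgroup of order eleven contains eleven subgroups of order five. -/
theorem Hyp.card_fixed_by (h : Hyp G) (hY : ∀ Y : Sylow 5 G, Nat.card (Y : Subgroup G) = 5)
    (P : Sylow 11 G) : Nat.card {Y : Sylow 5 G // Fixes Y P} = 11 := by
  obtain ⟨-, hP, hC, hN⟩ := h.eleven
  set N := normalizer ((P : Subgroup G) : Set G) with hNdef
  have hN55 : Nat.card N = 55 := hN P
  have hS : ∀ S : Sylow 5 N, Nat.card (S : Subgroup N) = 5 := fun S =>
    (card_sylow_subgroup (a := 1) (m := 11) (by rw [hN55]; norm_num) (by norm_num) S).trans (pow_one 5)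
  have hn : Nat.card (Sylow 5 N) = 11 := by
    obtain ⟨S⟩ : Nonempty (Sylow 5 N) := inferInstance
    have hd : Nat.card (Sylow 5 N) ∣ 11 := by
      have h1 := S.card_dvd_index
      have h2 := (S : Subgroup N).index_mul_card
      rw [hS, hN55] at h2
      rwa [show (S : Subgroup N).index = 11 by omega] at h1
    rcases (Nat.dvd_prime (by norm_num : Nat.Prime 11)).mp hd with h1 | h1
    swap
    · exact h1
    exfalso
    haveI : Subsingleton (Sylow 5 N) := (Nat.card_eq_one_iff_unique.mp h1).1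
    haveI hSn : (S : Subgroup N).Normal := S.normal_of_subsingleton
    obtain ⟨⟨⟨v, hvN⟩, hvS⟩, hvo⟩ := exists_prime_orderOf_dvd_card' (G := (S : Subgroup N)) 5 (by rw [hS])
    rw [Subgroup.orderOf_mk, Subgroup.orderOf_mk] at hvo
    have hvC : v ∈ centralizer ((P : Subgroup G) : Set G) := by
      intro x hx
      have hxN : x ∈ N := Subgroup.le_normalizer hx
      -- the commutator lies in both normal subgroups
      set z := x * v * x⁻¹ * v⁻¹ with hz
      have hz1 : z ∈ (P : Subgroup G) := by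
        have : v * x⁻¹ * v⁻¹ ∈ (P : Subgroup G) :=
          (Subgroup.mem_normalizer_iff.mp hvN x⁻¹).mp (inv_mem hx)
        rw [hz, show x * v * x⁻¹ * v⁻¹ = x * (v * x⁻¹ * v⁻¹) by group]
        exact mul_mem hx this
      have hz2 : (⟨z, Subgroup.le_normalizer hz1⟩ : N) ∈ (S : Subgroup N) := by
        have h2 := (S : Subgroup N).mul_mem (hSn.conj_mem _ hvS ⟨x, hxN⟩) (inv_mem hvS)
        exact h2
      have h5 := Subgroup.orderOf_dvd_natCard _ hz2
      rw [hS, Subgroup.orderOf_mk] at h5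
      have h11 := Subgroup.orderOf_dvd_natCard _ hz1
      rw [hP] at h11
      have hz0 := orderOf_eq_one_iff.mp (Nat.eq_one_of_dvd_coprimes (by norm_num) h5 h11)
      rw [hz, mul_inv_eq_one, mul_inv_eq_iff_eq_mul] at hz0
      exact hz0
    have h1' := Subgroup.orderOf_dvd_natCard _ hvC
    rw [hC, hvo] at h1'
    norm_num at h1'
  rw [← hn]
  refine Nat.card_congr
    { toFun := fun Y => Y.1.subtype Y.2
      invFun := fun S => ⟨?_, ?_⟩
      left_inv := ?_
      right_inv := ?_ }
  · exact Classical.choose ((S.isPGroup'.map N.subtype).exists_le_sylow)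
  · set Y := Classical.choose ((S.isPGroup'.map N.subtype).exists_le_sylow) with hYdef
    have hle : (S : Subgroup N).map N.subtype ≤ (Y : Subgroup G) :=
      Classical.choose_spec ((S.isPGroup'.map N.subtype).exists_le_sylow)
    change (Y : Subgroup G) ≤ N
    rw [← Subgroup.eq_of_le_of_card_ge hle (by rw [hY, Subgroup.card_map_of_injective N.subtype_injective, hS])]
    exact Subgroup.map_subtype_le _
  · intro Y
    apply Subtype.ext
    apply Sylow.ext
    set S := Y.1.subtype Y.2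
    have hle := Classical.choose_spec ((S.isPGroup'.map N.subtype).exists_le_sylow)
    refine ((Subgroup.eq_of_le_of_card_ge hle
      (by rw [hY, Subgroup.card_map_of_injective N.subtype_injective, hS])).symm.trans ?_)
    change (((Y.1 : Subgroup G).subgroupOf N).map N.subtype) = _
    rw [Subgroup.subgroupOf_map_subtype, inf_eq_left.mpr Y.2]
  · intro S
    apply Sylow.ext
    have hle := Classical.choose_spec ((S.isPGroup'.map N.subtype).exists_le_sylow)
    change (Subgroup.subgroupOf _ N) = _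
    rw [← Subgroup.eq_of_le_of_card_ge hle
      (by rw [hY, Subgroup.card_map_of_injective N.subtype_injective, hS]),
      ← Subgroup.comap_subtype, Subgroup.comap_map_eq_self_of_injective N.subtype_injective]

/-- Only the normalised point is fixed by two subgroups of order five of one normaliser. -/
theorem Hyp.fixes_disjoint (h : Hyp G) (hY : ∀ Y : Sylow 5 G, Nat.card (Y : Subgroup G) = 5)
    {Y Y' : Sylow 5 G} {P Q : Sylow 11 G} (h1 : Fixes Y P) (h2 : Fixes Y' P) (h3 : Fixes Y Q)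
    (h4 : Fixes Y' Q) (hQ : Q ≠ P) : Y = Y' := by
  obtain ⟨-, hP, -, hN⟩ := h.eleven
  set M := normalizer ((P : Subgroup G) : Set G) ⊓ normalizer ((Q : Subgroup G) : Set G) with hM
  have hd : Nat.card M ∣ 5 * 11 := by
    rw [show 5 * 11 = 55 from rfl, ← hN P]; exact Subgroup.card_dvd_of_le inf_le_left
  have h11 : ¬ 11 ∣ Nat.card M := by
    intro hd11
    obtain ⟨⟨v, hv⟩, hvo⟩ := exists_prime_orderOf_dvd_card' (G := M) 11 hd11
    rw [Subgroup.orderOf_mk] at hvo
    refine hQ (card_fixed_sylow_eleven hP P Q ?_)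
    rw [← Subgroup.eq_of_le_of_card_ge (zpowers_le.mpr (mem_of_normalizes hvo P hv.1))
      (by rw [hP, Nat.card_zpowers, hvo])]
    exact zpowers_le.mpr hv.2
  have hle : Nat.card M ≤ 5 := Nat.le_of_dvd (by norm_num)
    (((Nat.Prime.coprime_iff_not_dvd (by norm_num)).mpr h11).symm.dvd_of_dvd_mul_right hd)
  have e1 : (Y : Subgroup G) = M := Subgroup.eq_of_le_of_card_ge (le_inf h1 h3) (by rw [hY]; exact hle)
  have e2 : (Y' : Subgroup G) = M := Subgroup.eq_of_le_of_card_ge (le_inf h2 h4) (by rw [hY]; exact hle)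
  exact Sylow.ext (e1.trans e2.symm)

/-- The Sylow data for the prime five. -/
theorem Hyp.five (h : Hyp G) :
    Nat.card (Sylow 5 G) = 396 ∧
      (∀ Y : Sylow 5 G, Nat.card (Y : Subgroup G) = 5) ∧
      (∀ Y : Sylow 5 G, Nat.card (normalizer ((Y : Subgroup G) : Set G)) = 20) ∧
      (∀ Y : Sylow 5 G, Nat.card {P : Sylow 11 G // Fixes Y P} = 4) ∧
      ((∀ Y : Sylow 5 G, Nat.card (centralizer ((Y : Subgroup G) : Set G)) = 5) ∨
        ∀ Y : Sylow 5 G, Nat.card (centralizer ((Y : Subgroup G) : Set G)) = 10) := by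
  classical
  haveI := h.simple
  obtain ⟨hn11, hP, -, -⟩ := h.eleven
  obtain ⟨n, k, c, hn, -, hk, hkc, hY, hC, hN⟩ :=
    exists_primeSylow_data (r := 5) (m := 1584) h.nc (by rw [h.card]) (by norm_num)
  obtain ⟨Y₀⟩ : Nonempty (Sylow 5 G) := inferInstance
  obtain ⟨P₀⟩ : Nonempty (Sylow 11 G) := inferInstance
  obtain ⟨f, hf⟩ : ∃ f, ∀ Y : Sylow 5 G, Nat.card {P : Sylow 11 G // Fixes Y P} = f :=
    ⟨_, fun Y => card_fixes_congr Y Y₀⟩
  have hdc := double_count (fun (Y : Sylow 5 G) (P : Sylow 11 G) => Fixes Y P) hf (h.card_fixed_by hY)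
  rw [hn11, hn] at hdc
  have hfkc : f = k * c := by
    have hn0 : 0 < n := by
      rcases Nat.eq_zero_or_pos n with h0 | h0
      · rw [h0, Nat.zero_mul] at hkc; omega
      · exact h0
    exact Nat.eq_of_mul_eq_mul_left hn0 (hdc.trans (by norm_num [hkc]))
  have hmod : f % 5 = 4 := by
    have h1 := (IsPGroup.of_card (G := (Y₀ : Subgroup G)) (n := 1) (p := 5)
      (by rw [hY, pow_one])).card_modEq_card_fixedPoints (Sylow 11 G)
    rw [hn11, Nat.ModEq, Nat.card_congr (β := {P : Sylow 11 G // Fixes Y₀ P})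
      (Equiv.subtypeEquivRight fun P => ⟨fun hfp v hv => smul_eq_iff.mp (hfp ⟨v, hv⟩),
        fun hfix v => smul_eq_iff.mpr (hfix v.2)⟩), hf] at h1
    omega
  -- the other fixed points of the subgroups of one normaliser are distinct
  have hbound : 11 * (f - 1) ≤ 143 := by
    let A := Σ Y : {Y : Sylow 5 G // Fixes Y P₀}, {P : {P : Sylow 11 G // Fixes Y.1 P} // P.1 ≠ P₀}
    have hA : Nat.card A = 11 * (f - 1) := by
      haveI := Fintype.ofFinite {Y : Sylow 5 G // Fixes Y P₀}
      rw [Nat.card_sigma, Finset.sum_const_nat (m := f - 1), Finset.card_univ,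
        ← Nat.card_eq_fintype_card, h.card_fixed_by hY]
      intro Y _
      haveI := Fintype.ofFinite {P : Sylow 11 G // Fixes Y.1 P}
      rw [Nat.card_congr (Equiv.subtypeEquivRight (q := fun P => P ≠ ⟨P₀, Y.2⟩)
        fun P => not_congr ⟨fun e => Subtype.ext e, fun e => congrArg Subtype.val e⟩),
        Nat.card_eq_fintype_card, Fintype.card_subtype_compl, Fintype.card_subtype_eq,
        ← Nat.card_eq_fintype_card, hf]
    haveI := Fintype.ofFinite (Sylow 11 G)
    have hB : Nat.card {P : Sylow 11 G // P ≠ P₀} = 143 := by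
      rw [Nat.card_eq_fintype_card, Fintype.card_subtype_compl, Fintype.card_subtype_eq,
        ← Nat.card_eq_fintype_card, hn11]
    rw [← hA, ← hB]
    refine Nat.card_le_card_of_injective (fun x : A => (⟨x.2.1.1, x.2.2⟩ : {P : Sylow 11 G // P ≠ P₀})) ?_
    rintro ⟨⟨Y, hY1⟩, ⟨⟨P, hP1⟩, hPne⟩⟩ ⟨⟨Y', hY2⟩, ⟨⟨P', hP2⟩, hP'ne⟩⟩ e
    obtain rfl : P = P' := congrArg Subtype.val e
    obtain rfl := h.fixes_disjoint hY hY1 hY2 hP1 hP2 hPne
    rfl
  have hfd : f ∈ Nat.divisors 1584 := Nat.mem_divisors.mpr ⟨⟨n, by rw [mul_comm, hfkc, hkc]⟩, by norm_num⟩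
  have hcase : f = 4 ∨ f = 9 := by
    have key : ∀ d ∈ Nat.divisors 1584, d % 5 = 4 → d ≤ 14 → d = 4 ∨ d = 9 := by decide +kernel
    exact key f hfd hmod (by omega)
  rw [show (5 - 1 : ℕ).divisors.filter (fun a => 1 < a) = {2, 4} by decide +kernel] at hk
  simp only [Finset.mem_insert, Finset.mem_singleton] at hk
  have hf4 : f = 4 := hcase.resolve_right fun h9 => by
    rcases hk with rfl | rfl <;> omega
  rw [hf4] at hfkc
  refine ⟨?_, hY, fun Y => by rw [hN Y, ← hfkc], fun Y => (hf Y).trans hf4, ?_⟩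
  · rw [hn]; rw [← hfkc] at hkc; omega
  · rcases hk with rfl | rfl
    · exact Or.inr fun Y => by rw [hC Y, show c = 2 by omega]
    · exact Or.inl fun Y => by rw [hC Y, show c = 1 by omega]

/-- If `j` bounds the involutions normalising a subgroup of order five, there are at most
`110 + 11 j` involutions. -/
theorem Hyp.card_invol_le (h : Hyp G) (j : ℕ)
    (hj : ∀ Y : Sylow 5 G,
      Nat.card {s : G // orderOf s = 2 ∧ s ∈ normalizer ((Y : Subgroup G) : Set G)} ≤ j) :
    Nat.card {s : G // orderOf s = 2} ≤ 110 + 11 * j := by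
  classical
  obtain ⟨hn11, hP, -, hN⟩ := h.eleven
  obtain ⟨-, hY, -, hf, -⟩ := h.five
  obtain ⟨P₀⟩ : Nonempty (Sylow 11 G) := inferInstance
  haveI := Fintype.ofFinite (Sylow 11 G)
  haveI := Fintype.ofFinite {Y : Sylow 5 G // Fixes Y P₀}
  let Bad : Sylow 11 G → Prop := fun P => ∃ Y : Sylow 5 G, Fixes Y P₀ ∧ Fixes Y P
  have hmove : ∀ s : G, orderOf s = 2 → s • P₀ ≠ P₀ := by
    intro s hs e
    have h1 := Subgroup.orderOf_dvd_natCard _ (smul_eq_iff.mp e)
    rw [hs, hN] at h1
    norm_num at h1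
  -- two involutions with the same image differ by an element of both normalisers
  have hback : ∀ s : G, orderOf s = 2 → s • s • P₀ = P₀ := fun s hs => by
    rw [← mul_smul, ← sq, ← hs, pow_orderOf_eq_one, one_smul]
  have hsame : ∀ s s' : G, orderOf s = 2 → orderOf s' = 2 → s • P₀ = s' • P₀ → ¬ Bad (s • P₀) →
      s = s' := by
    intro s s' hs hs' e hbad
    by_contra hne
    set z := s' * s with hz
    have hzne : z ≠ 1 := fun e1 => hne (by
      have hs'2 : s' * s' = 1 := by rw [← sq, ← hs', pow_orderOf_eq_one]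
      exact mul_left_cancel (e1.trans hs'2.symm))
    have hz0 : z • P₀ = P₀ := by rw [hz, mul_smul, e, hback s' hs']
    have hz1 : z • s • P₀ = s • P₀ := by rw [hz, mul_smul, hback s hs, e]
    have hzd := Subgroup.orderOf_dvd_natCard _ (smul_eq_iff.mp hz0)
    rw [hN] at hzd
    have hz55 : orderOf z ∈ Nat.divisors 55 := Nat.mem_divisors.mpr ⟨hzd, by norm_num⟩
    rw [show (55 : ℕ).divisors = {1, 5, 11, 55} by decide +kernel] at hz55
    simp only [Finset.mem_insert, Finset.mem_singleton] at hz55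
    have h11 : ∀ v : G, orderOf v = 11 → v • P₀ = P₀ → v • s • P₀ = s • P₀ → False := by
      intro v hv h0 h1
      refine hmove s hs (card_fixed_sylow_eleven hP P₀ (s • P₀) ?_)
      rw [← Subgroup.eq_of_le_of_card_ge (zpowers_le.mpr
        (mem_of_normalizes hv P₀ (smul_eq_iff.mp h0)))
        (by rw [hP, Nat.card_zpowers, hv])]
      exact zpowers_le.mpr (smul_eq_iff.mp h1)
    rcases hz55 with hzo | hzo | hzo | hzo
    · exact hzne (orderOf_eq_one_iff.mp hzo)
    · obtain ⟨Y, hzY⟩ := (IsPGroup.of_card (G := zpowers z) (n := 1) (p := 5)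
        (by rw [Nat.card_zpowers, hzo, pow_one])).exists_le_sylow
      have hYz : (Y : Subgroup G) = zpowers z :=
        (Subgroup.eq_of_le_of_card_ge hzY (by rw [hY, Nat.card_zpowers, hzo])).symm
      exact hbad ⟨Y, hYz.le.trans (zpowers_le.mpr (smul_eq_iff.mp hz0)),
        hYz.le.trans (zpowers_le.mpr (smul_eq_iff.mp hz1))⟩
    · exact h11 z hzo hz0 hz1
    · refine h11 (z ^ 5) (by rw [orderOf_pow' _ (by norm_num), hzo]; rfl) ?_ ?_ <;>
        simp [pow_succ, mul_smul, hz0, hz1]
  -- the bad points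
  let A := Σ Y : {Y : Sylow 5 G // Fixes Y P₀}, {P : Sylow 11 G // Fixes Y.1 P ∧ P ≠ P₀}
  have hbadcard : Nat.card {P : Sylow 11 G // P ≠ P₀ ∧ ¬ Bad P} = 110 := by
    have hAcard : Nat.card A = 33 := by
      rw [Nat.card_sigma, Finset.sum_const_nat (m := 3), Finset.card_univ,
        ← Nat.card_eq_fintype_card, h.card_fixed_by hY]
      intro Y _
      have hcard4 := hf Y.1
      rw [Nat.card_eq_fintype_card, Fintype.card_subtype] at hcard4 ⊢
      have e : (Finset.univ.filter fun P : Sylow 11 G => Fixes Y.1 P ∧ P ≠ P₀) =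
          (Finset.univ.filter fun P : Sylow 11 G => Fixes Y.1 P).erase P₀ := by
        ext P; simp [and_comm]
      rw [e, Finset.card_erase_of_mem (Finset.mem_filter.mpr ⟨Finset.mem_univ _, Y.2⟩), hcard4]
    have hB : Nat.card {P : Sylow 11 G // P ≠ P₀ ∧ Bad P} = 33 := by
      rw [← hAcard]
      refine (Nat.card_eq_of_bijective
        (fun x : A => (⟨x.2.1, x.2.2.2, x.1.1, x.1.2, x.2.2.1⟩ : {P : Sylow 11 G // P ≠ P₀ ∧ Bad P}))
        ⟨?_, ?_⟩).symm
      · rintro ⟨⟨Y, h1⟩, ⟨P, h3, h4⟩⟩ ⟨⟨Y', h2⟩, ⟨P', h5, h6⟩⟩ e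
        obtain rfl : P = P' := congrArg Subtype.val e
        obtain rfl := h.fixes_disjoint hY h1 h2 h3 h5 h4
        rfl
      · rintro ⟨P, hne, Y, h1, h2⟩
        exact ⟨⟨⟨Y, h1⟩, ⟨P, h2, hne⟩⟩, rfl⟩
    rw [Nat.card_eq_fintype_card, Fintype.card_subtype] at hB ⊢
    have hsum := Finset.card_filter_add_card_filter_not
      (s := (Finset.univ : Finset (Sylow 11 G)).erase P₀) (p := Bad)
    rw [Finset.card_erase_of_mem (Finset.mem_univ _), Finset.card_univ, ← Nat.card_eq_fintype_card,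
      hn11] at hsum
    have e1 : ((Finset.univ : Finset (Sylow 11 G)).erase P₀).filter Bad =
        Finset.univ.filter fun P => P ≠ P₀ ∧ Bad P := by ext; simp
    have e2 : ((Finset.univ : Finset (Sylow 11 G)).erase P₀).filter (fun P => ¬ Bad P) =
        Finset.univ.filter fun P => P ≠ P₀ ∧ ¬ Bad P := by ext; simp
    rw [e1, e2, hB] at hsum
    omega
  -- involutions with bad image normalise the subgroup of order five
  have hnorm : ∀ s : G, orderOf s = 2 → ∀ Y : Sylow 5 G, Fixes Y P₀ → Fixes Y (s • P₀) →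
      s ∈ normalizer ((Y : Subgroup G) : Set G) := by
    intro s hs Y h1 h2
    refine smul_eq_iff.mp (h.fixes_disjoint hY h1 ?_ h2 ?_ (hmove s hs)).symm
    · have := (fixes_smul s Y (s • P₀)).mpr h2
      rwa [hback s hs] at this
    · exact (fixes_smul s Y P₀).mpr h1
  let T := {P : Sylow 11 G // P ≠ P₀ ∧ ¬ Bad P} ⊕
    Σ Y : {Y : Sylow 5 G // Fixes Y P₀},
      {s : G // orderOf s = 2 ∧ s ∈ normalizer ((Y.1 : Subgroup G) : Set G)}
  let φ : {s : G // orderOf s = 2} → T := fun s =>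
    if hb : Bad (s.1 • P₀) then Sum.inr ⟨⟨hb.choose, hb.choose_spec.1⟩, s.1, s.2,
      hnorm s.1 s.2 _ hb.choose_spec.1 hb.choose_spec.2⟩
    else Sum.inl ⟨s.1 • P₀, hmove s.1 s.2, hb⟩
  have hφ : Function.Injective φ := by
    rintro ⟨s, hs⟩ ⟨s', hs'⟩ e
    by_cases hb : Bad (s • P₀) <;> by_cases hb' : Bad (s' • P₀) <;>
      simp only [φ, dif_pos, dif_neg, hb, hb', not_false_eq_true] at e
    · have key := congrArg (Sum.elim (fun _ => (1 : G)) fun x => x.2.1) e
      exact Subtype.ext key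
    · exact absurd e Sum.inr_ne_inl
    · exact absurd e Sum.inl_ne_inr
    · exact Subtype.ext (hsame s s' hs hs' (congrArg Subtype.val (Sum.inl.inj e)) hb)
  have hle := Nat.card_le_card_of_injective φ hφ
  rw [Nat.card_sum, hbadcard, Nat.card_sigma] at hle
  have hsumle : (∑ Y : {Y : Sylow 5 G // Fixes Y P₀},
      Nat.card {s : G // orderOf s = 2 ∧ s ∈ normalizer ((Y.1 : Subgroup G) : Set G)}) ≤ 11 * j := by
    refine (Finset.sum_le_card_nsmul _ _ j fun Y _ => hj Y.1).trans (le_of_eq ?_)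
    rw [Finset.card_univ, ← Nat.card_eq_fintype_card, h.card_fixed_by hY, smul_eq_mul]
  omega

end Cfsg.Agent.Recog.OrderM11
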