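import Cfsg.Agent.Recog.OrderM11.Inverter

/-!
The graph on the 55 Sylow 3-subgroups, two of them adjacent when one involution inverts both.
It has valency 18 and is edge and non-edge transitive.
-/

set_option autoImplicit false
set_option linter.style.haveILetI false
set_option linter.unusedSectionVars false

namespace Cfsg.Agent.Recog.OrderM11

open Cfsg.Agent.SmallGroups Subgroup

variable {G : Type*} [Group G] [Finite G]

/-- Adjacency. -/
def Adj (P Q : Sylow 3 G) : Prop := P ≠ Q ∧ ∃ t : G, Inv t P ∧ Inv t Q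

theorem Adj.symm {P Q : Sylow 3 G} (h : Adj P Q) : Adj Q P :=
  ⟨h.1.symm, let ⟨t, a, b⟩ := h.2; ⟨t, b, a⟩⟩

theorem Adj.smul {P Q : Sylow 3 G} (h : Adj P Q) (g : G) : Adj (g • P) (g • Q) :=
  ⟨fun e => h.1 (smul_left_cancel g e), let ⟨t, a, b⟩ := h.2; ⟨g * t * g⁻¹, a.smul g, b.smul g⟩⟩

theorem adj_smul_iff {g : G} {P Q : Sylow 3 G} : Adj (g • P) (g • Q) ↔ Adj P Q :=
  ⟨fun h => by simpa using h.smul g⁻¹, fun h => h.smul g⟩

/-- The common neighbours. -/
noncomputable def common (P Q : Sylow 3 G) : ℕ := Nat.card {R : Sylow 3 G // Adj P R ∧ Adj Q R}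

theorem common_smul (g : G) (P Q : Sylow 3 G) : common (g • P) (g • Q) = common P Q :=
  (Nat.card_congr (Equiv.subtypeEquiv (MulAction.toPerm g)
    fun _ => ((adj_smul_iff (g := g)).and (adj_smul_iff (g := g))).symm)).symm

/-- Three Sylow subgroups inverted by `t`. -/
structure Tri (t : G) (P a b : Sylow 3 G) : Prop where
  hP : Inv t P
  ha : Inv t a
  hb : Inv t b
  aP : a ≠ P
  bP : b ≠ P
  ab : a ≠ b

theorem Tri.swap {t : G} {P a b : Sylow 3 G} (τ : Tri t P a b) : Tri t P b a :=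
  ⟨τ.hP, τ.hb, τ.ha, τ.bP, τ.aP, τ.ab.symm⟩

theorem Tri.adj {t : G} {P a b : Sylow 3 G} (τ : Tri t P a b) : Adj P a :=
  ⟨τ.aP.symm, t, τ.hP, τ.ha⟩

theorem mem_smul_self {P : Sylow 3 G} {p : G} (hp : p ∈ (P : Subgroup G)) : p • P = P :=
  smul_sylow_of_mem (Subgroup.le_normalizer hp)

theorem Tri.smul {t : G} {P a b : Sylow 3 G} (τ : Tri t P a b) (g : G) :
    Tri (g * t * g⁻¹) (g • P) (g • a) (g • b) :=
  ⟨τ.hP.smul g, τ.ha.smul g, τ.hb.smul g, fun e => τ.aP (smul_left_cancel g e),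
    fun e => τ.bP (smul_left_cancel g e), fun e => τ.ab (smul_left_cancel g e)⟩

variable (I : Invol G) (h : Hyp G) (T : Three G)

include I h T in
theorem Tri.only {t : G} {P a b : Sylow 3 G} (τ : Tri t P a b) {Q : Sylow 3 G} (hQ : Inv t Q) :
    Q = P ∨ Q = a ∨ Q = b := by
  classical
  haveI := Fintype.ofFinite {R : Sylow 3 G // Inv t R}
  by_contra hne
  push Not at hne
  have h4 : ({⟨P, τ.hP⟩, ⟨a, τ.ha⟩, ⟨b, τ.hb⟩, ⟨Q, hQ⟩} : Finset {R : Sylow 3 G // Inv t R}).card = 4 := by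
    rw [Finset.card_insert_of_notMem, Finset.card_insert_of_notMem, Finset.card_insert_of_notMem,
      Finset.card_singleton]
    · simp [hne.2.2.symm]
    · simp [τ.ab, hne.2.1.symm]
    · simp [τ.aP.symm, τ.bP.symm, hne.1.symm]
  have := Finset.card_le_univ ({⟨P, τ.hP⟩, ⟨a, τ.ha⟩, ⟨b, τ.hb⟩, ⟨Q, hQ⟩} :
    Finset {R : Sylow 3 G // Inv t R})
  rw [h4, ← Nat.card_eq_fintype_card, three_card I h T τ.hP.1] at this
  omega

include I h T in
theorem exists_tri {t : G} {P a : Sylow 3 G} (hP : Inv t P) (ha : Inv t a) (hne : a ≠ P) :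
    ∃ b, Tri t P a b := by
  classical
  haveI := Fintype.ofFinite {R : Sylow 3 G // Inv t R}
  obtain ⟨b, -, hb⟩ := Finset.exists_mem_notMem_of_card_lt_card
    (s := ({⟨P, hP⟩, ⟨a, ha⟩} : Finset {R : Sylow 3 G // Inv t R})) (t := Finset.univ) (by
      rw [Finset.card_univ, ← Nat.card_eq_fintype_card, three_card I h T hP.1]
      exact Nat.lt_succ_of_le Finset.card_le_two)
  simp only [Finset.mem_insert, Finset.mem_singleton, not_or] at hb
  exact ⟨b.1, hP, ha, b.2, hne, fun e => hb.1 (Subtype.ext e), fun e => hb.2 (Subtype.ext e.symm)⟩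

include I h T in
theorem exists_tri' (P : Sylow 3 G) : ∃ t a b, Tri t P a b := by
  classical
  obtain ⟨z, hz⟩ := exists_inv' I h T P
  haveI := Fintype.ofFinite {R : Sylow 3 G // Inv z R}
  obtain ⟨a, -, ha⟩ := Finset.exists_mem_notMem_of_card_lt_card
    (s := ({⟨P, hz⟩} : Finset {R : Sylow 3 G // Inv z R})) (t := Finset.univ) (by
      rw [Finset.card_singleton, Finset.card_univ, ← Nat.card_eq_fintype_card, three_card I h T hz.1]
      norm_num)
  simp only [Finset.mem_singleton] at ha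
  obtain ⟨b, hb⟩ := exists_tri I h T hz a.2 (fun e => ha (Subtype.ext e))
  exact ⟨z, a.1, b, hb⟩

include I h T in
theorem eq_one_of_fix {P Q : Sylow 3 G} {p : G} (hp : p ∈ (P : Subgroup G)) (hPQ : Q ≠ P)
    (hfix : p • Q = Q) : p = 1 := by
  by_contra hp1
  exact hPQ (T.meet P Q p hp
    (mem_of_normalizes (T.order P p hp hp1).1 Q (smul_eq_iff.mp hfix)) hp1).symm

include I h T in
theorem Tri.inj {t : G} {P a b : Sylow 3 G} (τ : Tri t P a b) {p q : G}
    (hp : p ∈ (P : Subgroup G)) (hq : q ∈ (P : Subgroup G)) (e : p • a = q • a) : p = q := by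
  have h1 := eq_one_of_fix I h T (mul_mem (inv_mem hq) hp) τ.aP
    (by rw [mul_smul, e, inv_smul_smul])
  exact (inv_mul_eq_one.mp h1).symm

include I h T in
theorem Tri.sep {t : G} {P a b : Sylow 3 G} (τ : Tri t P a b) {p q : G}
    (hp : p ∈ (P : Subgroup G)) (hq : q ∈ (P : Subgroup G)) : p • a ≠ q • b := by
  intro e
  have hr : q⁻¹ * p ∈ (P : Subgroup G) := mul_mem (inv_mem hq) hp
  have hab : (q⁻¹ * p) • a = b := by rw [mul_smul, e, inv_smul_smul]
  have h1 := τ.hP.smul (q⁻¹ * p)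
  rw [mem_smul_self hr] at h1
  have h2 := τ.ha.smul (q⁻¹ * p)
  rw [hab] at h2
  have h3 := h1.unique T τ.hP h2 τ.hb τ.bP.symm
  have h4 := τ.hP.not_commute h hr ((mul_inv_eq_iff_eq_mul.mp h3 : Commute (q⁻¹ * p) t)).symm
  rw [h4, one_smul] at hab
  exact τ.ab hab

include I h T in
theorem Tri.nbr {t : G} {P a b : Sylow 3 G} (τ : Tri t P a b) {Q : Sylow 3 G} (hQ : Adj P Q) :
    ∃ p ∈ (P : Subgroup G), Q = p • a ∨ Q = p • b := by
  obtain ⟨hne, s, hsP, hsQ⟩ := hQ
  have hd : s * t ∈ (P : Subgroup G) := hsP.diff T τ.hP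
  have hd3 : (s * t) ^ 3 = 1 := by
    by_cases h1 : s * t = 1
    · rw [h1, one_pow]
    · exact orderOf_dvd_iff_pow_eq_one.mp (T.order P _ hd h1).1.dvd
  set p := (s * t) ^ 2 with hp
  have hpP : p ∈ (P : Subgroup G) := pow_mem hd 2
  have hconj : p * t * p⁻¹ = s := by
    calc p * t * p⁻¹ = p * (t * p⁻¹ * t⁻¹) * t := by group
      _ = p * p * t := by rw [τ.hP.2 _ (inv_mem hpP), inv_inv]
      _ = (s * t) ^ 3 * (s * t) * t := by rw [hp, ← pow_add, ← pow_succ]
      _ = s := by rw [hd3, one_mul, mul_assoc, invol_mul_self τ.hP.1, mul_one]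
  have hinv : Inv t (p⁻¹ • Q) := by
    rw [← Inv.conj_iff (g := p), hconj, smul_inv_smul]
    exact hsQ
  refine ⟨p, hpP, ?_⟩
  rcases τ.only I h T hinv with e | e | e
  · refine absurd ?_ hne
    rw [← mem_smul_self hpP]
    exact (inv_smul_eq_iff.mp e).symm
  · exact Or.inl (inv_smul_eq_iff.mp e)
  · exact Or.inr (inv_smul_eq_iff.mp e)

/-- The parametrisation of the neighbours. -/
noncomputable def Tri.param {t : G} {P a b : Sylow 3 G} (τ : Tri t P a b)
    (x : ↥(P : Subgroup G) × Bool) : {Q : Sylow 3 G // Adj P Q} :=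
  ⟨x.1.1 • (bif x.2 then b else a), by
    have h1 : Adj P (bif x.2 then b else a) := by
      cases x.2
      · exact τ.adj
      · exact τ.swap.adj
    have := h1.smul x.1.1
    rwa [mem_smul_self x.1.2] at this⟩

include I h T in
theorem Tri.param_bij {t : G} {P a b : Sylow 3 G} (τ : Tri t P a b) :
    Function.Bijective τ.param := by
  constructor
  · rintro ⟨p, i⟩ ⟨q, j⟩ e
    have e' : p.1 • (bif i then b else a) = q.1 • (bif j then b else a) := congrArg Subtype.val e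
    cases i <;> cases j
    · exact Prod.ext (Subtype.ext (τ.inj I h T p.2 q.2 e')) rfl
    · exact absurd e' (τ.sep I h T p.2 q.2)
    · exact absurd e'.symm (τ.sep I h T q.2 p.2)
    · exact Prod.ext (Subtype.ext (τ.swap.inj I h T p.2 q.2 e')) rfl
  · rintro ⟨Q, hQ⟩
    obtain ⟨p, hp, e | e⟩ := τ.nbr I h T hQ
    · exact ⟨(⟨p, hp⟩, false), Subtype.ext e.symm⟩
    · exact ⟨(⟨p, hp⟩, true), Subtype.ext e.symm⟩

include I h T in
theorem nbr_card (P : Sylow 3 G) : Nat.card {Q : Sylow 3 G // Adj P Q} = 18 := by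
  obtain ⟨t, a, b, τ⟩ := exists_tri' I h T P
  rw [← Nat.card_eq_of_bijective _ (τ.param_bij I h T), Nat.card_prod, h.sylow_three P,
    Nat.card_eq_fintype_card, Fintype.card_bool]

include I h T in
theorem Tri.exists_swap {t : G} {P a b : Sylow 3 G} (τ : Tri t P a b) :
    ∃ g : G, Commute g t ∧ g • P = P ∧ g • a = b ∧ g • b = a := by
  classical
  obtain ⟨g, hg, hgQ⟩ := (local_symm I h T τ.hP).1 (Equiv.swap ⟨a, τ.ha⟩ ⟨b, τ.hb⟩)
  refine ⟨g, hg, ?_, ?_, ?_⟩
  · have := hgQ ⟨P, τ.hP⟩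
    rwa [Equiv.swap_apply_of_ne_of_ne (fun e => τ.aP (congrArg Subtype.val e).symm)
      (fun e => τ.bP (congrArg Subtype.val e).symm)] at this
  · simpa using hgQ ⟨a, τ.ha⟩
  · simpa using hgQ ⟨b, τ.hb⟩

include I h T in
theorem stab_trans {P Q R : Sylow 3 G} (hQ : Adj P Q) (hR : Adj P R) :
    ∃ g : G, g • P = P ∧ g • Q = R := by
  obtain ⟨t, a, b, τ⟩ := exists_tri' I h T P
  obtain ⟨k, -, hkP, hka, -⟩ := τ.exists_swap I h T
  have key : ∀ S, Adj P S → ∃ g : G, g • P = P ∧ g • a = S := fun S hS => by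
    obtain ⟨p, hp, e | e⟩ := τ.nbr I h T hS
    · exact ⟨p, mem_smul_self hp, e.symm⟩
    · exact ⟨p * k, by rw [mul_smul, hkP, mem_smul_self hp], by rw [mul_smul, hka, e]⟩
  obtain ⟨g₁, h1, h1'⟩ := key Q hQ
  obtain ⟨g₂, h2, h2'⟩ := key R hR
  refine ⟨g₂ * g₁⁻¹, ?_, ?_⟩
  · rw [mul_smul, inv_smul_eq_iff.mpr h1.symm, h2]
  · rw [mul_smul, inv_smul_eq_iff.mpr h1'.symm, h2']

include I h T in
theorem edge_trans {P Q P' Q' : Sylow 3 G} (hQ : Adj P Q) (hQ' : Adj P' Q') :
    ∃ g : G, g • P = P' ∧ g • Q = Q' := by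
  obtain ⟨g, rfl⟩ := MulAction.exists_smul_eq G P P'
  obtain ⟨k, hk1, hk2⟩ := stab_trans I h T (hQ.smul g) hQ'
  exact ⟨k * g, by rw [mul_smul, hk1], by rw [mul_smul, hk2]⟩

theorem mem_zpowers_three {c x : G} (hc : orderOf c = 3) (hx : x ∈ zpowers c) :
    x = 1 ∨ x = c ∨ x = c⁻¹ := by
  classical
  rw [mem_zpowers_iff_mem_range_orderOf, hc] at hx
  simp only [Finset.mem_image, Finset.mem_range] at hx
  obtain ⟨i, hi, rfl⟩ := hx
  interval_cases i
  · exact Or.inl (pow_zero c)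
  · exact Or.inr (Or.inl (pow_one c))
  · exact Or.inr (Or.inr (eq_inv_of_mul_eq_one_left
      (by rw [← pow_succ]; exact orderOf_dvd_iff_pow_eq_one.mp hc.dvd)))

include I h T in
theorem small_of_central {P : Sylow 3 G} {S : Subgroup G} {u : G} (hu : orderOf u = 2)
    (huS : ∀ s ∈ S, Commute u s) (hSN : S ≤ normalizer ((P : Subgroup G) : Set G))
    (h16 : Nat.card S ∣ 16) (huP : u ∈ normalizer ((P : Subgroup G) : Set G)) (hninv : ¬ Inv u P) :
    Nat.card S ≤ 4 := by
  classical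
  haveI := h.sylow_three_comm P
  obtain ⟨p, hp, hpne⟩ : ∃ p ∈ (P : Subgroup G), p * (u * p * u⁻¹) ≠ 1 := by
    by_contra hall
    push Not at hall
    exact hninv ⟨hu, fun p hp => eq_inv_of_mul_eq_one_right (hall p hp)⟩
  have hup := (Subgroup.mem_normalizer_iff.mp huP p).mp hp
  set c := p * (u * p * u⁻¹) with hc
  have hcP : c ∈ (P : Subgroup G) := mul_mem hp hup
  have hc3 := (T.order P c hcP hpne).1
  have huc : Commute u c := mul_inv_eq_iff_eq_mul.mp (by
    rw [hc]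
    calc u * (p * (u * p * u⁻¹)) * u⁻¹ = (u * p * u⁻¹) * ((u * u) * p * (u * u)⁻¹) := by group
      _ = (u * p * u⁻¹) * p := by rw [invol_mul_self hu]; group
      _ = p * (u * p * u⁻¹) := ((P : Subgroup G).le_centralizer hp) _ hup)
  set E := (P : Subgroup G) ⊓ centralizer ({u} : Set G) with hE
  have hE3 : Nat.card E ∣ 3 := by
    have h1 : Nat.card E ∣ 9 := h.sylow_three P ▸ Subgroup.card_dvd_of_le inf_le_left
    have h2 : Nat.card E ∣ 48 := I.cent u hu ▸ Subgroup.card_dvd_of_le inf_le_right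
    exact Nat.dvd_gcd h1 h2
  have hEc : zpowers c = E := Subgroup.eq_of_le_of_card_ge
    (zpowers_le.mpr ⟨hcP, mem_cent.mpr huc.symm⟩)
    (by rw [Nat.card_zpowers, hc3]; exact Nat.le_of_dvd (by norm_num) hE3)
  have hle : S ≤ centralizer ({u} : Set G) ⊓ normalizer ((zpowers c : Subgroup G) : Set G) := by
    intro g hg
    refine ⟨mem_cent.mpr (huS g hg).symm, (mem_normalizer_zpowers hc3).mpr ?_⟩
    have hmem : g * c * g⁻¹ ∈ zpowers c := by
      rw [hEc]
      refine ⟨(Subgroup.mem_normalizer_iff.mp (hSN hg) c).mp hcP, mem_cent.mpr ?_⟩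
      exact ((huS g hg).mul_right huc |>.mul_right (huS g hg).inv_right).symm
    rcases mem_zpowers_three hc3 hmem with e | e | e
    · exact absurd (conj_eq_one_iff.mp e) hpne
    · exact Or.inl e
    · exact Or.inr e
  have h12 := Subgroup.card_dvd_of_le hle
  rw [show Nat.card ↥(centralizer ({u} : Set G) ⊓ normalizer ((zpowers c : Subgroup G) : Set G)) = 12
    from (I.six h hu hc3 huc).2] at h12
  exact Nat.le_of_dvd (by norm_num) (Nat.dvd_gcd h16 h12)

include I h T in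
theorem pair_stab_le {P Q : Sylow 3 G} (hne : Q ≠ P) (hadj : ¬ Adj P Q) :
    Nat.card ↥(normalizer ((P : Subgroup G) : Set G) ⊓ normalizer ((Q : Subgroup G) : Set G)) ≤ 4 := by
  classical
  set S := normalizer ((P : Subgroup G) : Set G) ⊓ normalizer ((Q : Subgroup G) : Set G) with hS
  have h144 : Nat.card S ∣ 144 := T.norm P ▸ Subgroup.card_dvd_of_le inf_le_left
  have h3 : ¬ 3 ∣ Nat.card S := fun hd => by
    obtain ⟨⟨v, hvP, hvQ⟩, hvo⟩ := exists_prime_orderOf_dvd_card' (G := S) 3 hd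
    replace hvo : orderOf v = 3 := by rwa [← Subgroup.orderOf_coe] at hvo
    exact hne (T.meet P Q v (mem_of_normalizes hvo P hvP) (mem_of_normalizes hvo Q hvQ)
      (fun e => by rw [e, orderOf_one] at hvo; norm_num at hvo)).symm
  have h16 : Nat.card S ∣ 16 :=
    ((Nat.prime_three.coprime_iff_not_dvd.mpr h3).symm.pow_right 2).dvd_of_dvd_mul_left
      (show Nat.card S ∣ 3 ^ 2 * 16 by norm_num; exact h144)
  by_cases h1 : Nat.card S = 1
  · omega
  haveI : Nontrivial S := Finite.one_lt_card_iff_nontrivial.mp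
    (by have := Nat.card_pos (α := S); omega)
  obtain ⟨k, -, hk⟩ := (Nat.dvd_prime_pow Nat.prime_two).mp (show Nat.card S ∣ 2 ^ 4 by norm_num; exact h16)
  have hp : IsPGroup 2 S := IsPGroup.of_card hk
  haveI := hp.center_nontrivial
  obtain ⟨j, hj⟩ := IsPGroup.iff_card.mp (hp.to_subgroup (center S))
  obtain ⟨⟨u₀, hu₀⟩, huo⟩ := exists_prime_orderOf_dvd_card' (G := center S) 2 (by
    have h2 : 1 < Nat.card (center S) := Finite.one_lt_card
    rw [hj] at h2 ⊢
    exact dvd_pow_self 2 (fun e => by subst e; simp at h2))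
  rw [Subgroup.orderOf_mk] at huo
  have hu : orderOf u₀.1 = 2 := by rw [Subgroup.orderOf_coe, huo]
  have huS : ∀ s ∈ S, Commute u₀.1 s := fun s hs =>
    ((congrArg Subtype.val (Subgroup.mem_center_iff.mp hu₀ ⟨s, hs⟩)).symm :)
  by_cases hiP : Inv u₀.1 P
  · refine small_of_central I h T hu huS inf_le_right h16 u₀.2.2 fun hiQ => ?_
    exact hadj ⟨hne.symm, _, hiP, hiQ⟩
  · exact small_of_central I h T hu huS inf_le_left h16 u₀.2.1 hiP

include I h T in
theorem far_card (P : Sylow 3 G) : Nat.card {Q : Sylow 3 G // Q ≠ P ∧ ¬ Adj P Q} = 36 := by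
  classical
  haveI := Fintype.ofFinite (Sylow 3 G)
  have h18 := nbr_card I h T P
  have h55 := T.count
  rw [Nat.card_eq_fintype_card, Fintype.card_subtype] at h18 ⊢
  rw [Nat.card_eq_fintype_card, ← Finset.card_univ] at h55
  have e : Finset.univ.filter (fun Q => Q ≠ P ∧ ¬ Adj P Q) =
      ((Finset.univ : Finset (Sylow 3 G)) \ Finset.univ.filter (fun Q => Adj P Q)).erase P := by
    ext Q; simp
  have hPP : ¬ Adj P P := fun hh => hh.1 rfl
  rw [e, Finset.card_erase_of_mem (by simp [hPP]), Finset.card_sdiff_of_subset (Finset.subset_univ _),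
    h55, h18]

include I h T in
theorem far_trans {P Q R : Sylow 3 G} (hQ : Q ≠ P) (hQ' : ¬ Adj P Q) (hR : R ≠ P) (hR' : ¬ Adj P R) :
    ∃ g : G, g • P = P ∧ g • Q = R := by
  classical
  set N := normalizer ((P : Subgroup G) : Set G) with hN
  let f : N → {S : Sylow 3 G // S ≠ P ∧ ¬ Adj P S} := fun n => ⟨n.1 • Q,
    fun e => hQ (by rw [← smul_sylow_of_mem n.2] at e; exact smul_left_cancel _ e),
    fun e => hQ' (by rw [← smul_sylow_of_mem n.2] at e; exact adj_smul_iff.mp e)⟩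
  haveI := Fintype.ofFinite N
  haveI := Fintype.ofFinite {S : Sylow 3 G // S ≠ P ∧ ¬ Adj P S}
  have hfib : ∀ n : N, Nat.card {m : N // f m = f n} ≤ 4 := fun n => by
    refine le_trans (Nat.card_le_card_of_injective
      (fun m => (⟨n.1⁻¹ * m.1.1, N.mul_mem (N.inv_mem n.2) m.1.2, smul_eq_iff.mp ?_⟩ :
        ↥(N ⊓ normalizer ((Q : Subgroup G) : Set G)))) ?_) (pair_stab_le I h T hQ hQ')
    · have e : m.1.1 • Q = n.1 • Q := congrArg Subtype.val m.2
      rw [mul_smul, e, inv_smul_smul]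
    · intro a b e
      exact Subtype.ext (Subtype.ext (mul_left_cancel (congrArg Subtype.val e)))
  have himg := Finset.card_le_mul_card_image (f := f) (s := Finset.univ) 4 (fun y hy => by
    obtain ⟨n, -, rfl⟩ := Finset.mem_image.mp hy
    have := hfib n
    rwa [Nat.card_eq_fintype_card, Fintype.card_subtype] at this)
  rw [Finset.card_univ, ← Nat.card_eq_fintype_card, T.norm P] at himg
  have huniv : Finset.univ.image f = Finset.univ := Finset.eq_univ_of_card _
    (le_antisymm (Finset.card_le_univ _) (by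
      rw [← Nat.card_eq_fintype_card, far_card I h T P]; omega))
  obtain ⟨n, -, hn⟩ := Finset.mem_image.mp (huniv.symm ▸ Finset.mem_univ
    (⟨R, hR, hR'⟩ : {S : Sylow 3 G // S ≠ P ∧ ¬ Adj P S}))
  exact ⟨n.1, smul_sylow_of_mem n.2, congrArg Subtype.val hn⟩

include I h T in
theorem common_adj {P Q P' Q' : Sylow 3 G} (hQ : Adj P Q) (hQ' : Adj P' Q') :
    common P' Q' = common P Q := by
  obtain ⟨g, rfl, rfl⟩ := edge_trans I h T hQ hQ'
  exact common_smul g P Q

include I h T in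
theorem common_far {P Q P' Q' : Sylow 3 G} (hne : Q ≠ P) (hQ : ¬ Adj P Q) (hne' : Q' ≠ P')
    (hQ' : ¬ Adj P' Q') : common P' Q' = common P Q := by
  obtain ⟨g, rfl⟩ := MulAction.exists_smul_eq G P P'
  obtain ⟨k, hk, rfl⟩ := far_trans I h T (P := g • P) (Q := g • Q)
    (fun e => hne (smul_left_cancel g e)) (fun e => hQ (adj_smul_iff.mp e)) hne' hQ'
  conv_lhs => arg 1; rw [← hk]
  rw [common_smul, common_smul]

include I h T in
/-- Counting the paths of length two from a vertex. -/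
theorem two_paths {P a c : Sylow 3 G} (ha : Adj P a) (hc : c ≠ P) (hc' : ¬ Adj P c) :
    18 * (17 - common P a) = 36 * common P c := by
  classical
  have hA : ∀ R : {R : Sylow 3 G // Adj P R},
      Nat.card {Q : {Q : Sylow 3 G // Q ≠ P ∧ ¬ Adj P Q} // Adj R.1 Q.1} = 17 - common P a := by
    rintro ⟨R, hR⟩
    haveI := Fintype.ofFinite (Sylow 3 G)
    rw [Nat.card_congr (Equiv.subtypeSubtypeEquivSubtypeInter (fun Q => Q ≠ P ∧ ¬ Adj P Q) (Adj R)),
      ← common_adj I h T ha hR]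
    have h18 := nbr_card I h T R
    rw [Nat.card_eq_fintype_card, Fintype.card_subtype] at h18 ⊢
    rw [common, Nat.card_eq_fintype_card, Fintype.card_subtype]
    have e : Finset.univ.filter (fun Q => (Q ≠ P ∧ ¬ Adj P Q) ∧ Adj R Q) =
        (Finset.univ.filter (fun Q => Adj R Q) \
          Finset.univ.filter (fun Q => Adj P Q ∧ Adj R Q)).erase P := by
      ext Q
      simp only [Finset.mem_filter, Finset.mem_univ, true_and, Finset.mem_erase, Finset.mem_sdiff]
      tauto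
    have hPmem : P ∈ Finset.univ.filter (fun Q => Adj R Q) \
        Finset.univ.filter (fun Q => Adj P Q ∧ Adj R Q) := by
      have hPP : ¬ Adj P P := fun hh => hh.1 rfl
      simp [hR.symm, hPP]
    rw [e, Finset.card_erase_of_mem hPmem, Finset.card_sdiff_of_subset, h18]
    · omega
    · intro Q hQ
      simp only [Finset.mem_filter, Finset.mem_univ, true_and] at hQ ⊢
      exact hQ.2
  have hB : ∀ Q : {Q : Sylow 3 G // Q ≠ P ∧ ¬ Adj P Q},
      Nat.card {R : {R : Sylow 3 G // Adj P R} // Adj R.1 Q.1} = common P c := by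
    rintro ⟨Q, hQ, hQ'⟩
    rw [← common_far I h T hc hc' hQ hQ', common]
    exact Nat.card_congr ((Equiv.subtypeSubtypeEquivSubtypeInter (Adj P) (fun R => Adj R Q)).trans
      (Equiv.subtypeEquivRight fun R => ⟨fun x => ⟨x.1, x.2.symm⟩, fun x => ⟨x.1, x.2.symm⟩⟩))
  have := double_count (fun (R : {R : Sylow 3 G // Adj P R})
    (Q : {Q : Sylow 3 G // Q ≠ P ∧ ¬ Adj P Q}) => Adj R.1 Q.1) hA hB
  rwa [nbr_card I h T P, far_card I h T P] at this

end Cfsg.Agent.Recog.OrderM11
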