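import Cfsg.Agent.Recog.OrderM11.SylowThree

/-!
Each Sylow 3-subgroup is inverted by nine involutions, each involution inverts three of them, and
its centraliser permutes these as the symmetric group of degree three.
-/

set_option autoImplicit false
set_option linter.style.haveILetI false
set_option linter.unusedSectionVars false

namespace Cfsg.Agent.Recog.OrderM11

open Cfsg.Agent.SmallGroups Subgroup

variable {G : Type*} [Group G] [Finite G]

/-- An involution inverting every element of `P`. -/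
def Inv (t : G) (P : Sylow 3 G) : Prop :=
  orderOf t = 2 ∧ ∀ p ∈ (P : Subgroup G), t * p * t⁻¹ = p⁻¹

theorem mem_smul_sylow {g x : G} {P : Sylow 3 G} :
    x ∈ ((g • P : Sylow 3 G) : Subgroup G) ↔ g⁻¹ * x * g ∈ (P : Subgroup G) := by
  rw [Sylow.coe_subgroup_smul, Subgroup.mem_pointwise_smul_iff_inv_smul_mem, ← map_inv,
    MulAut.smul_def, MulAut.conj_apply, inv_inv]

theorem smul_sylow_of_mem {g : G} {P : Sylow 3 G}
    (hg : g ∈ normalizer ((P : Subgroup G) : Set G)) : g • P = P :=
  smul_eq_iff.mpr hg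

theorem eq_one_of_self_inverse (h : Hyp G) {P : Sylow 3 G} {p : G} (hp : p ∈ (P : Subgroup G))
    (e : p * p = 1) : p = 1 := by
  have h2 : orderOf p ∣ 2 := orderOf_dvd_of_pow_eq_one (by rw [sq, e])
  have h9 : orderOf p ∣ 9 := h.sylow_three P ▸ Subgroup.orderOf_dvd_natCard _ hp
  exact orderOf_eq_one_iff.mp (Nat.eq_one_of_dvd_coprimes (by norm_num : Nat.Coprime 2 9) h2 h9)

theorem Inv.mem_normalizer {t : G} {P : Sylow 3 G} (ht : Inv t P) :
    t ∈ normalizer ((P : Subgroup G) : Set G) := by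
  rw [Subgroup.mem_normalizer_iff]
  intro x
  refine ⟨fun hx => (ht.2 x hx).symm ▸ inv_mem hx, fun hx => ?_⟩
  have h1 := ht.2 _ hx
  have h2 : t * t = 1 := invol_mul_self ht.1
  have e : t * (t * x * t⁻¹) * t⁻¹ = x := by
    calc _ = (t * t) * x * (t * t)⁻¹ := by group
      _ = x := by rw [h2]; simp
  rw [e] at h1
  rw [h1]
  exact inv_mem hx

theorem Inv.smul {t : G} {P : Sylow 3 G} (ht : Inv t P) (g : G) :
    Inv (g * t * g⁻¹) (g • P) := by
  refine ⟨(orderOf_conj g t).trans ht.1, fun q hq => ?_⟩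
  have h1 := ht.2 _ (mem_smul_sylow.mp hq)
  calc g * t * g⁻¹ * q * (g * t * g⁻¹)⁻¹ = g * (t * (g⁻¹ * q * g) * t⁻¹) * g⁻¹ := by group
    _ = q⁻¹ := by rw [h1]; group

theorem Inv.smul_cent {t g : G} {P : Sylow 3 G} (ht : Inv t P) (hg : Commute g t) :
    Inv t (g • P) := by
  have := ht.smul g
  rwa [hg.eq, mul_inv_cancel_right] at this

theorem Inv.conj_iff {t g : G} {P : Sylow 3 G} : Inv (g * t * g⁻¹) (g • P) ↔ Inv t P := by
  refine ⟨fun hg => ?_, fun ht => ht.smul g⟩
  have := hg.smul g⁻¹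
  rwa [inv_smul_smul, show g⁻¹ * (g * t * g⁻¹) * g⁻¹⁻¹ = t by group] at this

theorem Inv.not_commute (h : Hyp G) {t p : G} {P : Sylow 3 G} (ht : Inv t P)
    (hp : p ∈ (P : Subgroup G)) (hc : Commute t p) : p = 1 := by
  refine eq_one_of_self_inverse h hp ?_
  have := ht.2 p hp
  rw [mul_inv_eq_iff_eq_mul.mpr hc.eq] at this
  nth_rewrite 2 [this]
  exact mul_inv_cancel p

variable (I : Invol G) (h : Hyp G) (T : Three G)

include I h T in
theorem exists_inv' (P : Sylow 3 G) : ∃ z : G, Inv z P := by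
  classical
  haveI := h.sylow_three_comm P
  set N := normalizer ((P : Subgroup G) : Set G) with hN
  have hN144 : Nat.card N = 144 := T.norm P
  obtain ⟨S⟩ : Nonempty (Sylow 2 N) := inferInstance
  have hS : Nat.card (S : Subgroup N) = 16 :=
    (card_sylow_subgroup (a := 4) (m := 9) (by rw [hN144]; norm_num) (by norm_num) S).trans (by norm_num)
  haveI : Nontrivial (S : Subgroup N) := Finite.one_lt_card_iff_nontrivial.mp (by omega)
  haveI := S.isPGroup'.center_nontrivial
  obtain ⟨⟨z₀, hz₀⟩, hz₀o⟩ := exists_prime_orderOf_dvd_card' (G := center (S : Subgroup N)) 2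
    (by
      obtain ⟨k, hk⟩ := IsPGroup.iff_card.mp (S.isPGroup'.to_subgroup (center (S : Subgroup N)))
      have h1 : 1 < Nat.card (center (S : Subgroup N)) := Finite.one_lt_card
      rw [hk] at h1 ⊢
      exact dvd_pow_self 2 (fun e => by subst e; simp at h1))
  rw [Subgroup.orderOf_mk] at hz₀o
  set z : G := z₀.1.1 with hz
  have hzo : orderOf z = 2 := by rw [hz, Subgroup.orderOf_coe, Subgroup.orderOf_coe, hz₀o]
  have hzN : z ∈ N := z₀.1.2
  have hzc : ∀ s : (S : Subgroup N), Commute z s.1.1 := fun s =>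
    ((congrArg (fun x : (S : Subgroup N) => x.1.1) (Subgroup.mem_center_iff.mp hz₀ s)).symm :)
  refine ⟨z, hzo, fun p hp => ?_⟩
  have hzp : z * p * z⁻¹ ∈ (P : Subgroup G) := (Subgroup.mem_normalizer_iff.mp hzN p).mp hp
  set c := p * (z * p * z⁻¹) with hc
  have hcP : c ∈ (P : Subgroup G) := mul_mem hp hzp
  have hPc : ∀ a ∈ (P : Subgroup G), ∀ b ∈ (P : Subgroup G), Commute a b := fun a ha b hb =>
    (((P : Subgroup G).le_centralizer ha) b hb).symm
  have hzc' : Commute z c := mul_inv_eq_iff_eq_mul.mp (by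
    rw [hc]
    calc z * (p * (z * p * z⁻¹)) * z⁻¹ = (z * p * z⁻¹) * ((z * z) * p * (z * z)⁻¹) := by group
      _ = (z * p * z⁻¹) * p := by rw [invol_mul_self hzo]; group
      _ = p * (z * p * z⁻¹) := (hPc _ hzp _ hp).eq)
  by_contra hne
  have hc1 : c ≠ 1 := fun e => hne (eq_inv_of_mul_eq_one_right e)
  -- `S` is transitive on the non-trivial elements of `P`
  have hco := (T.order P c hcP hc1)
  obtain ⟨hc3, u, hu, huc⟩ := hco
  have hCN := (I.w_facts h hu hc3 huc).2.1 P hcP
  have h18 := I.cent_eighteen h hu hc3 huc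
  let f : ↥(S : Subgroup N) → {x : (P : Subgroup G) // x ≠ 1} := fun s =>
    ⟨⟨s.1.1 * c * s.1.1⁻¹, (Subgroup.mem_normalizer_iff.mp s.1.2 c).mp hcP⟩, fun e => hc1 (by
      have e' : s.1.1 * c * s.1.1⁻¹ = 1 := congrArg Subtype.val e
      exact conj_eq_one_iff.mp e')⟩
  have hfix : ∀ s : (S : Subgroup N), Commute z (s.1.1 * c * s.1.1⁻¹) := fun s =>
    ((hzc s).mul_right hzc').mul_right (hzc s).inv_right
  have hsurj : Function.Surjective f := by
    haveI := Fintype.ofFinite (S : Subgroup N)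
    haveI := Fintype.ofFinite {x : (P : Subgroup G) // x ≠ 1}
    haveI := Fintype.ofFinite (P : Subgroup G)
    have h8 : Nat.card {x : (P : Subgroup G) // x ≠ 1} = 8 := by
      rw [Nat.card_eq_fintype_card, Fintype.card_subtype_compl, Fintype.card_subtype_eq,
        ← Nat.card_eq_fintype_card, h.sylow_three P]
    -- fibres have at most two elements
    have hfib : ∀ s : (S : Subgroup N), Nat.card {r : (S : Subgroup N) // f r = f s} ≤ 2 := by
      intro s
      let D : Subgroup (S : Subgroup N) :=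
        ((centralizer ({c} : Set G)).comap N.subtype).comap (S : Subgroup N).subtype
      have hD : Nat.card D ≤ 2 := by
        have hd1 : Nat.card D ∣ 16 := hS ▸ Subgroup.card_subgroup_dvd_card D
        have hd2 : Nat.card D ∣ 18 := by
          rw [← h18]
          refine Subgroup.card_dvd_of_injective
            ({ toFun := fun d => ⟨d.1.1.1, d.2⟩
               map_one' := rfl
               map_mul' := fun _ _ => rfl } : D →* centralizer ({c} : Set G)) ?_
          intro a b e
          exact Subtype.ext (Subtype.ext (Subtype.ext (congrArg Subtype.val e :)))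
        exact Nat.le_of_dvd (by norm_num) (Nat.dvd_gcd hd1 hd2)
      refine le_trans (Nat.card_le_card_of_injective (fun r => (⟨s⁻¹ * r.1, ?_⟩ : D)) ?_) hD
      · have e : r.1.1.1 * c * r.1.1.1⁻¹ = s.1.1 * c * s.1.1⁻¹ := congrArg (fun x => x.1.1) r.2
        refine mem_cent.mpr (mul_inv_eq_iff_eq_mul.mp ?_)
        show (s.1.1⁻¹ * r.1.1.1) * c * (s.1.1⁻¹ * r.1.1.1)⁻¹ = c
        calc _ = s.1.1⁻¹ * (r.1.1.1 * c * r.1.1.1⁻¹) * s.1.1 := by group
          _ = c := by rw [e]; group
      · intro a b e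
        exact Subtype.ext (mul_left_cancel (congrArg Subtype.val e))
    have himg : 8 ≤ (Finset.univ.image f).card := by
      have h1 := Finset.card_le_mul_card_image (f := f) (s := Finset.univ) 2 (fun y hy => by
        obtain ⟨s, -, rfl⟩ := Finset.mem_image.mp hy
        have := hfib s
        rwa [Nat.card_eq_fintype_card, Fintype.card_subtype] at this)
      rw [Finset.card_univ, ← Nat.card_eq_fintype_card, hS] at h1
      omega
    have huniv : Finset.univ.image f = Finset.univ := Finset.eq_univ_of_card _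
      (le_antisymm (Finset.card_le_univ _) (by rw [← Nat.card_eq_fintype_card, h8]; exact himg))
    intro y
    obtain ⟨s, -, hs⟩ := Finset.mem_image.mp (huniv.symm ▸ Finset.mem_univ y)
    exact ⟨s, hs⟩
  refine I.not_central h hzo P fun q hq => ?_
  by_cases hq1 : q = 1
  · rw [hq1]; exact Commute.one_right _
  obtain ⟨s, hs⟩ := hsurj ⟨⟨q, hq⟩, fun e => hq1 (congrArg Subtype.val e)⟩
  rw [← show s.1.1 * c * s.1.1⁻¹ = q from congrArg (fun x => x.1.1) hs]
  exact hfix s

include T in
theorem Inv.diff {s t : G} {P : Sylow 3 G} (hs : Inv s P) (ht : Inv t P) :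
    s * t ∈ (P : Subgroup G) := by
  refine T.self P _ fun p hp => mul_inv_eq_iff_eq_mul.mp ?_
  calc s * t * p * (s * t)⁻¹ = s * (t * p * t⁻¹) * s⁻¹ := by group
    _ = p := by rw [ht.2 p hp, hs.2 _ (inv_mem hp), inv_inv]

include T in
theorem Inv.unique {s t : G} {P Q : Sylow 3 G} (hsP : Inv s P) (htP : Inv t P) (hsQ : Inv s Q)
    (htQ : Inv t Q) (hPQ : P ≠ Q) : s = t := by
  by_contra hne
  refine hPQ (T.meet P Q _ (hsP.diff T htP) (hsQ.diff T htQ) fun e => hne ?_)
  exact (eq_inv_of_mul_eq_one_left e).trans (invol_inv htP.1)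

include I h T in
theorem inv_card (P : Sylow 3 G) : Nat.card {t : G // Inv t P} = 9 := by
  classical
  haveI := h.sylow_three_comm P
  obtain ⟨z, hz⟩ := exists_inv' I h T P
  rw [← h.sylow_three P]
  have hmem : ∀ q : (P : Subgroup G), Inv (q.1 * z) P := by
    intro q
    have hne : q.1 * z ≠ 1 := fun e => by
      have hzP : z ∈ (P : Subgroup G) := by
        rw [eq_inv_of_mul_eq_one_right e]; exact inv_mem q.2
      have := eq_one_of_self_inverse h hzP (invol_mul_self hz.1)
      have ho := hz.1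
      rw [this, orderOf_one] at ho
      norm_num at ho
    refine ⟨orderOf_two ?_ hne, fun p hp => ?_⟩
    · calc q.1 * z * (q.1 * z) = q.1 * (z * q.1 * z⁻¹) * (z * z) := by group
        _ = 1 := by rw [hz.2 _ q.2, invol_mul_self hz.1]; group
    · calc q.1 * z * p * (q.1 * z)⁻¹ = q.1 * (z * p * z⁻¹) * q.1⁻¹ := by group
        _ = p⁻¹ := by
          rw [hz.2 p hp, mul_inv_eq_iff_eq_mul]
          exact (((P : Subgroup G).le_centralizer (inv_mem hp)) q.1 q.2)
  exact (Nat.card_congr
    { toFun := fun q => ⟨q.1 * z, hmem q⟩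
      invFun := fun t => ⟨t.1 * z, t.2.diff T hz⟩
      left_inv := fun q => Subtype.ext (show q.1 * z * z = q.1 by
        rw [mul_assoc, invol_mul_self hz.1, mul_one])
      right_inv := fun t => Subtype.ext (show t.1 * z * z = t.1 by
        rw [mul_assoc, invol_mul_self hz.1, mul_one]) }).symm

include I h T in
theorem three_card {t : G} (ht : orderOf t = 2) : Nat.card {P : Sylow 3 G // Inv t P} = 3 := by
  have hconst : ∀ s : {s : G // orderOf s = 2},
      Nat.card {P : Sylow 3 G // Inv s.1 P} = Nat.card {P : Sylow 3 G // Inv t P} := by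
    rintro ⟨s, hs⟩
    obtain ⟨g, rfl⟩ := isConj_iff.mp (I.conj t s ht hs)
    exact (Nat.card_congr (Equiv.subtypeEquiv (MulAction.toPerm g) fun P => Inv.conj_iff.symm)).symm
  have hdc := double_count (A := {s : G // orderOf s = 2}) (B := Sylow 3 G)
    (fun s P => Inv s.1 P) (i := Nat.card {P : Sylow 3 G // Inv t P}) (j := 9) hconst
    (fun P => by
      rw [← inv_card I h T P]
      exact Nat.card_congr
        { toFun := fun s => ⟨s.1.1, s.2⟩
          invFun := fun s => ⟨⟨s.1, s.2.1⟩, s.2⟩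
          left_inv := fun _ => rfl
          right_inv := fun _ => rfl })
  rw [I.count, T.count] at hdc
  omega

include I h in
theorem sylow_three_cent {u c : G} (hu : orderOf u = 2) (hc : orderOf c = 3) (huc : Commute u c) :
    Nat.card (Sylow 3 (centralizer ({u} : Set G))) = 4 := by
  classical
  set C := centralizer ({u} : Set G) with hC
  have hcC : c ∈ C := mem_cent.mpr huc.symm
  have hC48 : Nat.card C = 48 := I.cent u hu
  have hW3 : ∀ W : Sylow 3 C, Nat.card (W : Subgroup C) = 3 := fun W =>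
    (card_sylow_subgroup (a := 1) (m := 16) (by rw [hC48]; norm_num) (by norm_num) W).trans (pow_one 3)
  have hco : orderOf (⟨c, hcC⟩ : C) = 3 := by rw [Subgroup.orderOf_mk, hc]
  obtain ⟨W, hW⟩ := (IsPGroup.of_card (G := zpowers (⟨c, hcC⟩ : C)) (n := 1) (p := 3)
    (by rw [Nat.card_zpowers, hco, pow_one])).exists_le_sylow
  have hWeq : zpowers (⟨c, hcC⟩ : C) = (W : Subgroup C) := Subgroup.eq_of_le_of_card_ge hW
    (by rw [hW3, Nat.card_zpowers, hco])
  have h1 := card_sylow_mul_card_normalizer W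
  have h12 : Nat.card (normalizer ((W : Subgroup C) : Set C)) = 12 := by
    rw [← hWeq, ← (I.six h hu hc huc).2]
    refine Nat.card_congr
      { toFun := fun x => ⟨x.1.1, x.1.2, (mem_normalizer_zpowers hc).mpr
          (((mem_normalizer_zpowers hco).mp x.2).imp (fun e => congrArg Subtype.val e)
            (fun e => congrArg Subtype.val e))⟩
        invFun := fun x => ⟨⟨x.1, x.2.1⟩, (mem_normalizer_zpowers hco).mpr
          (((mem_normalizer_zpowers hc).mp x.2.2).imp (fun e => Subtype.ext e) (fun e => Subtype.ext e))⟩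
        left_inv := fun _ => rfl
        right_inv := fun _ => rfl }
  rw [h12, hC48] at h1
  omega

include I h T in
/-- No other involution commutes with `t` and fixes the three Sylow subgroups it inverts. -/
theorem no_common {t u : G} (ht : orderOf t = 2) (hu : orderOf u = 2) (htu : Commute t u)
    (hfix : ∀ P : Sylow 3 G, Inv t P → u ∈ normalizer ((P : Subgroup G) : Set G)) : u = t := by
  classical
  by_contra hne
  have hex : ∀ P : {P : Sylow 3 G // Inv t P},
      ∃ c ∈ (P.1 : Subgroup G), orderOf c = 3 ∧ Commute u c := by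
    rintro ⟨P, hP⟩
    haveI := h.sylow_three_comm P
    by_cases hall : ∀ p ∈ (P : Subgroup G), p * (u * p * u⁻¹) = 1
    · exfalso
      have hinv : Inv u P := ⟨hu, fun p hp => eq_inv_of_mul_eq_one_right (hall p hp)⟩
      have h1 : u * t = 1 := eq_one_of_self_inverse h (hinv.diff T hP) (by
        calc u * t * (u * t) = u * (t * u) * t := by group
          _ = (u * u) * (t * t) := by rw [htu.eq]; group
          _ = 1 := by rw [invol_mul_self hu, invol_mul_self ht, one_mul])
      exact hne ((eq_inv_of_mul_eq_one_left h1).trans (invol_inv ht))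
    · push Not at hall
      obtain ⟨p, hp, hpne⟩ := hall
      have hup := (Subgroup.mem_normalizer_iff.mp (hfix P hP) p).mp hp
      refine ⟨_, mul_mem hp hup, (T.order P _ (mul_mem hp hup) hpne).1, mul_inv_eq_iff_eq_mul.mp ?_⟩
      calc u * (p * (u * p * u⁻¹)) * u⁻¹ = (u * p * u⁻¹) * ((u * u) * p * (u * u)⁻¹) := by group
        _ = (u * p * u⁻¹) * p := by rw [invol_mul_self hu]; group
        _ = p * (u * p * u⁻¹) := ((P : Subgroup G).le_centralizer hp) _ hup
  choose c hcP hco huc using hex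
  set C := centralizer ({u} : Set G) with hC
  have hC48 : Nat.card C = 48 := I.cent u hu
  have htC : t ∈ C := mem_cent.mpr htu
  have hW3 : ∀ W : Sylow 3 C, Nat.card (W : Subgroup C) = 3 := fun W =>
    (card_sylow_subgroup (a := 1) (m := 16) (by rw [hC48]; norm_num) (by norm_num) W).trans (pow_one 3)
  have hW : ∀ P : {P : Sylow 3 G // Inv t P}, ∃ W : Sylow 3 C,
      (W : Subgroup C) = zpowers ⟨c P, mem_cent.mpr (huc P).symm⟩ := by
    intro P
    have ho : orderOf (⟨c P, mem_cent.mpr (huc P).symm⟩ : C) = 3 := by rw [Subgroup.orderOf_mk, hco]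
    obtain ⟨W, hW⟩ := (IsPGroup.of_card (G := zpowers (⟨c P, mem_cent.mpr (huc P).symm⟩ : C)) (n := 1)
      (p := 3) (by rw [Nat.card_zpowers, ho, pow_one])).exists_le_sylow
    exact ⟨W, (Subgroup.eq_of_le_of_card_ge hW (by rw [hW3, Nat.card_zpowers, ho])).symm⟩
  choose W hWeq using hW
  have hinj : Function.Injective W := by
    intro P Q e
    have hmem : (⟨c P, mem_cent.mpr (huc P).symm⟩ : C) ∈ zpowers (⟨c Q, mem_cent.mpr (huc Q).symm⟩ : C) := by
      rw [← hWeq Q, ← e, hWeq P]; exact mem_zpowers _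
    obtain ⟨i, hi⟩ := mem_zpowers_iff.mp hmem
    have hi' : c Q ^ i = c P := congrArg Subtype.val hi
    refine Subtype.ext (T.meet P.1 Q.1 (c P) (hcP P) (hi' ▸ zpow_mem (hcP Q) i) fun e1 => ?_)
    have := hco P
    rw [e1, orderOf_one] at this
    norm_num at this
  have hfixW : ∀ P, (⟨t, htC⟩ : C) • W P = W P := by
    intro P
    rw [smul_eq_iff, hWeq, mem_normalizer_zpowers (by rw [Subgroup.orderOf_mk, hco])]
    exact Or.inr (Subtype.ext (P.2.2 _ (hcP P)))
  have ht' : ∃ P, Inv t P := by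
    haveI : Nonempty {P : Sylow 3 G // Inv t P} :=
      Nat.card_pos_iff.mp (by rw [three_card I h T ht]; norm_num) |>.1
    exact ⟨(Classical.arbitrary {P : Sylow 3 G // Inv t P}).1, (Classical.arbitrary _ : {P : Sylow 3 G // Inv t P}).2⟩
  obtain ⟨P₀, hP₀⟩ := ht'
  have h4 : Nat.card (Sylow 3 C) = 4 := sylow_three_cent I h hu (hco ⟨P₀, hP₀⟩) (huc ⟨P₀, hP₀⟩)
  -- `t` fixes all four
  have hall : ∀ V : Sylow 3 C, (⟨t, htC⟩ : C) • V = V := by
    intro V
    by_contra hV
    haveI := Fintype.ofFinite {P : Sylow 3 G // Inv t P}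
    haveI := Fintype.ofFinite (Sylow 3 C)
    have hsub : Finset.univ.image W ⊆ (Finset.univ.erase V).erase ((⟨t, htC⟩ : C) • V) := by
      intro X hX
      obtain ⟨P, -, rfl⟩ := Finset.mem_image.mp hX
      refine Finset.mem_erase.mpr ⟨fun e => hV ?_, Finset.mem_erase.mpr ⟨fun e => hV (e ▸ hfixW P), Finset.mem_univ _⟩⟩
      have h1 := hfixW P
      rw [e] at h1
      exact smul_left_cancel _ h1
    have h1 := Finset.card_le_card hsub
    rw [Finset.card_image_of_injective _ hinj, Finset.card_univ, ← Nat.card_eq_fintype_card,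
      three_card I h T ht, Finset.card_erase_of_mem (Finset.mem_erase.mpr ⟨hV, Finset.mem_univ _⟩),
      Finset.card_erase_of_mem (Finset.mem_univ _), Finset.card_univ, ← Nat.card_eq_fintype_card, h4] at h1
    norm_num at h1
  -- so does an element of order three
  set w : C := ⟨c ⟨P₀, hP₀⟩, mem_cent.mpr (huc _).symm⟩ with hw
  set τ : C := ⟨t, htC⟩ with hτ
  have hwinv : τ * w * τ⁻¹ = w⁻¹ := Subtype.ext (hP₀.2 _ (hcP ⟨P₀, hP₀⟩))
  have hww : ∀ V : Sylow 3 C, (w * w) • V = V := by
    intro V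
    have e : w * w = w * τ * w⁻¹ * τ⁻¹ := by
      calc w * w = w * (w⁻¹)⁻¹ := by rw [inv_inv]
        _ = w * (τ * w * τ⁻¹)⁻¹ := by rw [hwinv]
        _ = _ := by group
    rw [e, mul_smul, mul_smul, mul_smul, inv_smul_eq_iff.mpr (hall V).symm, hall, smul_inv_smul]
  have hwo : orderOf w = 3 := by rw [hw, Subgroup.orderOf_mk, hco]
  have hw3 : w = (w * w) * (w * w) := by
    have h3 : w ^ 3 = 1 := orderOf_dvd_iff_pow_eq_one.mp hwo.dvd
    calc w = w * w ^ 3 := by rw [h3, mul_one]
      _ = _ := by simp only [pow_succ, pow_zero, one_mul, mul_assoc]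
  have hsame : ∀ V : Sylow 3 C, V = W ⟨P₀, hP₀⟩ := by
    intro V
    have hV : w • V = V := by rw [hw3, mul_smul, hww, hww]
    have hmem := mem_of_normalizes hwo V (smul_eq_iff.mp hV)
    exact Sylow.ext (Subgroup.eq_of_le_of_card_ge
      (by rw [hWeq]; exact zpowers_le.mpr hmem) (by rw [hW3, hW3])).symm
  haveI : Subsingleton (Sylow 3 C) := ⟨fun a b => (hsame a).trans (hsame b).symm⟩
  have := Finite.card_le_one_iff_subsingleton.mpr (inferInstance : Subsingleton (Sylow 3 C))
  omega

/-- The elements commuting with `t` fixing the three Sylow subgroups inverted by it. -/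
def kern (t : G) : Subgroup G :=
  centralizer ({t} : Set G) ⊓ ⨅ P : {P : Sylow 3 G // Inv t P}, normalizer ((P.1 : Subgroup G) : Set G)

theorem mem_kern {t g : G} : g ∈ kern t ↔
    Commute g t ∧ ∀ P : Sylow 3 G, Inv t P → g • P = P := by
  simp only [kern, Subgroup.mem_inf, mem_cent, Subgroup.mem_iInf, Subtype.forall, smul_eq_iff]

include I h T in
theorem kern_free {t k p : G} {P : Sylow 3 G} (hP : Inv t P) (hk : k ∈ kern t)
    (hp : p ∈ (P : Subgroup G)) (hp1 : p ≠ 1) (hkp : Commute k p) : k = 1 := by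
  classical
  obtain ⟨hp3, v, hv, hvp⟩ := T.order P p hp hp1
  set E := kern t ⊓ centralizer ({p} : Set G) with hE
  have hd : Nat.card E ∣ 18 := (I.cent_eighteen h hv hp3 hvp) ▸ Subgroup.card_dvd_of_le inf_le_right
  have hno : ∀ r, r.Prime → r ∣ Nat.card E → False := by
    intro r hr hrd
    haveI : Fact r.Prime := ⟨hr⟩
    obtain ⟨⟨e, heK, hep⟩, heo⟩ := exists_prime_orderOf_dvd_card' (G := E) r hrd
    replace heo : orderOf e = r := by rwa [← Subgroup.orderOf_coe] at heo
    obtain ⟨het, hefix⟩ := mem_kern.mp heK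
    have hr' : r = 2 ∨ r = 3 := by
      have key : ∀ d ∈ Nat.divisors 18, d.Prime → d = 2 ∨ d = 3 := by decide +kernel
      exact key r (Nat.mem_divisors.mpr ⟨hrd.trans hd, by norm_num⟩) hr
    rcases hr' with rfl | rfl
    · have := no_common I h T hP.1 heo het.symm fun Q hQ => smul_eq_iff.mp (hefix Q hQ)
      exact hp1 (hP.not_commute h hp (this ▸ mem_cent.mp hep))
    · have heP := mem_of_normalizes heo P (smul_eq_iff.mp (hefix P hP))
      rw [hP.not_commute h heP het.symm, orderOf_one] at heo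
      norm_num at heo
  have h1 : Nat.card E = 1 := by
    by_contra hne
    exact hno _ (Nat.minFac_prime hne) (Nat.minFac_dvd _)
  have hmem : k ∈ E := ⟨hk, mem_cent.mpr hkp⟩
  rwa [Subgroup.eq_bot_of_card_eq E h1, Subgroup.mem_bot] at hmem

include I h T in
/-- The centraliser of an involution permutes the three Sylow subgroups inverted by it as the full
symmetric group, and the kernel of this is regular on each of them. -/
theorem local_symm {t : G} {P : Sylow 3 G} (hP : Inv t P) :
    (∀ e : Equiv.Perm {Q : Sylow 3 G // Inv t Q}, ∃ g : G, Commute g t ∧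
      ∀ Q, g • Q.1 = (e Q).1) ∧
    (∀ p q : G, p ∈ (P : Subgroup G) → p ≠ 1 → q ∈ (P : Subgroup G) → q ≠ 1 →
      ∃ k ∈ kern t, k * p * k⁻¹ = q) := by
  classical
  set C := centralizer ({t} : Set G) with hC
  letI : MulAction C {Q : Sylow 3 G // Inv t Q} :=
    { smul := fun g Q => ⟨g.1 • Q.1, Q.2.smul_cent (mem_cent.mp g.2)⟩
      one_smul := fun Q => Subtype.ext (one_smul G Q.1)
      mul_smul := fun a b Q => Subtype.ext (mul_smul a.1 b.1 Q.1) }
  set φ := MulAction.toPermHom C {Q : Sylow 3 G // Inv t Q} with hφ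
  have hperm : Nat.card (Equiv.Perm {Q : Sylow 3 G // Inv t Q}) = 6 := by
    rw [Nat.card_perm, three_card I h T hP.1]; rfl
  have hker : φ.ker.map C.subtype ≤ kern t := by
    rintro _ ⟨g, hg, rfl⟩
    refine mem_kern.mpr ⟨mem_cent.mp g.2, fun Q hQ => ?_⟩
    exact congrArg Subtype.val (Equiv.congr_fun (MonoidHom.mem_ker.mp hg) ⟨Q, hQ⟩)
  have hmul := φ.ker.card_mul_index
  rw [Subgroup.index_ker, show Nat.card C = 48 from I.cent t hP.1] at hmul
  have hrange : Nat.card φ.range ≤ 6 := hperm ▸ Subgroup.card_le_card_group _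
  have hK : Nat.card φ.ker ≤ Nat.card (kern t) := by
    rw [← Subgroup.card_map_of_injective C.subtype_injective]
    exact Subgroup.card_le_of_le hker
  have key : ∀ p : G, p ∈ (P : Subgroup G) → p ≠ 1 →
      ∃ f : kern t → {x : (P : Subgroup G) // x ≠ 1}, Function.Injective f ∧
        ∀ k, (f k).1.1 = k.1 * p * k.1⁻¹ := by
    intro p hp hp1
    refine ⟨fun k => ⟨⟨k.1 * p * k.1⁻¹, (Subgroup.mem_normalizer_iff.mp
      (smul_eq_iff.mp ((mem_kern.mp k.2).2 P hP)) p).mp hp⟩,
        fun e => hp1 (conj_eq_one_iff.mp (congrArg Subtype.val e))⟩, ?_, fun k => rfl⟩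
    intro a b e
    have e' : a.1 * p * a.1⁻¹ = b.1 * p * b.1⁻¹ := congrArg (fun x => x.1.1) e
    have := kern_free I h T hP (mul_mem (inv_mem b.2) a.2) hp hp1 (mul_inv_eq_iff_eq_mul.mp (by
      calc b.1⁻¹ * a.1 * p * (b.1⁻¹ * a.1)⁻¹ = b.1⁻¹ * (a.1 * p * a.1⁻¹) * b.1 := by group
        _ = p := by rw [e']; group))
    exact Subtype.ext (inv_mul_eq_one.mp this).symm
  have h8 : Nat.card {x : (P : Subgroup G) // x ≠ 1} = 8 := by
    haveI := Fintype.ofFinite (P : Subgroup G)
    rw [Nat.card_eq_fintype_card, Fintype.card_subtype_compl, Fintype.card_subtype_eq,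
      ← Nat.card_eq_fintype_card, h.sylow_three P]
  obtain ⟨⟨p₀, hp₀⟩, hp₀o⟩ := exists_prime_orderOf_dvd_card' (G := (P : Subgroup G)) 3
    (by rw [h.sylow_three P]; norm_num)
  rw [Subgroup.orderOf_mk] at hp₀o
  obtain ⟨f₀, hf₀, -⟩ := key p₀ hp₀ (fun e => by rw [e, orderOf_one] at hp₀o; norm_num at hp₀o)
  have hK8 : Nat.card (kern t) ≤ 8 := h8 ▸ Nat.card_le_card_of_injective f₀ hf₀
  have hr6 : Nat.card φ.range = 6 := by
    refine le_antisymm hrange ?_
    by_contra hlt
    have := Nat.mul_le_mul (hK.trans hK8) (Nat.le_of_lt_succ (Nat.lt_of_not_le hlt) : Nat.card φ.range ≤ 5)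
    omega
  have hker8 : Nat.card φ.ker = 8 := by rw [hr6] at hmul; omega
  refine ⟨fun e => ?_, fun p q hp hp1 hq hq1 => ?_⟩
  · have htop : φ.range = ⊤ := Subgroup.eq_top_of_card_eq _ (by rw [hr6, hperm])
    obtain ⟨g, hg⟩ : e ∈ φ.range := htop ▸ Subgroup.mem_top e
    exact ⟨g.1, mem_cent.mp g.2, fun Q => congrArg Subtype.val (Equiv.congr_fun hg Q)⟩
  · obtain ⟨f, hf, hfe⟩ := key p hp hp1
    have hbij := hf.bijective_of_nat_card_le (by omega)
    obtain ⟨k, hk⟩ := hbij.2 ⟨⟨q, hq⟩, fun e => hq1 (congrArg Subtype.val e)⟩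
    exact ⟨k.1, k.2, (hfe k).symm.trans (congrArg (fun x => x.1.1) hk)⟩

end Cfsg.Agent.Recog.OrderM11
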