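import Cfsg.Agent.Recog.OrderM11.Five

/-!
A simple group of order 7920 has a subgroup of index eleven, or its involutions form one class with
centralisers of order 48.
-/

set_option autoImplicit false
set_option linter.style.haveILetI false
set_option linter.unusedSectionVars false

namespace Cfsg.Agent.Recog.OrderM11

open Cfsg.Agent.SmallGroups Subgroup

variable {G : Type*} [Group G] [Finite G]

/-- The facts about involutions used in the sequel. -/
structure Invol (G : Type*) [Group G] : Prop where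
  five : ∀ y : G, orderOf y = 5 → Nat.card (centralizer ({y} : Set G)) = 5
  eleven : ∀ x : G, orderOf x = 11 → Nat.card (centralizer ({x} : Set G)) = 11
  conj : ∀ s t : G, orderOf s = 2 → orderOf t = 2 → IsConj s t
  cent : ∀ t : G, orderOf t = 2 → Nat.card (centralizer ({t} : Set G)) = 48
  count : Nat.card {t : G // orderOf t = 2} = 165

theorem invol_inv {s : G} (hs : orderOf s = 2) : s⁻¹ = s :=
  inv_eq_of_mul_eq_one_right (by rw [← sq, ← hs, pow_orderOf_eq_one])

theorem invol_conj_five {s y : G} (hs : orderOf s = 2) (hy : orderOf y = 5)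
    (h : s ∈ normalizer ((zpowers y : Subgroup G) : Set G)) :
    s * y * s⁻¹ = y ∨ s * y * s⁻¹ = y⁻¹ := by
  classical
  have hm : s * y * s⁻¹ ∈ zpowers y := (Subgroup.mem_normalizer_iff.mp h y).mp (mem_zpowers y)
  obtain ⟨i, hi, hi'⟩ : ∃ i, i < 5 ∧ y ^ i = s * y * s⁻¹ := by
    have h1 := mem_zpowers_iff_mem_range_orderOf.mp hm
    rw [hy] at h1
    simpa using h1
  have h2 : s * (s * y * s⁻¹) * s⁻¹ = y := by
    rw [invol_inv hs, show s * (s * y * s) * s = (s * s) * y * (s * s) by group,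
      show s * s = 1 by rw [← sq, ← hs, pow_orderOf_eq_one], one_mul, mul_one]
  rw [← hi', ← conj_pow, ← hi', ← pow_mul] at h2
  have h3 : y ^ (i * i) = y ^ 1 := by rw [h2, pow_one]
  have h4 := pow_eq_pow_iff_modEq.mp h3
  rw [hy, Nat.ModEq] at h4
  rw [← hi']
  have hinv : y⁻¹ = y ^ 4 := inv_eq_of_mul_eq_one_right
    (by rw [← pow_succ']; exact orderOf_dvd_iff_pow_eq_one.mp hy.dvd)
  interval_cases i <;> first
    | exact Or.inl (pow_one y)
    | exact Or.inr hinv.symm
    | omega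

theorem mul_comm_of_inverts {s y : G} (h : s * y * s⁻¹ = y⁻¹) (a : ℤ) : s * y ^ a * s⁻¹ = y ^ (-a) := by
  rw [← conj_zpow, h, inv_zpow']

/-- An inverted element of order five has many inverters. -/
theorem Hyp.inverter_bound (h : Hyp G) {s y : G} (hs : orderOf s = 2) (hy : orderOf y = 5)
    (hinv : s * y * s⁻¹ = y⁻¹) : 7920 ≤ Nat.card {u : G // IsConj s u} ^ 2 := by
  classical
  obtain ⟨hn5, hY, -, -, -⟩ := h.five
  obtain ⟨Y, hyY⟩ := (IsPGroup.of_card (G := zpowers y) (n := 1) (p := 5)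
    (by rw [Nat.card_zpowers, hy, pow_one])).exists_le_sylow
  have hYy : zpowers y = (Y : Subgroup G) :=
    Subgroup.eq_of_le_of_card_ge hyY (by rw [hY, Nat.card_zpowers, hy])
  have hex : ∀ v : {v : G // orderOf v = 5}, ∃ u : G, IsConj s u ∧ u * v.1 * u⁻¹ = v.1⁻¹ := by
    rintro ⟨v, hv⟩
    obtain ⟨Y', hvY⟩ := (IsPGroup.of_card (G := zpowers v) (n := 1) (p := 5)
      (by rw [Nat.card_zpowers, hv, pow_one])).exists_le_sylow
    obtain ⟨g, hg⟩ := MulAction.exists_smul_eq G Y Y'
    have hvmem : v ∈ ((g • Y : Sylow 5 G) : Subgroup G) := hg ▸ hvY (mem_zpowers v)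
    rw [Sylow.smul_def, Sylow.pointwise_smul_def] at hvmem
    obtain ⟨w, hw, hwv⟩ := hvmem
    obtain ⟨i, rfl⟩ := mem_zpowers_iff.mp (hYy ▸ hw : w ∈ zpowers y)
    have hwv' : g * y ^ i * g⁻¹ = v := hwv
    refine ⟨g * s * g⁻¹, isConj_iff.mpr ⟨g, rfl⟩, ?_⟩
    subst hwv'
    calc g * s * g⁻¹ * (g * y ^ i * g⁻¹) * (g * s * g⁻¹)⁻¹ = g * (s * y ^ i * s⁻¹) * g⁻¹ := by group
      _ = g * y ^ (-i) * g⁻¹ := by rw [mul_comm_of_inverts hinv]
      _ = (g * y ^ i * g⁻¹)⁻¹ := by group
  choose u hu hu' using hex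
  have hcard5 : Nat.card {v : G // orderOf v = 5} = 1584 := by
    rw [card_orderOf_eq_prime hY, hn5]
  have hinv2 : ∀ v : {v : G // orderOf v = 5}, (u v) * (u v) = 1 := fun v => by
    obtain ⟨g, hg⟩ := isConj_iff.mp (hu v)
    rw [← hg, show g * s * g⁻¹ * (g * s * g⁻¹) = g * (s * s) * g⁻¹ by group,
      show s * s = 1 by rw [← sq, ← hs, pow_orderOf_eq_one]]
    group
  have hswap : ∀ (v : {v : G // orderOf v = 5}) (a : ℕ), u v * v.1 ^ a = (v.1 ^ a)⁻¹ * u v :=
    fun v a => mul_inv_eq_iff_eq_mul.mp (by rw [← conj_pow, hu' v, inv_pow])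
  let φ : {v : G // orderOf v = 5} × Fin 5 → {w : G // IsConj s w} × {w : G // IsConj s w} :=
    fun p => (⟨(p.1.1 ^ p.2.1)⁻¹ * u p.1 * p.1.1 ^ p.2.1, (hu p.1).trans
        (isConj_iff.mpr ⟨(p.1.1 ^ p.2.1)⁻¹, by group⟩)⟩,
      ⟨(p.1.1 ^ (p.2.1 + 3))⁻¹ * u p.1 * p.1.1 ^ (p.2.1 + 3), (hu p.1).trans
        (isConj_iff.mpr ⟨(p.1.1 ^ (p.2.1 + 3))⁻¹, by group⟩)⟩)
  have hval : ∀ (v : {v : G // orderOf v = 5}) (a : ℕ),
      (v.1 ^ a)⁻¹ * u v * v.1 ^ a = u v * v.1 ^ (a + a) := fun v a => by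
    rw [← hswap, mul_assoc, ← pow_add]
  have hφ : Function.Injective φ := by
    rintro ⟨v, a⟩ ⟨v', a'⟩ e
    have e1 : u v * v.1 ^ (a.1 + a.1) = u v' * v'.1 ^ (a'.1 + a'.1) := by
      rw [← hval, ← hval]; exact congrArg (fun q => (q.1 : G)) e
    have e2 : u v * v.1 ^ (a.1 + 3 + (a.1 + 3)) = u v' * v'.1 ^ (a'.1 + 3 + (a'.1 + 3)) := by
      rw [← hval, ← hval]; exact congrArg (fun q => (q.2 : G)) e
    have h6 : ∀ (w : {w : G // orderOf w = 5}) (b : ℕ),
        u w * w.1 ^ (b + 3 + (b + 3)) = (u w * w.1 ^ (b + b)) * w.1 := fun w b => by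
      rw [show b + 3 + (b + 3) = (b + b) + 5 + 1 by omega, pow_succ, pow_add,
        orderOf_dvd_iff_pow_eq_one.mp w.2.dvd, mul_one, mul_assoc]
    rw [h6, h6, e1] at e2
    have hvv : v = v' := Subtype.ext (mul_left_cancel e2)
    subst hvv
    have h7 := pow_eq_pow_iff_modEq.mp (mul_left_cancel e1)
    rw [v.2, Nat.ModEq] at h7
    have := a.isLt
    have := a'.isLt
    have : a = a' := Fin.ext (by omega)
    rw [this]
  have hle := Nat.card_le_card_of_injective φ hφ
  rw [Nat.card_prod, Nat.card_prod, hcard5, Nat.card_fin] at hle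
  rw [sq]
  omega

theorem not_commute_eleven (h : Hyp G) {t : G} (ht : orderOf t = 2) :
    ¬ 11 ∣ Nat.card (centralizer ({t} : Set G)) := by
  intro hd
  obtain ⟨⟨x, hx⟩, hxo⟩ := exists_prime_orderOf_dvd_card' (G := centralizer ({t} : Set G)) 11 hd
  rw [Subgroup.orderOf_mk] at hxo
  have h1 := Subgroup.orderOf_dvd_natCard (centralizer ({x} : Set G))
    (x := t) (mem_centralizer_singleton_iff.mpr (mem_centralizer_singleton_iff.mp hx).symm)
  rw [h.card_centralizer_eleven hxo, ht] at h1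
  norm_num at h1

/-- If a subgroup of order five has centraliser of order ten, there is a subgroup of index eleven. -/
theorem Hyp.exists_index_of_ten (h : Hyp G)
    (hC : ∀ Y : Sylow 5 G, Nat.card (centralizer ((Y : Subgroup G) : Set G)) = 10) :
    ∃ H : Subgroup G, H.index = 11 := by
  classical
  haveI : Fact (Nat.Prime 2) := ⟨Nat.prime_two⟩
  obtain ⟨hn5, hY, hN, -, -⟩ := h.five
  obtain ⟨Y₀⟩ : Nonempty (Sylow 5 G) := inferInstance
  -- a centraliser of order ten has only one involution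
  have huniq : ∀ Y : Sylow 5 G, ∀ r s : G, r ∈ centralizer ((Y : Subgroup G) : Set G) →
      s ∈ centralizer ((Y : Subgroup G) : Set G) → orderOf r = 2 → orderOf s = 2 → r = s := by
    intro Y r s hr hs hro hso
    obtain ⟨⟨y, hy⟩, hyo⟩ := exists_prime_orderOf_dvd_card' (G := (Y : Subgroup G)) 5 (by rw [hY])
    rw [Subgroup.orderOf_mk] at hyo
    haveI := isMulCommutative_of_prime_card (G := (Y : Subgroup G)) (by rw [hY]; norm_num)
    have hyC : y ∈ centralizer ((Y : Subgroup G) : Set G) := (Y : Subgroup G).le_centralizer hy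
    have hc : Commute r y := (hr y hy).symm
    have hvo : orderOf (r * y) = 10 := by
      rw [hc.orderOf_mul_eq_mul_orderOf_of_coprime (by rw [hro, hyo]; norm_num), hro, hyo]
    have heq : zpowers (r * y) = centralizer ((Y : Subgroup G) : Set G) :=
      Subgroup.eq_of_le_of_card_ge (zpowers_le.mpr (mul_mem hr hyC))
        (by rw [hC, Nat.card_zpowers, hvo])
    have key : ∀ w, w ∈ centralizer ((Y : Subgroup G) : Set G) → orderOf w = 2 → w = (r * y) ^ 5 := by
      intro w hw hwo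
      rw [← heq, mem_zpowers_iff_mem_range_orderOf, hvo] at hw
      simp only [Finset.mem_image, Finset.mem_range] at hw
      obtain ⟨i, hi, rfl⟩ := hw
      have h2 : (r * y) ^ (i * 2) = 1 := by rw [pow_mul, ← hwo, pow_orderOf_eq_one]
      have h3 := orderOf_dvd_of_pow_eq_one h2
      rw [hvo] at h3
      have hi0 : i ≠ 0 := by rintro rfl; simp at hwo
      congr 1
      omega
    rw [key r hr hro, key s hs hso]
  obtain ⟨⟨t, htC⟩, hto⟩ := exists_prime_orderOf_dvd_card'
    (G := centralizer ((Y₀ : Subgroup G) : Set G)) 2 (by rw [hC]; norm_num)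
  rw [Subgroup.orderOf_mk] at hto
  have hconjmem : ∀ (g u : G) (Y : Sylow 5 G), u ∈ centralizer ((Y : Subgroup G) : Set G) →
      g * u * g⁻¹ ∈ centralizer (((g • Y : Sylow 5 G) : Subgroup G) : Set G) := by
    intro g u Y hu z hz
    rw [Sylow.smul_def, Sylow.pointwise_smul_def] at hz
    obtain ⟨w, hw, rfl⟩ := hz
    exact (Commute.map (show Commute w u from hu w hw) (MulAut.conj g).toMonoidHom).eq
  have hconjord : ∀ g u : G, orderOf (g * u * g⁻¹) = orderOf u := fun g u =>
    MulEquiv.orderOf_eq (MulAut.conj g) u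
  let K := {u : G // IsConj t u}
  let r : Sylow 5 G → K → Prop := fun Y u => u.1 ∈ centralizer ((Y : Subgroup G) : Set G)
  have hKord : ∀ u : K, orderOf u.1 = 2 := fun u => by
    obtain ⟨g, hg⟩ := isConj_iff.mp u.2
    rw [← hg, hconjord, hto]
  have hone : ∀ Y, Nat.card {u // r Y u} = 1 := by
    intro Y
    obtain ⟨g, hg⟩ := MulAction.exists_smul_eq G Y₀ Y
    rw [Nat.card_eq_one_iff_unique]
    refine ⟨⟨fun a b => Subtype.ext (Subtype.ext (huniq Y _ _ a.2 b.2 (hKord a.1) (hKord b.1)))⟩,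
      ⟨⟨⟨g * t * g⁻¹, isConj_iff.mpr ⟨g, rfl⟩⟩, ?_⟩⟩⟩
    rw [← hg]
    exact hconjmem g t Y₀ htC
  set m := Nat.card {Y : Sylow 5 G // r Y ⟨t, IsConj.refl t⟩} with hm
  have hmall : ∀ u : K, Nat.card {Y // r Y u} = m := by
    rintro ⟨u, hu⟩
    obtain ⟨g, rfl⟩ := isConj_iff.mp hu
    refine Nat.card_congr (Equiv.subtypeEquiv (MulAction.toPerm g) fun Y => ⟨hconjmem g t Y,
      fun hh => ?_⟩).symm
    have h1 := hconjmem g⁻¹ (g * t * g⁻¹) (MulAction.toPerm g Y) hh
    simp only [MulAction.toPerm_apply, inv_smul_smul, inv_inv] at h1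
    simpa [r, mul_assoc] using h1
  have hdc := double_count r hone hmall
  rw [hn5, mul_one] at hdc
  have hcl := class_card t
  rw [h.card] at hcl
  set n := Nat.card (centralizer ({t} : Set G))
  set k := Nat.card K
  have hn20 : n = 20 * m := by
    have hk : 0 < k := by
      rcases Nat.eq_zero_or_pos k with h0 | h0
      · rw [h0, Nat.zero_mul] at hdc; omega
      · exact h0
    refine Nat.eq_of_mul_eq_mul_left hk (hcl.trans ?_)
    calc 7920 = 396 * 20 := by norm_num
      _ = k * m * 20 := by rw [← hdc]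
      _ = k * (20 * m) := by ring
  have hm5 : m % 5 = 1 := by
    letI : MulAction (Y₀ : Subgroup G) {Y : Sylow 5 G // r Y ⟨t, IsConj.refl t⟩} :=
      { smul := fun v Y => ⟨(v : G) • Y.1, by
          have h1 := hconjmem (v : G) t Y.1 Y.2
          rwa [show (v : G) * t * (v : G)⁻¹ = t by
            rw [show (v : G) * t = t * v from htC v v.2, mul_inv_cancel_right]] at h1⟩
        one_smul := fun Y => Subtype.ext (one_smul G Y.1)
        mul_smul := fun v w Y => Subtype.ext (mul_smul (v : G) (w : G) Y.1) }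
    have hmod := (IsPGroup.of_card (G := (Y₀ : Subgroup G)) (n := 1) (p := 5)
      (by rw [hY, pow_one])).card_modEq_card_fixedPoints {Y : Sylow 5 G // r Y ⟨t, IsConj.refl t⟩}
    have hfix : Nat.card (MulAction.fixedPoints (Y₀ : Subgroup G)
        {Y : Sylow 5 G // r Y ⟨t, IsConj.refl t⟩}) = 1 := by
      rw [Nat.card_eq_one_iff_unique]
      refine ⟨⟨fun a b => ?_⟩, ⟨⟨⟨Y₀, htC⟩, fun v => Subtype.ext
        (smul_eq_iff.mpr (Subgroup.le_normalizer v.2))⟩⟩⟩
      have key : ∀ a : MulAction.fixedPoints (Y₀ : Subgroup G)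
          {Y : Sylow 5 G // r Y ⟨t, IsConj.refl t⟩}, a.1.1 = Y₀ := fun a => by
        obtain ⟨⟨v, hv⟩, hvo⟩ := exists_prime_orderOf_dvd_card' (G := (Y₀ : Subgroup G)) 5 (by rw [hY])
        rw [Subgroup.orderOf_mk] at hvo
        have hva := mem_of_normalizes hvo a.1.1 (smul_eq_iff.mp (congrArg Subtype.val (a.2 ⟨v, hv⟩)))
        apply Sylow.ext
        rw [← Subgroup.eq_of_le_of_card_ge (zpowers_le.mpr hva) (by rw [hY, Nat.card_zpowers, hvo]),
          ← Subgroup.eq_of_le_of_card_ge (zpowers_le.mpr hv) (by rw [hY, Nat.card_zpowers, hvo])]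
      exact Subtype.ext (Subtype.ext ((key a).trans (key b).symm))
    rw [hfix, ← hm, Nat.ModEq] at hmod
    omega
  have hm36 : m ∣ 36 := by
    have h1 : n ∣ 720 * 11 := ⟨k, by rw [mul_comm n k, hcl]⟩
    have h2 := (((Nat.Prime.coprime_iff_not_dvd (by norm_num : Nat.Prime 11)).mpr
      (not_commute_eleven h hto)).symm.dvd_of_dvd_mul_right h1)
    rw [show Nat.card (centralizer ({t} : Set G)) = n from rfl, hn20] at h2
    exact Nat.dvd_of_mul_dvd_mul_left (by norm_num) (show 20 * m ∣ 20 * 36 by simpa using h2)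
  have key : ∀ d ∈ Nat.divisors 36, d % 5 = 1 → d = 1 ∨ d = 6 ∨ d = 36 := by decide +kernel
  rcases key m (Nat.mem_divisors.mpr ⟨hm36, by norm_num⟩) hm5 with h1 | h1 | h1
  · exfalso
    have hI := h.card_invol_le 15 fun Y => by
      have hsub : ∀ s : {s : G // orderOf s = 2 ∧ s ∈ normalizer ((Y : Subgroup G) : Set G)},
          (⟨s.1, s.2.2⟩ : normalizer ((Y : Subgroup G) : Set G)) ∉
            (Y : Subgroup G).subgroupOf (normalizer ((Y : Subgroup G) : Set G)) := fun s hs => by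
        have h5 := Subgroup.orderOf_dvd_natCard _ (Subgroup.mem_subgroupOf.mp hs)
        rw [hY, s.2.1] at h5
        norm_num at h5
      have hle := Nat.card_le_card_of_injective
        (fun s : {s : G // orderOf s = 2 ∧ s ∈ normalizer ((Y : Subgroup G) : Set G)} =>
          (⟨⟨s.1, s.2.2⟩, hsub s⟩ : {g : normalizer ((Y : Subgroup G) : Set G) //
            g ∉ (Y : Subgroup G).subgroupOf (normalizer ((Y : Subgroup G) : Set G))}))
        (fun a b e => Subtype.ext (congrArg (fun x => (x.1 : G)) e))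
      haveI := Fintype.ofFinite (normalizer ((Y : Subgroup G) : Set G))
      refine hle.trans (le_of_eq ?_)
      rw [Nat.card_eq_fintype_card, Fintype.card_subtype_compl, ← Nat.card_eq_fintype_card,
        ← Nat.card_eq_fintype_card, hN,
        Nat.card_congr (Subgroup.subgroupOfEquivOfLe Subgroup.le_normalizer).toEquiv, hY]
    have hsub : k ≤ Nat.card {s : G // orderOf s = 2} := Nat.card_le_card_of_injective
      (fun u : K => (⟨u.1, hKord u⟩ : {s : G // orderOf s = 2}))
      (fun a b e => Subtype.ext (congrArg Subtype.val e :))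
    rw [h1, mul_one] at hdc
    omega
  · exfalso
    rw [h1] at hdc
    have hk66 : k = 66 := by omega
    have hfix : Nat.card {Y : Sylow 5 G // t • Y = Y} = 6 := by
      rw [← h1, hm]
      refine Nat.card_congr (Equiv.subtypeEquivRight fun Y =>
        ⟨fun hfY => ?_, fun hcY => smul_eq_iff.mpr (centralizer_le_normalizer _ hcY)⟩)
      intro v hv
      by_cases hv1 : v = 1
      · simp [hv1]
      have hvo : orderOf v = 5 := by
        have h5 := Subgroup.orderOf_dvd_natCard _ hv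
        rw [hY] at h5
        exact ((Nat.dvd_prime (by norm_num : Nat.Prime 5)).mp h5).resolve_left
          (fun e => hv1 (orderOf_eq_one_iff.mp e))
      have hYv : zpowers v = (Y : Subgroup G) :=
        Subgroup.eq_of_le_of_card_ge (zpowers_le.mpr hv) (by rw [hY, Nat.card_zpowers, hvo])
      have htN : t ∈ normalizer ((zpowers v : Subgroup G) : Set G) := hYv ▸ smul_eq_iff.mp hfY
      rcases invol_conj_five hto hvo htN with e | e
      · exact (mul_inv_eq_iff_eq_mul.mp e).symm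
      · have hb := h.inverter_bound hto hvo e
        rw [show Nat.card {u : G // IsConj t u} = k from rfl, hk66] at hb
        norm_num at hb
    have hfour := h.moved_four (α := Sylow 5 G) hto hfix
    rw [hn5] at hfour
    norm_num at hfour
  · refine ⟨centralizer ({t} : Set G), ?_⟩
    have h2 := (centralizer ({t} : Set G)).index_mul_card
    rw [h.card, show Nat.card (centralizer ({t} : Set G)) = n from rfl, hn20, h1] at h2
    omega

/-- The involutions when subgroups of order five are self-centralising. -/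
theorem Hyp.invol_of_five (h : Hyp G)
    (hC : ∀ Y : Sylow 5 G, Nat.card (centralizer ((Y : Subgroup G) : Set G)) = 5) : Invol G := by
  classical
  haveI : Fact (Nat.Prime 2) := ⟨Nat.prime_two⟩
  obtain ⟨hn5, hY, hN, -, -⟩ := h.five
  have hzY : ∀ y : G, orderOf y = 5 → ∃ Y : Sylow 5 G, zpowers y = (Y : Subgroup G) := fun y hy => by
    obtain ⟨Y, hyY⟩ := (IsPGroup.of_card (G := zpowers y) (n := 1) (p := 5)
      (by rw [Nat.card_zpowers, hy, pow_one])).exists_le_sylow
    exact ⟨Y, Subgroup.eq_of_le_of_card_ge hyY (by rw [hY, Nat.card_zpowers, hy])⟩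
  have hCy : ∀ y : G, orderOf y = 5 → Nat.card (centralizer ({y} : Set G)) = 5 := fun y hy => by
    obtain ⟨Y, hy'⟩ := hzY y hy
    rw [← Subgroup.centralizer_closure, ← zpowers_eq_closure, hy', hC]
  have hyY : ∀ Y : Sylow 5 G, ∃ y : G, orderOf y = 5 ∧ zpowers y = (Y : Subgroup G) := fun Y => by
    obtain ⟨⟨y, hy⟩, hyo⟩ := exists_prime_orderOf_dvd_card' (G := (Y : Subgroup G)) 5 (by rw [hY])
    rw [Subgroup.orderOf_mk] at hyo
    exact ⟨y, hyo, Subgroup.eq_of_le_of_card_ge (zpowers_le.mpr hy)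
      (by rw [hY, Nat.card_zpowers, hyo])⟩
  have hinvert : ∀ (s y : G), orderOf s = 2 → orderOf y = 5 →
      s ∈ normalizer ((zpowers y : Subgroup G) : Set G) → s * y * s⁻¹ = y⁻¹ := by
    intro s y hs hy hm
    refine (invol_conj_five hs hy hm).resolve_left fun e => ?_
    have h1 := Subgroup.orderOf_dvd_natCard (centralizer ({y} : Set G)) (x := s)
      (mem_centralizer_singleton_iff.mpr (mul_inv_eq_iff_eq_mul.mp e))
    rw [hCy y hy, hs] at h1
    norm_num at h1
  have hj : ∀ Y : Sylow 5 G,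
      Nat.card {s : G // orderOf s = 2 ∧ s ∈ normalizer ((Y : Subgroup G) : Set G)} ≤ 5 := by
    intro Y
    obtain ⟨y, hy, hy'⟩ := hyY Y
    by_cases hne : Nonempty {s : G // orderOf s = 2 ∧ s ∈ normalizer ((Y : Subgroup G) : Set G)}
    swap
    · rw [not_nonempty_iff] at hne
      rw [Nat.card_of_isEmpty]
      norm_num
    obtain ⟨⟨s₀, hs₀, hs₀'⟩⟩ := hne
    rw [← hy'] at hs₀'
    have e0 := hinvert s₀ y hs₀ hy hs₀'
    refine le_of_le_of_eq ?_ (hCy y hy)
    refine Nat.card_le_card_of_injective (fun s => (⟨s₀ * s.1, ?_⟩ : centralizer ({y} : Set G)))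
      fun a b e => Subtype.ext (mul_left_cancel (congrArg Subtype.val e))
    have e1 := hinvert s.1 y s.2.1 hy (by rw [hy']; exact s.2.2)
    rw [mem_centralizer_singleton_iff, ← mul_inv_eq_iff_eq_mul]
    calc s₀ * s.1 * y * (s₀ * s.1)⁻¹ = s₀ * (s.1 * y * s.1⁻¹) * s₀⁻¹ := by group
      _ = (s₀ * y * s₀⁻¹)⁻¹ := by rw [e1]; group
      _ = y := by rw [e0, inv_inv]
  have hI := h.card_invol_le 5 hj
  obtain ⟨Y₀⟩ : Nonempty (Sylow 5 G) := inferInstance
  obtain ⟨⟨t, htN⟩, hto⟩ := exists_prime_orderOf_dvd_card'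
    (G := normalizer ((Y₀ : Subgroup G) : Set G)) 2 (by rw [hN]; norm_num)
  rw [Subgroup.orderOf_mk] at hto
  obtain ⟨y₀, hy₀, hy₀'⟩ := hyY Y₀
  have ht0 := hinvert t y₀ hto hy₀ (hy₀' ▸ htN)
  have hb := h.inverter_bound hto hy₀ ht0
  have hcl := class_card t
  rw [h.card] at hcl
  set n := Nat.card (centralizer ({t} : Set G))
  set k := Nat.card {u : G // IsConj t u}
  have hKord : ∀ u : {u : G // IsConj t u}, orderOf u.1 = 2 := fun u => by
    obtain ⟨g, hg⟩ := isConj_iff.mp u.2
    rw [← hg]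
    exact (MulEquiv.orderOf_eq (MulAut.conj g) t).trans hto
  have hkI : k ≤ Nat.card {s : G // orderOf s = 2} := Nat.card_le_card_of_injective
    (fun u : {u : G // IsConj t u} => (⟨u.1, hKord u⟩ : {s : G // orderOf s = 2}))
    (fun a b e => Subtype.ext (congrArg Subtype.val e :))
  have hn144 : n ∣ 144 := by
    have h5 : ¬ 5 ∣ n := fun hd => by
      obtain ⟨⟨y, hy⟩, hyo⟩ := exists_prime_orderOf_dvd_card' (G := centralizer ({t} : Set G)) 5 hd
      rw [Subgroup.orderOf_mk] at hyo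
      have h1 := Subgroup.orderOf_dvd_natCard (centralizer ({y} : Set G)) (x := t)
        (mem_centralizer_singleton_iff.mpr (mem_centralizer_singleton_iff.mp hy).symm)
      rw [hCy y hyo, hto] at h1
      norm_num at h1
    have h11 : ¬ 11 ∣ n := not_commute_eleven h hto
    exact ((Nat.Prime.coprime_iff_not_dvd (by norm_num)).mpr h5).symm.dvd_of_dvd_mul_right
      (((Nat.Prime.coprime_iff_not_dvd (by norm_num)).mpr h11).symm.dvd_of_dvd_mul_right
        (show n ∣ 144 * 5 * 11 from ⟨k, by norm_num; rw [mul_comm, hcl]⟩))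
  have hk89 : 89 ≤ k := by nlinarith
  have hk165 : k ≤ 165 := hkI.trans (hI.trans (by norm_num))
  have hcase : n = 48 ∨ n = 72 := by
    have key : ∀ d ∈ Nat.divisors 144, 89 * d ≤ 7920 → 7920 ≤ 165 * d → d = 48 ∨ d = 72 := by
      decide +kernel
    refine key n (Nat.mem_divisors.mpr ⟨hn144, by norm_num⟩) ?_ ?_
    · rw [← hcl]; exact Nat.mul_le_mul_right n hk89
    · rw [← hcl]; exact Nat.mul_le_mul_right n hk165
  -- the pairs of a conjugate of `t` and a subgroup of order five normalised by it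
  have hconjN : ∀ (g u : G) (Y : Sylow 5 G), u • Y = Y → (g * u * g⁻¹) • g • Y = g • Y :=
    fun g u Y e => by rw [mul_smul, mul_smul, inv_smul_smul, e]
  let r : Sylow 5 G → {u : G // IsConj t u} → Prop := fun Y u => u.1 • Y = Y
  have hfive : ∀ Y, Nat.card {u // r Y u} = 5 := by
    intro Y
    refine le_antisymm ?_ ?_
    · exact (Nat.card_le_card_of_injective
        (fun u : {u // r Y u} => (⟨u.1.1, hKord u.1, smul_eq_iff.mp u.2⟩ :
          {s : G // orderOf s = 2 ∧ s ∈ normalizer ((Y : Subgroup G) : Set G)}))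
        fun a b e => Subtype.ext (Subtype.ext (congrArg Subtype.val e :))).trans (hj Y)
    · obtain ⟨g, hg⟩ := MulAction.exists_smul_eq G Y₀ Y
      have hcand : ∀ i : Fin 5, (g * y₀ ^ i.1 * t * (g * y₀ ^ i.1)⁻¹) • Y = Y := fun i => by
        have hy0Y : (y₀ ^ i.1) • Y₀ = Y₀ := smul_eq_iff.mpr
          (Subgroup.le_normalizer (hy₀' ▸ pow_mem (mem_zpowers y₀) _))
        have := hconjN (g * y₀ ^ i.1) t Y₀ (smul_eq_iff.mpr htN)
        rwa [mul_smul g (y₀ ^ i.1), hy0Y, hg] at this
      let φ : Fin 5 → {u // r Y u} := fun i =>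
        ⟨⟨g * y₀ ^ i.1 * t * (g * y₀ ^ i.1)⁻¹, isConj_iff.mpr ⟨_, rfl⟩⟩, hcand i⟩
      have hφ : Function.Injective φ := by
        intro i j e
        have e' : g * y₀ ^ i.1 * t * (g * y₀ ^ i.1)⁻¹ = g * y₀ ^ j.1 * t * (g * y₀ ^ j.1)⁻¹ :=
          congrArg (fun u : {u // r Y u} => u.1.1) e
        have hmove : ∀ a : ℕ, y₀ ^ a * t * (y₀ ^ a)⁻¹ = y₀ ^ (a + a) * t := fun a => by
          have h1 : t * (y₀ ^ a)⁻¹ = y₀ ^ a * t := by
            rw [← mul_inv_eq_iff_eq_mul, ← zpow_natCast, ← zpow_neg, mul_comm_of_inverts ht0,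
              neg_neg]
          rw [mul_assoc, h1, ← mul_assoc, ← pow_add]
        have e2 : y₀ ^ i.1 * t * (y₀ ^ i.1)⁻¹ = y₀ ^ j.1 * t * (y₀ ^ j.1)⁻¹ := by
          apply mul_left_cancel (a := g)
          apply mul_right_cancel (b := g⁻¹)
          calc _ = g * y₀ ^ i.1 * t * (g * y₀ ^ i.1)⁻¹ := by group
            _ = g * y₀ ^ j.1 * t * (g * y₀ ^ j.1)⁻¹ := e'
            _ = _ := by group
        rw [hmove, hmove] at e2
        have h7 := pow_eq_pow_iff_modEq.mp (mul_right_cancel e2)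
        rw [hy₀, Nat.ModEq] at h7
        have := i.isLt
        have := j.isLt
        exact Fin.ext (by omega)
      have := Nat.card_le_card_of_injective φ hφ
      rwa [Nat.card_fin] at this
  obtain ⟨f, hf⟩ : ∃ f, ∀ u, Nat.card {Y // r Y u} = f := by
    refine ⟨Nat.card {Y // r Y ⟨t, IsConj.refl t⟩}, ?_⟩
    rintro ⟨u, hu⟩
    obtain ⟨g, rfl⟩ := isConj_iff.mp hu
    refine Nat.card_congr (Equiv.subtypeEquiv (MulAction.toPerm g) fun Y => ⟨hconjN g t Y,
      fun (e : (g * t * g⁻¹) • g • Y = g • Y) => smul_left_cancel g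
        (show g • t • Y = g • Y by rwa [mul_smul, mul_smul, inv_smul_smul] at e)⟩).symm
  have hdc := double_count r hfive hf
  rw [hn5] at hdc
  rcases hcase with h48 | h72
  swap
  · exfalso
    have hk : k = 110 := by rw [h72] at hcl; omega
    rw [show Nat.card {u : G // IsConj t u} = k from rfl, hk] at hdc
    have hfix : Nat.card {Y : Sylow 5 G // t • Y = Y} = 18 :=
      (hf ⟨t, IsConj.refl t⟩).trans (by omega)
    have hfour := h.moved_four (α := Sylow 5 G) hto hfix
    rw [hn5] at hfour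
    norm_num at hfour
  have hk : k = 165 := by rw [h48] at hcl; omega
  have hIk : Nat.card {s : G // orderOf s = 2} = 165 := le_antisymm (hI.trans (by norm_num)) (hk ▸ hkI)
  have hall : ∀ s : G, orderOf s = 2 → IsConj t s := fun s hs => by
    have hbij : Function.Bijective
        (fun u : {u : G // IsConj t u} => (⟨u.1, hKord u⟩ : {s : G // orderOf s = 2})) :=
      Function.Injective.bijective_of_nat_card_le
        (fun a b e => Subtype.ext (congrArg Subtype.val e :))
        (by rw [hIk, show Nat.card {u : G // IsConj t u} = k from rfl, hk])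
    obtain ⟨u, hu⟩ := hbij.2 ⟨s, hs⟩
    rw [← show u.1 = s from congrArg Subtype.val hu]
    exact u.2
  refine ⟨hCy, fun x hx => h.card_centralizer_eleven hx, fun s s' hs hs' =>
    (hall s hs).symm.trans (hall s' hs'), fun s hs => ?_, hIk⟩
  obtain ⟨g, rfl⟩ := isConj_iff.mp (hall s hs)
  rw [conj_centralizer_card]
  exact h48

theorem Hyp.index_or_invol (h : Hyp G) : (∃ H : Subgroup G, H.index = 11) ∨ Invol G := by
  obtain ⟨-, -, -, -, hc | hc⟩ := h.five
  · exact Or.inr (h.invol_of_five hc)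
  · exact Or.inl (h.exists_index_of_ten hc)

end Cfsg.Agent.Recog.OrderM11
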