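import Cfsg.Agent.Recog.OrderM11.Cases
import Cfsg.Agent.Recog.ElevenFour
import Cfsg.Agent.Perm.ElevenClassify
import Cfsg.Agent.NSE.MathieuEleven
import Cfsg.Agent.Golay.MElevenCentralizer

/-!
A simple group of order 7920 is the Mathieu group on eleven points.
-/

set_option autoImplicit false
set_option linter.style.haveILetI false
set_option linter.unusedSectionVars false

namespace Cfsg.Agent.Recog.OrderM11

open Cfsg Cfsg.Agent.SmallGroups Subgroup MulAction

variable {G : Type*} [Group G] [Finite G]

theorem Hyp.not_solvable (h : Hyp G) : ¬ Group.IsSolvable G := fun hs => by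
  haveI := h.simple
  exact h.nc ⟨⟨fun a b => IsSimpleGroup.comm_iff_isSolvable.mpr hs a b⟩⟩

/-- Uniqueness of the simple group of order 7920. -/
theorem Hyp.nonempty_equiv_M11 (h : Hyp G) : Nonempty (G ≃* Spor.M11) := by
  classical
  haveI := h.simple
  obtain ⟨H, hH⟩ := h.exists_index
  haveI := Fintype.ofFinite (G ⧸ H)
  have hdeg : Fintype.card (G ⧸ H) = 11 := by
    rw [← Nat.card_eq_fintype_card, ← Subgroup.index_eq_card, hH]
  set φ := MulAction.toPermHom G (G ⧸ H) with hφ
  have hinj : Function.Injective φ := by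
    rw [← MonoidHom.ker_eq_bot_iff]
    refine ((inferInstance : φ.ker.Normal).eq_bot_or_eq_top).resolve_right fun e => ?_
    haveI : Subsingleton (G ⧸ H) := ⟨fun a b => by
      obtain ⟨g, rfl⟩ := MulAction.exists_smul_eq G a b
      exact (Equiv.congr_fun (MonoidHom.mem_ker.mp (show g ∈ φ.ker by rw [e]; exact Subgroup.mem_top g)) a).symm⟩
    have := Fintype.card_le_one_iff_subsingleton.mpr (inferInstance : Subsingleton (G ⧸ H))
    omega
  let e : G ≃* φ.range := MonoidHom.ofInjective hinj
  haveI : IsPretransitive φ.range (G ⧸ H) := ⟨fun a b => by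
    obtain ⟨g, hg⟩ := MulAction.exists_smul_eq G a b
    exact ⟨⟨φ g, g, rfl⟩, hg⟩⟩
  have hcard : Nat.card φ.range = 7920 := (Nat.card_congr e.toEquiv).symm.trans h.card
  have hns : ¬ Group.IsSolvable φ.range := fun hs =>
    h.not_solvable (Group.isSolvable_of_isSolvable_injective (f := e.toMonoidHom) e.injective)
  have hA : ¬ alternatingGroup (G ⧸ H) ≤ φ.range := fun hle => by
    haveI : Nontrivial (G ⧸ H) := Fintype.one_lt_card_iff_nontrivial.mp (by rw [hdeg]; norm_num)
    have h1 := Subgroup.card_dvd_of_le hle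
    rw [hcard] at h1
    have h2 := two_mul_nat_card_alternatingGroup (α := G ⧸ H)
    rw [Nat.card_perm, Nat.card_eq_fintype_card (α := G ⧸ H), hdeg] at h2
    have h3 := Nat.le_of_dvd (by norm_num) h1
    rw [show Nat.factorial 11 = 39916800 from rfl] at h2
    omega
  rcases PermLib.Eleven.classify hdeg φ.range hns hA with ⟨e660, -⟩ | ⟨h4, hbot⟩
  · omega
  haveI := h4
  have hE : NSE.Eleven φ.range (G ⧸ H) :=
    ⟨Sharply.isSharpFour_of_stabilizer_bot h4 hbot, hdeg, hcard, e.symm.isSimpleGroup⟩
  obtain ⟨f⟩ := ElevenFour.nonempty_equiv hE NSE.M11_eleven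
  exact ⟨e.trans f⟩

theorem M11_centralizer_card {x : Spor.M11} (hx : orderOf x = 2) :
    Nat.card (centralizer ({x} : Set Spor.M11)) = 48 := by
  obtain ⟨ψ⟩ := Golay.M11_centralizer_involution x hx
  rw [Nat.card_congr ψ.toEquiv, Nat.card_eq_fintype_card]
  decide +kernel

theorem card_centralizer_congr {M : Type*} [Group M] (f : G ≃* M) (x : G) :
    Nat.card (centralizer ({x} : Set G)) = Nat.card (centralizer ({f x} : Set M)) :=
  Nat.card_congr (f.toEquiv.subtypeEquiv fun y => by
    simp only [mem_centralizer_singleton_iff, MulEquiv.toEquiv_eq_coe, MulEquiv.coe_toEquiv]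
    exact ⟨fun hy => by rw [← map_mul, ← map_mul, hy],
      fun hy => f.injective (by rw [map_mul, map_mul, hy])⟩)

/-- The facts about involutions and centralisers hold in every simple group of order 7920. -/
theorem Hyp.invol (h : Hyp G) : Invol G := by
  obtain ⟨f⟩ := h.nonempty_equiv_M11
  have hcent : ∀ t : G, orderOf t = 2 → Nat.card (centralizer ({t} : Set G)) = 48 := fun t ht => by
    rw [card_centralizer_congr f t]
    exact M11_centralizer_card ((f.orderOf_eq t).trans ht)
  have hcount : Nat.card {t : G // orderOf t = 2} = 165 := by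
    rw [← NSE.M11_eleven.count_two]
    exact Nat.card_congr (f.toEquiv.subtypeEquiv fun t => by simp [MulEquiv.orderOf_eq])
  refine ⟨fun y hy => ?_, fun x hx => ?_, fun s t hs ht => ?_, hcent, hcount⟩
  · rw [card_centralizer_congr f y]
    exact NSE.M11_eleven.centralizer_card_five ((f.orderOf_eq y).trans hy)
  · rw [card_centralizer_congr f x]
    exact NSE.M11_eleven.centralizer_card_eleven ((f.orderOf_eq x).trans hx)
  · have h1 := class_card s
    rw [hcent s hs, h.card] at h1
    by_contra hne
    haveI := Fintype.ofFinite {u : G // orderOf u = 2}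
    let j : {u : G // IsConj s u} → {u : G // orderOf u = 2} := fun u => ⟨u.1, by
      obtain ⟨g, hg⟩ := isConj_iff.mp u.2
      rw [← hg, orderOf_conj, hs]⟩
    have hj : Function.Injective j := fun a b e => Subtype.ext (congrArg Subtype.val e :)
    have hb := hj.bijective_of_nat_card_le (by rw [hcount]; omega)
    obtain ⟨u, hu⟩ := hb.2 ⟨t, ht⟩
    have hut : u.1 = t := congrArg Subtype.val hu
    exact hne (hut ▸ u.2)

theorem Hyp.three (h : Hyp G) : Three G := h.invol.three h

end Cfsg.Agent.Recog.OrderM11
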