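import Cfsg.Agent.Recog.OrderM11.Three

/-!
An involution centraliser has no normal subgroup of order three.
-/

set_option autoImplicit false
set_option linter.style.haveILetI false
set_option linter.unusedSectionVars false

namespace Cfsg.Agent.Recog.OrderM11

open Cfsg.Agent.SmallGroups Subgroup

variable {G : Type*} [Group G] [Finite G]

theorem cent_le_normalizer_zpowers {w : G} (hw : orderOf w = 3) :
    centralizer ({w} : Set G) ≤ normalizer ((zpowers w : Subgroup G) : Set G) := fun _ hx =>
  (mem_normalizer_zpowers hw).mpr (Or.inl (mul_inv_eq_iff_eq_mul.mpr (mem_cent.mp hx).eq))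

/-- A Sylow subgroup containing a given element of order three. -/
theorem exists_sylow_mem {w : G} (hw : orderOf w = 3) : ∃ P : Sylow 3 G, w ∈ (P : Subgroup G) := by
  obtain ⟨P, hP⟩ := (IsPGroup.of_card (G := zpowers w) (n := 1) (p := 3)
    (by rw [Nat.card_zpowers, hw, pow_one])).exists_le_sylow
  exact ⟨P, hP (mem_zpowers w)⟩

theorem Invol.b_ne (I : Invol G) (h : Hyp G) {t w : G} (ht : orderOf t = 2) (hw : orderOf w = 3)
    (htw : Commute t w) : bCard t w ≠ 48 := by
  classical
  intro hb
  have ha : aCard t w = 24 ∨ aCard t w = 48 := by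
    rcases I.ab_cases ht hw htw with ⟨-, x⟩ | ⟨e, -⟩
    · exact x
    · omega
  have hall : ∀ u v : G, orderOf u = 2 → orderOf v = 3 → Commute u v →
      centralizer ({u} : Set G) ≤ normalizer ((zpowers v : Subgroup G) : Set G) := by
    intro u v hu hv huv
    have e : centralizer ({u} : Set G) ⊓ normalizer ((zpowers v : Subgroup G) : Set G) =
        centralizer ({u} : Set G) := Subgroup.eq_of_le_of_card_ge inf_le_left (by
      rw [I.cent u hu]
      exact (((I.card_indep ht hu hw hv htw huv).2.trans hb)).ge)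
    exact inf_eq_left.mp e
  set M := centralizer ({w} : Set G) with hM
  have haM : aCard t w ∣ Nat.card M := Subgroup.card_dvd_of_le inf_le_right
  obtain ⟨P, hwP⟩ := exists_sylow_mem hw
  have h9 : 9 ∣ Nat.card M := h.sylow_three P ▸ Subgroup.card_dvd_of_le (h.nine_dvd_cent P hwP)
  have hM144 := I.cent_dvd h hw
  have hMc : Nat.card M = 72 ∨ Nat.card M = 144 := by
    have key : ∀ d ∈ Nat.divisors 144, 9 ∣ d → 24 ∣ d → d = 72 ∨ d = 144 := by decide +kernel
    refine key _ (Nat.mem_divisors.mpr ⟨hM144, by norm_num⟩) h9 (dvd_trans ?_ haM)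
    rcases ha with e | e <;> rw [e] <;> norm_num
  -- the normaliser has order 144
  set N := normalizer ((zpowers w : Subgroup G) : Set G) with hN
  have hN144 : Nat.card N = 144 := by
    have hMN : M ≤ N := cent_le_normalizer_zpowers hw
    have h48 : 48 ∣ Nat.card N := I.cent t ht ▸ Subgroup.card_dvd_of_le (hall t w ht hw htw)
    have hle : Nat.card N ≤ 2 * Nat.card M := by
      by_cases heq : N ≤ M
      · have := Subgroup.card_le_of_le heq
        omega
      obtain ⟨g, hgN, hgM⟩ := SetLike.not_le_iff_exists.mp heq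
      have hinv : ∀ x ∈ N, x ∉ M → x * w * x⁻¹ = w⁻¹ := fun x hx hxM =>
        ((mem_normalizer_zpowers hw).mp hx).resolve_left fun e =>
          hxM (mem_cent.mpr (mul_inv_eq_iff_eq_mul.mp e))
      have hidx : (M.subgroupOf N).index = 2 := by
        rw [Subgroup.index_eq_two_iff]
        refine ⟨⟨g, hgN⟩, fun x => ?_⟩
        simp only [Subgroup.mem_subgroupOf, Subgroup.coe_mul]
        by_cases hx : (x : G) ∈ M
        · refine Or.inr ⟨hx, fun hxg => hgM ?_⟩
          simpa using M.mul_mem (M.inv_mem hx) hxg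
        · refine Or.inl ⟨mem_cent.mpr (mul_inv_eq_iff_eq_mul.mp ?_), hx⟩
          calc (x : G) * g * w * ((x : G) * g)⁻¹ = (x : G) * (g * w * g⁻¹) * (x : G)⁻¹ := by group
            _ = ((x : G) * w * (x : G)⁻¹)⁻¹ := by rw [hinv g hgN hgM]; group
            _ = w := by rw [hinv x x.2 hx, inv_inv]
      have h1 := (M.subgroupOf N).index_mul_card
      rw [hidx, Nat.card_congr (Subgroup.subgroupOfEquivOfLe hMN).toEquiv] at h1
      omega
    have h9N : 9 ∣ Nat.card N := h9.trans (Subgroup.card_dvd_of_le hMN)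
    obtain ⟨q, hq⟩ : 144 ∣ Nat.card N := by
      have := Nat.lcm_dvd h48 h9N
      simpa [Nat.lcm] using this
    have hpos : 0 < Nat.card N := Nat.card_pos
    have hd : Nat.card N ∣ 7920 := by
      have := Subgroup.card_subgroup_dvd_card N
      rwa [h.card] at this
    have hq2 : q ≤ 2 := by omega
    rcases (show q = 1 ∨ q = 2 by omega) with rfl | rfl
    · simpa using hq
    · rw [hq] at hd
      norm_num at hd
  -- three involutions centralise `w`
  have hi : Nat.card {u : G // orderOf u = 2 ∧ Commute u w} = 3 := by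
    let r : G ⧸ N → {u : G // orderOf u = 2} → Prop := fun q u =>
      ∃ g : G, (g : G ⧸ N) = q ∧ Commute u.1 (g * w * g⁻¹)
    have hwd : ∀ (g g' : G) (u : G), (g : G ⧸ N) = g' → Commute u (g * w * g⁻¹) →
        Commute u (g' * w * g'⁻¹) := by
      intro g g' u e hc
      have hn : (g⁻¹ * g') * w * (g⁻¹ * g')⁻¹ = w ∨ (g⁻¹ * g') * w * (g⁻¹ * g')⁻¹ = w⁻¹ :=
        (mem_normalizer_zpowers hw).mp (QuotientGroup.eq.mp e)
      have hsplit : g' * w * g'⁻¹ = g * ((g⁻¹ * g') * w * (g⁻¹ * g')⁻¹) * g⁻¹ := by group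
      rcases hn with e' | e' <;> rw [hsplit, e']
      · exact hc
      · rw [← conj_inv]; exact hc.inv_right
    have hleft : ∀ q, Nat.card {u // r q u} = Nat.card {u : G // orderOf u = 2 ∧ Commute u w} := by
      intro q
      obtain ⟨g, rfl⟩ := QuotientGroup.mk_surjective q
      refine Nat.card_congr
        { toFun := fun u => ⟨g⁻¹ * u.1.1 * g, ?_, ?_⟩
          invFun := fun u => ⟨⟨g * u.1 * g⁻¹, (orderOf_conj g u.1).trans u.2.1⟩, g, rfl,
            commute_conj g u.2.2⟩
          left_inv := fun u => Subtype.ext (Subtype.ext (by simp [mul_assoc]))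
          right_inv := fun u => Subtype.ext (by simp [mul_assoc]) }
      · have := orderOf_conj g⁻¹ u.1.1
        rw [inv_inv] at this
        exact this.trans u.1.2
      · obtain ⟨g', e, hc⟩ := u.2
        have := commute_conj g⁻¹ (hwd g' g u.1.1 e hc)
        simpa [mul_assoc] using this
    have hright : ∀ u, Nat.card {q // r q u} = 1 := by
      rintro ⟨u, hu⟩
      rw [Nat.card_eq_one_iff_unique]
      obtain ⟨g₀, hg₀⟩ := isConj_iff.mp (I.conj t u ht hu)
      refine ⟨⟨fun a b => ?_⟩, ⟨⟨(g₀ : G ⧸ N), g₀, rfl, hg₀ ▸ commute_conj g₀ htw⟩⟩⟩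
      obtain ⟨q, g, rfl, hc⟩ := a
      obtain ⟨q', g', rfl, hc'⟩ := b
      apply Subtype.ext
      refine QuotientGroup.eq.mpr ?_
      have hgw : orderOf (g * w * g⁻¹) = 3 := by rw [orderOf_conj, hw]
      have hgw' : orderOf (g' * w * g'⁻¹) = 3 := by rw [orderOf_conj, hw]
      have hle := hall u (g * w * g⁻¹) hu hgw hc
      have heq : zpowers (g' * w * g'⁻¹) = zpowers (g * w * g⁻¹) := by
        by_contra hne
        set C := centralizer ({u} : Set G)
        set a := g * w * g⁻¹
        set b := g' * w * g'⁻¹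
        have hbC : b ∈ C := mem_cent.mpr hc'.symm
        have haC : a ∈ C := mem_cent.mpr hc.symm
        -- `⟨a, b⟩` would have order nine
        have hbn := (mem_normalizer_zpowers hgw).mp (hle hbC)
        have hab : Commute b a := by
          rcases hbn with e | e
          · exact mul_inv_eq_iff_eq_mul.mp e
          · exfalso
            have h3 : b ^ 3 = 1 := orderOf_dvd_iff_pow_eq_one.mp hgw'.dvd
            have e3 : b ^ 3 * a * (b ^ 3)⁻¹ = a⁻¹ := by
              rw [show b ^ 3 * a * (b ^ 3)⁻¹ = b * (b * (b * a * b⁻¹) * b⁻¹) * b⁻¹ by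
                rw [pow_succ, pow_succ, pow_one]; group, e, ← conj_inv, e, inv_inv, e]
            rw [h3, one_mul, inv_one, mul_one] at e3
            have : a ^ 2 = 1 := by rw [sq]; nth_rewrite 2 [e3]; exact mul_inv_cancel a
            have := orderOf_dvd_of_pow_eq_one this
            rw [hgw] at this
            norm_num at this
        have hbot : zpowers a ⊓ zpowers b = ⊥ := by
          by_contra hnb
          have hd := Subgroup.card_dvd_of_le (inf_le_left : zpowers a ⊓ zpowers b ≤ zpowers a)
          rw [Nat.card_zpowers, hgw] at hd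
          have h3 : Nat.card ↥(zpowers a ⊓ zpowers b) = 3 :=
            ((Nat.dvd_prime Nat.prime_three).mp hd).resolve_left (fun e => hnb (Subgroup.eq_bot_of_card_eq _ e))
          refine hne ((Subgroup.eq_of_le_of_card_ge inf_le_right ?_).symm.trans
            (Subgroup.eq_of_le_of_card_ge inf_le_left ?_))
          · rw [h3, Nat.card_zpowers, hgw']
          · rw [h3, Nat.card_zpowers, hgw]
        let f : zpowers a × zpowers b →* C :=
          { toFun := fun p => ⟨p.1.1 * p.2.1, C.mul_mem (zpowers_le.mpr haC p.1.2) (zpowers_le.mpr hbC p.2.2)⟩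
            map_one' := Subtype.ext (one_mul 1)
            map_mul' := fun p p' => by
              obtain ⟨⟨_, i, rfl⟩, ⟨_, j, rfl⟩⟩ := p
              obtain ⟨⟨_, i', rfl⟩, ⟨_, j', rfl⟩⟩ := p'
              exact Subtype.ext ((hab.symm.zpow_zpow i' j).mul_mul_mul_comm _ _) }
        have hf : Function.Injective f := by
          rw [← MonoidHom.ker_eq_bot_iff, Subgroup.eq_bot_iff_forall]
          rintro ⟨⟨x, hx⟩, ⟨y, hy⟩⟩ e
          have e' : x * y = 1 := congrArg Subtype.val e
          have hxy : x = y⁻¹ := mul_eq_one_iff_eq_inv.mp e'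
          have hx' : x ∈ zpowers a ⊓ zpowers b := ⟨hx, hxy ▸ (zpowers b).inv_mem hy⟩
          rw [hbot, Subgroup.mem_bot] at hx'
          subst hx'
          rw [one_mul] at e'
          subst e'
          rfl
        have h9' := Subgroup.card_dvd_of_injective f hf
        rw [Nat.card_prod, Nat.card_zpowers, Nat.card_zpowers, hgw, hgw', I.cent u hu] at h9'
        norm_num at h9'
      rw [mem_normalizer_zpowers hw]
      have hm : g' * w * g'⁻¹ = g * w * g⁻¹ ∨ g' * w * g'⁻¹ = (g * w * g⁻¹)⁻¹ := by
        have hmem : g' * w * g'⁻¹ ∈ zpowers (g * w * g⁻¹) := heq ▸ mem_zpowers _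
        rw [mem_zpowers_iff_mem_range_orderOf, hgw] at hmem
        simp only [Finset.mem_image, Finset.mem_range] at hmem
        obtain ⟨i, hi, e⟩ := hmem
        interval_cases i
        · exfalso; simp [← e] at hgw'
        · exact Or.inl (by rw [← e, pow_one])
        · exact Or.inr (by
            rw [← e]
            exact eq_inv_of_mul_eq_one_left (by rw [← pow_succ]; exact orderOf_dvd_iff_pow_eq_one.mp hgw.dvd))
      rcases hm with e | e
      · left
        rw [show g⁻¹ * g' * w * (g⁻¹ * g')⁻¹ = g⁻¹ * (g' * w * g'⁻¹) * g by group, e]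
        group
      · right
        rw [show g⁻¹ * g' * w * (g⁻¹ * g')⁻¹ = g⁻¹ * (g' * w * g'⁻¹) * g by group, e]
        group
    have hdc := double_count r hleft hright
    rw [I.count, mul_one] at hdc
    have hq55 : Nat.card (G ⧸ N) = 55 := by
      have := N.index_mul_card
      rw [hN144, h.card] at this
      rw [← Subgroup.index_eq_card]
      omega
    rw [hq55] at hdc
    omega
  -- `M` acts on these involutions with an even kernel
  let T := {u : G // orderOf u = 2 ∧ Commute u w}
  letI : MulAction M T :=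
    { smul := fun g u => ⟨(g : G) * u.1 * (g : G)⁻¹, (orderOf_conj _ _).trans u.2.1, by
        have := commute_conj (g : G) u.2.2
        rwa [show (g : G) * w * (g : G)⁻¹ = w from mul_inv_eq_iff_eq_mul.mpr (mem_cent.mp g.2).eq] at this⟩
      one_smul := fun u => Subtype.ext (show (1 : G) * u.1 * (1 : G)⁻¹ = u.1 by simp)
      mul_smul := fun a b u => Subtype.ext
        (show ((a : G) * b) * u.1 * ((a : G) * b)⁻¹ = a * (b * u.1 * (b : G)⁻¹) * (a : G)⁻¹ by group) }
  let t₀ : T := ⟨t, ht, htw⟩
  have hstab : Nat.card (MulAction.stabilizer M t₀) = aCard t w := by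
    refine Nat.card_congr
      { toFun := fun g => ⟨g.1.1, mem_cent.mpr (mul_inv_eq_iff_eq_mul.mp
          (congrArg Subtype.val g.2 :)), g.1.2⟩
        invFun := fun g => ⟨⟨g.1, g.2.2⟩, Subtype.ext (show g.1 * t * g.1⁻¹ = t from
          mul_inv_eq_iff_eq_mul.mpr (mem_cent.mp g.2.1))⟩
        left_inv := fun _ => rfl
        right_inv := fun _ => rfl }
  have horb : MulAction.orbit M t₀ = Set.univ := by
    have h1 := (MulAction.stabilizer M t₀).index_mul_card
    rw [MulAction.index_stabilizer, hstab] at h1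
    have hle : (MulAction.orbit M t₀).ncard ≤ 3 := by
      rw [← hi, ← Set.ncard_univ]
      exact Set.ncard_le_ncard (Set.subset_univ _)
    refine Set.eq_of_subset_of_ncard_le (Set.subset_univ _) ?_
    rw [Set.ncard_univ, show Nat.card T = 3 from hi]
    rcases ha with e | e <;> rw [e] at h1 <;> rcases hMc with e' | e' <;>
      rw [show Nat.card M = _ from e'] at h1 <;> omega
  haveI : MulAction.IsPretransitive M T := (MulAction.isPretransitive_iff_orbit_eq_univ t₀).mpr horb
  set K := (MulAction.toPermHom M T).ker with hK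
  have hKeven : 2 ∣ Nat.card K := by
    have h1 := Subgroup.card_eq_card_quotient_mul_card_subgroup K
    rw [Nat.card_congr (QuotientGroup.quotientKerEquivRange _).toEquiv] at h1
    have h2 := Subgroup.card_subgroup_dvd_card (MulAction.toPermHom M T).range
    rw [Nat.card_perm, show Nat.card T = 3 from hi] at h2
    have h3 : Nat.card (MulAction.toPermHom M T).range ∈ Nat.divisors 6 :=
      Nat.mem_divisors.mpr ⟨h2, by norm_num⟩
    rw [show (6 : ℕ).divisors = {1, 2, 3, 6} by decide] at h3
    simp only [Finset.mem_insert, Finset.mem_singleton] at h3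
    rcases h3 with e | e | e | e <;> rw [e] at h1 <;> rcases hMc with e' | e' <;>
      rw [show Nat.card M = _ from e'] at h1 <;> omega
  have hcomm : ∀ a b : T, Commute a.1 b.1 := by
    obtain ⟨⟨⟨z, hzM⟩, hzK⟩, hzo⟩ := exists_prime_orderOf_dvd_card' (G := K) 2 hKeven
    rw [Subgroup.orderOf_mk, Subgroup.orderOf_mk] at hzo
    let z₀ : T := ⟨z, hzo, (mem_cent.mp hzM)⟩
    have hzfix : ∀ b : T, (⟨z, hzM⟩ : M) • b = b := fun b => Equiv.Perm.congr_fun hzK b
    intro a b
    obtain ⟨g, rfl⟩ := MulAction.exists_smul_eq M z₀ a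
    obtain ⟨b, rfl⟩ : ∃ b', g • b' = b := ⟨g⁻¹ • b, smul_inv_smul g b⟩
    have : Commute z b.1 := mul_inv_eq_iff_eq_mul.mp (congrArg Subtype.val (hzfix b) :)
    exact commute_conj (g : G) this
  rcases hMc with h72 | h144
  · -- a Sylow 3-subgroup of `M` would centralise an involution
    set PM : Sylow 3 M := P.subtype (h.nine_dvd_cent P hwP) with hPM
    have hn := card_sylow_mul_card_normalizer PM
    rw [show Nat.card M = 72 from h72] at hn
    have hmod := card_sylow_modEq_one 3 M
    rw [Nat.ModEq] at hmod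
    have hnd : Nat.card (Sylow 3 M) ∈ Nat.divisors 72 := Nat.mem_divisors.mpr ⟨⟨_, hn.symm⟩, by norm_num⟩
    have key : ∀ d ∈ Nat.divisors 72, d % 3 = 1 → d = 1 ∨ d = 4 := by decide +kernel
    have heven : 2 ∣ Nat.card (normalizer ((PM : Subgroup M) : Set M)) := by
      rcases key _ hnd (by simpa using hmod) with e | e <;> rw [e] at hn <;> omega
    obtain ⟨⟨⟨u, huM⟩, huN⟩, huo⟩ := exists_prime_orderOf_dvd_card'
      (G := normalizer ((PM : Subgroup M) : Set M)) 2 heven
    rw [Subgroup.orderOf_mk, Subgroup.orderOf_mk] at huo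
    refine I.not_central h huo P fun p hp => ?_
    have hpM : p ∈ M := h.nine_dvd_cent P hwP hp
    let u₀ : T := ⟨u, huo, mem_cent.mp huM⟩
    have hc : Commute u (p * u * p⁻¹) := hcomm u₀ ((⟨p, hpM⟩ : M) • u₀)
    -- the commutator lies in `P` and squares to one
    have hmem : u * (p * u * p⁻¹) ∈ (P : Subgroup G) := by
      have h1 : (⟨u, huM⟩ : M) * ⟨p, hpM⟩ * (⟨u, huM⟩ : M)⁻¹ ∈ (PM : Subgroup M) :=
        (Subgroup.mem_normalizer_iff.mp huN ⟨p, hpM⟩).mp hp
      have h2 : u * p * u⁻¹ ∈ (P : Subgroup G) := h1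
      rw [invol_inv huo] at h2
      rw [show u * (p * u * p⁻¹) = u * p * u * p⁻¹ by group]
      exact mul_mem h2 (inv_mem hp)
    have hsq : (u * (p * u * p⁻¹)) * (u * (p * u * p⁻¹)) = 1 := by
      rw [← sq, hc.mul_pow, sq, sq, invol_mul_self huo,
        invol_mul_self ((orderOf_conj p u).trans huo), one_mul]
    have h1 : u * (p * u * p⁻¹) = 1 := by
      by_contra hne
      have hd := Subgroup.orderOf_dvd_natCard _ hmem
      rw [h.sylow_three P, orderOf_two hsq hne] at hd
      norm_num at hd
    have e : p * u * p⁻¹ = u := by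
      rw [← invol_inv huo, eq_inv_iff_mul_eq_one, invol_inv huo]
      exact (mul_eq_one_comm.mp h1)
    exact (mul_inv_eq_iff_eq_mul.mp e).symm
  · -- three involutions in a centraliser
    have hgt : ∀ s : G, Commute t s → Commute s w := by
      have h1 := (MulAction.stabilizer M t₀).index_mul_card
      rw [MulAction.index_stabilizer, horb, Set.ncard_univ, show Nat.card T = 3 from hi, hstab,
        show Nat.card M = 144 from h144] at h1
      have e : centralizer ({t} : Set G) ⊓ centralizer ({w} : Set G) = centralizer ({t} : Set G) :=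
        Subgroup.eq_of_le_of_card_ge inf_le_left (by rw [I.cent t ht]; show 48 ≤ aCard t w; omega)
      intro s hs
      exact mem_cent.mp ((inf_eq_left.mp e) (mem_cent.mpr hs.symm))
    have hc3 : Nat.card {s : G // orderOf s = 2 ∧ Commute t s} = 3 := by
      rw [← hi]
      exact Nat.card_congr (Equiv.subtypeEquivRight fun s =>
        ⟨fun hs => ⟨hs.1, hgt s hs.2⟩, fun hs => ⟨hs.1, hcomm t₀ ⟨s, hs⟩⟩⟩)
    have := I.c_one h ht
    rw [hc3] at this
    norm_num at this

end Cfsg.Agent.Recog.OrderM11
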