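import Cfsg.Agent.Recog.OrderM11.CentralThree

/-!
The Sylow 3-subgroups: there are 55, they meet trivially, and each is inverted by nine involutions.
-/

set_option autoImplicit false
set_option linter.style.haveILetI false
set_option linter.unusedSectionVars false

namespace Cfsg.Agent.Recog.OrderM11

open Cfsg.Agent.SmallGroups Subgroup

variable {G : Type*} [Group G] [Finite G]

theorem Invol.six (I : Invol G) (h : Hyp G) {t w : G} (ht : orderOf t = 2) (hw : orderOf w = 3)
    (htw : Commute t w) : aCard t w = 6 ∧ bCard t w = 12 := by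
  rcases I.ab_cases ht hw htw with ⟨e, -⟩ | ⟨e, x | x⟩
  · exact absurd e (I.b_ne h ht hw htw)
  · exact ⟨x, e⟩
  · exact absurd x (I.a_ne h ht hw htw)

/-- An element of order three commuting with an involution has centraliser of order eighteen. -/
theorem Invol.cent_eighteen (I : Invol G) (h : Hyp G) {t w : G} (ht : orderOf t = 2)
    (hw : orderOf w = 3) (htw : Commute t w) :
    Nat.card (centralizer ({w} : Set G)) = 18 := by
  classical
  set M := centralizer ({w} : Set G) with hM
  obtain ⟨P, hwP⟩ := exists_sylow_mem hw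
  have h9 : 9 ∣ Nat.card M := h.sylow_three P ▸ Subgroup.card_dvd_of_le (h.nine_dvd_cent P hwP)
  have hM144 := I.cent_dvd h hw
  have htM : t ∈ M := mem_cent.mpr htw
  obtain ⟨S, hS⟩ := (IsPGroup.of_card (G := zpowers (⟨t, htM⟩ : M)) (n := 1) (p := 2)
    (by rw [Nat.card_zpowers, Subgroup.orderOf_mk, ht, pow_one])).exists_le_sylow
  have htS : (⟨t, htM⟩ : M) ∈ (S : Subgroup M) := hS (mem_zpowers _)
  -- an element of the 2-group normalising `⟨t⟩` centralises `t`
  have hcent : ∀ s : S, Commute (s.1.1) t → (s : M) ∈ zpowers (⟨t, htM⟩ : M) := by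
    intro s hs
    have ha := (I.six h ht hw htw).1
    have hmem : (s.1.1) ∈ centralizer ({t} : Set G) ⊓ centralizer ({w} : Set G) := ⟨mem_cent.mpr hs, s.1.2⟩
    have hd := Subgroup.orderOf_dvd_natCard _ hmem
    rw [show Nat.card ↥(centralizer ({t} : Set G) ⊓ centralizer ({w} : Set G)) = 6 from ha,
      show orderOf s.1.1 = orderOf s by rw [Subgroup.orderOf_coe, Subgroup.orderOf_coe]] at hd
    obtain ⟨k, hk⟩ := IsPGroup.iff_orderOf.mp S.isPGroup' s
    rw [hk] at hd
    have hk1 : k ≤ 1 := by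
      by_contra h2
      have h4 : 2 ^ 2 ∣ 6 := (pow_dvd_pow 2 (by omega)).trans hd
      norm_num at h4
    by_cases h1 : s.1 = 1
    · rw [h1]; exact one_mem _
    have h2 : orderOf s.1.1 = 2 := by
      rw [Subgroup.orderOf_coe, Subgroup.orderOf_coe, hk]
      interval_cases k
      · exact absurd (congrArg Subtype.val (orderOf_eq_one_iff.mp (hk.trans (pow_zero 2)))) h1
      · rfl
    by_contra hne
    -- two involutions and `w` in a group of order six
    set B := centralizer ({t} : Set G) ⊓ centralizer ({w} : Set G) with hB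
    have hst : s.1.1 ≠ t := fun e => hne (by
      have : (s : M) = ⟨t, htM⟩ := Subtype.ext e
      rw [this]; exact mem_zpowers _)
    have hu : orderOf (s.1.1 * t) = 2 := orderOf_two (by
      rw [← sq, hs.mul_pow, sq, sq, invol_mul_self h2, invol_mul_self ht, one_mul])
      (fun e => hst (by rw [mul_eq_one_iff_eq_inv.mp e, invol_inv ht]))
    haveI : Fact (Nat.Prime 2) := ⟨Nat.prime_two⟩
    set s₀ : B := ⟨s.1.1, hmem⟩
    set t₀ : B := ⟨t, mem_cent.mpr (Commute.refl t), mem_cent.mpr htw⟩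
    have hp : IsPGroup 2 ↥(zpowers s₀ ⊔ zpowers t₀) := by
      refine IsPGroup.to_sup_of_normal_right' ?_ ?_ ?_
      · exact IsPGroup.of_card (n := 1) (by rw [Nat.card_zpowers, ← Subgroup.orderOf_coe, pow_one]; exact h2)
      · exact IsPGroup.of_card (n := 1) (by rw [Nat.card_zpowers, ← Subgroup.orderOf_coe, pow_one]; exact ht)
      · refine le_trans ?_ (centralizer_le_normalizer _)
        rw [zpowers_le, cent_zpowers]
        exact mem_cent.mpr (Subtype.ext hs)
    obtain ⟨U, hU⟩ := hp.exists_le_sylow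
    have hU2 : Nat.card (U : Subgroup B) = 2 :=
      (card_sylow_subgroup (a := 1) (m := 3)
        (by rw [show Nat.card B = 6 from ha]; norm_num) (by norm_num) U).trans (pow_one 2)
    have e1 : zpowers s₀ = (U : Subgroup B) := Subgroup.eq_of_le_of_card_ge (le_sup_left.trans hU)
      (by rw [hU2, Nat.card_zpowers, ← Subgroup.orderOf_coe]; exact h2.ge)
    have htmem : t₀ ∈ zpowers s₀ := e1 ▸ (le_sup_right.trans hU) (mem_zpowers t₀)
    rw [mem_zpowers_iff_mem_range_orderOf, ← Subgroup.orderOf_coe, show orderOf (s₀ : G) = 2 from h2] at htmem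
    simp only [Finset.mem_image, Finset.mem_range] at htmem
    obtain ⟨i, hi, e⟩ := htmem
    have e' : s.1.1 ^ i = t := congrArg Subtype.val e
    interval_cases i
    · rw [pow_zero] at e'; simp [← e'] at ht
    · exact hst (by rw [← e', pow_one])
  have hS2 : (S : Subgroup M) = zpowers (⟨t, htM⟩ : M) := by
    refine le_antisymm ?_ hS
    intro s hs
    by_contra hne
    -- the normaliser condition in the 2-group
    set Z := (zpowers (⟨t, htM⟩ : M)).subgroupOf (S : Subgroup M) with hZ
    haveI : Group.IsNilpotent (S : Subgroup M) := S.isPGroup'.isNilpotent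
    have hlt : Z < ⊤ := lt_top_iff_ne_top.mpr fun e => hne
      (Subgroup.mem_subgroupOf.mp (e.symm ▸ Subgroup.mem_top (⟨s, hs⟩ : (S : Subgroup M)) :
        (⟨s, hs⟩ : (S : Subgroup M)) ∈ Z))
    obtain ⟨a, ha, haZ⟩ := SetLike.exists_of_lt (Group.normalizerCondition_of_isNilpotent Z hlt)
    have hc : Commute a.1.1 t := by
      have h1 := (Subgroup.mem_normalizer_iff.mp ha ⟨⟨t, htM⟩, htS⟩).mp (mem_zpowers _)
      rw [Subgroup.mem_subgroupOf, mem_zpowers_iff_mem_range_orderOf, Subgroup.orderOf_mk, ht] at h1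
      simp only [Finset.mem_image, Finset.mem_range] at h1
      obtain ⟨i, hi, e⟩ := h1
      have e' : t ^ i = a.1.1 * t * a.1.1⁻¹ := congrArg Subtype.val e
      interval_cases i
      · exfalso
        rw [pow_zero] at e'
        have : t = 1 := by simpa [conj_eq_one_iff] using e'.symm
        simp [this] at ht
      · rw [pow_one] at e'
        exact mul_inv_eq_iff_eq_mul.mp e'.symm
    exact haZ (Subgroup.mem_subgroupOf.mpr (hcent a hc))
  have h2part : Nat.card (S : Subgroup M) = 2 := by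
    rw [hS2, Nat.card_zpowers, Subgroup.orderOf_mk, ht]
  have hSd := S.not_dvd_index
  have h1 := (S : Subgroup M).card_mul_index
  rw [h2part] at h1
  obtain ⟨c, hc⟩ := h9
  have key : ∀ d ∈ Nat.divisors 144, 9 ∣ d → 2 ∣ d → ¬ 4 ∣ d → d = 18 := by decide +kernel
  refine key _ (Nat.mem_divisors.mpr ⟨hM144, by norm_num⟩) ⟨c, hc⟩ ⟨_, h1.symm⟩ ?_
  rintro ⟨d, hd⟩
  exact hSd ⟨d, by omega⟩

/-- An element of order three commuting with an involution lies in a single Sylow subgroup, and
three involutions commute with it. -/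
theorem Invol.w_facts (I : Invol G) (h : Hyp G) {t w : G} (ht : orderOf t = 2)
    (hw : orderOf w = 3) (htw : Commute t w) :
    (∀ P Q : Sylow 3 G, w ∈ (P : Subgroup G) → w ∈ (Q : Subgroup G) → P = Q) ∧
      (∀ P : Sylow 3 G, w ∈ (P : Subgroup G) →
        centralizer ({w} : Set G) ≤ normalizer ((P : Subgroup G) : Set G)) ∧
      Nat.card {u : G // orderOf u = 2 ∧ Commute u w} = 3 ∧
      Nat.card (normalizer ((zpowers w : Subgroup G) : Set G)) = 36 := by
  classical
  set M := centralizer ({w} : Set G) with hM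
  have hM18 : Nat.card M = 18 := I.cent_eighteen h ht hw htw
  have htM : t ∈ M := mem_cent.mpr htw
  have hidx : ∀ P : Sylow 3 G, w ∈ (P : Subgroup G) → ((P : Subgroup G).subgroupOf M).index = 2 := by
    intro P hwP
    have h1 := ((P : Subgroup G).subgroupOf M).index_mul_card
    rw [Nat.card_congr (Subgroup.subgroupOfEquivOfLe (h.nine_dvd_cent P hwP)).toEquiv,
      h.sylow_three P, hM18] at h1
    omega
  have hnorm : ∀ P : Sylow 3 G, w ∈ (P : Subgroup G) → M ≤ normalizer ((P : Subgroup G) : Set G) := by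
    intro P hwP
    haveI := Subgroup.normal_of_index_eq_two (hidx P hwP)
    intro m hm
    rw [Subgroup.mem_normalizer_iff]
    intro x
    have hle := h.nine_dvd_cent P hwP
    constructor
    · intro hx
      exact (inferInstance : ((P : Subgroup G).subgroupOf M).Normal).conj_mem ⟨x, hle hx⟩ hx ⟨m, hm⟩
    · intro hx
      have := (inferInstance : ((P : Subgroup G).subgroupOf M).Normal).conj_mem ⟨_, hle hx⟩ hx ⟨m⁻¹, inv_mem hm⟩
      simpa [Subgroup.mem_subgroupOf, mul_assoc] using this
  have huniq : ∀ P Q : Sylow 3 G, w ∈ (P : Subgroup G) → w ∈ (Q : Subgroup G) → P = Q := by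
    intro P Q hP hQ
    apply Sylow.ext
    have h1 := IsPGroup.inf_normalizer_sylow Q.isPGroup' P
    have h2 : (Q : Subgroup G) ≤ (P : Subgroup G) := fun x hx => by
      have : x ∈ (Q : Subgroup G) ⊓ normalizer ((P : Subgroup G) : Set G) :=
        ⟨hx, (h.nine_dvd_cent Q hQ).trans (hnorm P hP) hx⟩
      exact (h1 ▸ this).2
    exact (Subgroup.eq_of_le_of_card_ge h2 (by rw [h.sylow_three P, h.sylow_three Q])).symm
  have h3 : Nat.card {u : G // orderOf u = 2 ∧ Commute u w} = 3 := by
    have hS : ∀ S : Sylow 2 M, Nat.card (S : Subgroup M) = 2 := fun S =>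
      (card_sylow_subgroup (a := 1) (m := 9) (by rw [hM18]; norm_num) (by norm_num) S).trans (pow_one 2)
    have hcnt := card_orderOf_eq_prime hS
    rw [show Nat.card {u : G // orderOf u = 2 ∧ Commute u w} = Nat.card {u : M // orderOf u = 2} from
      Nat.card_congr
        { toFun := fun u => ⟨⟨u.1, mem_cent.mpr u.2.2⟩, by rw [Subgroup.orderOf_mk]; exact u.2.1⟩
          invFun := fun u => ⟨u.1.1, by rw [Subgroup.orderOf_coe]; exact u.2, mem_cent.mp u.1.2⟩
          left_inv := fun _ => rfl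
          right_inv := fun _ => rfl }, hcnt]
    obtain ⟨S, hS'⟩ := (IsPGroup.of_card (G := zpowers (⟨t, htM⟩ : M)) (n := 1) (p := 2)
      (by rw [Nat.card_zpowers, Subgroup.orderOf_mk, ht, pow_one])).exists_le_sylow
    have hSeq : zpowers (⟨t, htM⟩ : M) = (S : Subgroup M) := Subgroup.eq_of_le_of_card_ge hS'
      (by rw [hS, Nat.card_zpowers, Subgroup.orderOf_mk, ht])
    have hN : Nat.card (normalizer ((S : Subgroup M) : Set M)) = 6 := by
      rw [← hSeq, ← (I.six h ht hw htw).1]
      refine Nat.card_congr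
        { toFun := fun a => ⟨a.1.1, mem_cent.mpr ?_, a.1.2⟩
          invFun := fun a => ⟨⟨a.1, a.2.2⟩, ?_⟩
          left_inv := fun _ => rfl
          right_inv := fun _ => rfl }
      · have hm := (Subgroup.mem_normalizer_iff.mp a.2 ⟨t, htM⟩).mp (mem_zpowers _)
        rw [mem_zpowers_iff_mem_range_orderOf, Subgroup.orderOf_mk, ht] at hm
        simp only [Finset.mem_image, Finset.mem_range] at hm
        obtain ⟨i, hi, e⟩ := hm
        have e' : t ^ i = a.1.1 * t * a.1.1⁻¹ := congrArg Subtype.val e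
        interval_cases i
        · exfalso
          rw [pow_zero] at e'
          have : t = 1 := by simpa [conj_eq_one_iff] using e'.symm
          simp [this] at ht
        · rw [pow_one] at e'
          exact mul_inv_eq_iff_eq_mul.mp e'.symm
      · refine (centralizer_le_normalizer _) ?_
        rw [cent_zpowers]
        exact mem_cent.mpr (Subtype.ext (mem_cent.mp a.2.1).eq)
    have := card_sylow_mul_card_normalizer S
    rw [hN, hM18] at this
    omega
  refine ⟨huniq, hnorm, h3, ?_⟩
  -- the normaliser of `⟨w⟩`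
  set N := normalizer ((zpowers w : Subgroup G) : Set G) with hN
  have hMN : M ≤ N := cent_le_normalizer_zpowers hw
  have hb := (I.six h ht hw htw).2
  have hgt : ¬ N ≤ M := fun hle => by
    have := Subgroup.card_le_of_le (inf_le_inf_left (centralizer ({t} : Set G)) hle)
    rw [show Nat.card ↥(centralizer ({t} : Set G) ⊓ N) = 12 from hb,
      show Nat.card ↥(centralizer ({t} : Set G) ⊓ M) = 6 from (I.six h ht hw htw).1] at this
    norm_num at this
  obtain ⟨g, hgN, hgM⟩ := SetLike.not_le_iff_exists.mp hgt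
  have hinv : ∀ x ∈ N, x ∉ M → x * w * x⁻¹ = w⁻¹ := fun x hx hxM =>
    ((mem_normalizer_zpowers hw).mp hx).resolve_left fun e =>
      hxM (mem_cent.mpr (mul_inv_eq_iff_eq_mul.mp e))
  have hidx2 : (M.subgroupOf N).index = 2 := by
    rw [Subgroup.index_eq_two_iff]
    refine ⟨⟨g, hgN⟩, fun x => ?_⟩
    simp only [Subgroup.mem_subgroupOf, Subgroup.coe_mul]
    by_cases hx : (x : G) ∈ M
    · refine Or.inr ⟨hx, fun hxg => hgM ?_⟩
      simpa using M.mul_mem (M.inv_mem hx) hxg
    · refine Or.inl ⟨mem_cent.mpr (mul_inv_eq_iff_eq_mul.mp ?_), hx⟩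
      calc (x : G) * g * w * ((x : G) * g)⁻¹ = (x : G) * (g * w * g⁻¹) * (x : G)⁻¹ := by group
        _ = ((x : G) * w * (x : G)⁻¹)⁻¹ := by rw [hinv g hgN hgM]; group
        _ = w := by rw [hinv x x.2 hx, inv_inv]
  have h1 := (M.subgroupOf N).index_mul_card
  rw [hidx2, Nat.card_congr (Subgroup.subgroupOfEquivOfLe hMN).toEquiv, hM18] at h1
  exact h1.symm

/-- The structure of the Sylow 3-subgroups. -/
structure Three (G : Type*) [Group G] : Prop where
  count : Nat.card (Sylow 3 G) = 55
  norm : ∀ P : Sylow 3 G, Nat.card (normalizer ((P : Subgroup G) : Set G)) = 144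
  meet : ∀ (P Q : Sylow 3 G) (p : G), p ∈ (P : Subgroup G) → p ∈ (Q : Subgroup G) → p ≠ 1 → P = Q
  order : ∀ (P : Sylow 3 G) (p : G), p ∈ (P : Subgroup G) → p ≠ 1 →
    orderOf p = 3 ∧ ∃ u : G, orderOf u = 2 ∧ Commute u p
  self : ∀ (P : Sylow 3 G) (g : G), (∀ p ∈ (P : Subgroup G), Commute g p) → g ∈ (P : Subgroup G)

theorem Invol.three (I : Invol G) (h : Hyp G) : Three G := by
  classical
  haveI := h.simple
  -- one pair `(t, w)`
  obtain ⟨t, ht⟩ : ∃ t : G, orderOf t = 2 :=
    exists_prime_orderOf_dvd_card' 2 (by rw [h.card]; norm_num)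
  obtain ⟨⟨w, hwC⟩, hwo⟩ := exists_prime_orderOf_dvd_card' (G := centralizer ({t} : Set G)) 3
    (by rw [I.cent t ht]; norm_num)
  rw [Subgroup.orderOf_mk] at hwo
  have htw : Commute t w := (mem_cent.mp hwC).symm
  obtain ⟨P₀, hwP₀⟩ := exists_sylow_mem hwo
  -- the elements of order three commuting with involutions
  let A := {v : G // orderOf v = 3 ∧ ∃ u : G, orderOf u = 2 ∧ Commute u v}
  have hdc := double_count (A := {u : G // orderOf u = 2}) (B := A) (i := 8) (j := 3)
    (fun u v => Commute u.1 v.1) ?_ ?_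
  rotate_left
  · rintro ⟨u, hu⟩
    obtain ⟨⟨v, hvC⟩, hvo⟩ := exists_prime_orderOf_dvd_card' (G := centralizer ({u} : Set G)) 3
      (by rw [I.cent u hu]; norm_num)
    rw [Subgroup.orderOf_mk] at hvo
    have huv : Commute u v := (mem_cent.mp hvC).symm
    set C := centralizer ({u} : Set G) with hC
    have hS3 : ∀ T : Sylow 3 C, Nat.card (T : Subgroup C) = 3 := fun T =>
      (card_sylow_subgroup (a := 1) (m := 16) (by rw [hC, I.cent u hu]; norm_num) (by norm_num) T).trans
        (pow_one 3)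
    have hn4 : Nat.card (Sylow 3 C) = 4 := by
      obtain ⟨W, hW⟩ := (IsPGroup.of_card (G := zpowers (⟨v, hvC⟩ : C)) (n := 1) (p := 3)
        (by rw [Nat.card_zpowers, Subgroup.orderOf_mk, hvo, pow_one])).exists_le_sylow
      have hWeq : zpowers (⟨v, hvC⟩ : C) = (W : Subgroup C) := Subgroup.eq_of_le_of_card_ge hW
        (by rw [hS3, Nat.card_zpowers, Subgroup.orderOf_mk, hvo])
      have h1 := card_sylow_mul_card_normalizer W
      have hnorm : Nat.card (normalizer ((W : Subgroup C) : Set C)) = 12 := by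
        rw [← (I.six h hu hvo huv).2, bCard, ← hC, ← Subgroup.card_map_of_injective C.subtype_injective]
        congr 1
        rw [← hWeq]
        have : (normalizer ((zpowers (⟨v, hvC⟩ : C) : Subgroup C) : Set C)).map C.subtype =
            C ⊓ normalizer ((zpowers v : Subgroup G) : Set G) := by
          ext x
          constructor
          · rintro ⟨y, hy, rfl⟩
            exact ⟨y.2, (mem_normalizer_zpowers hvo).mpr
              (((mem_normalizer_zpowers (a := (⟨v, hvC⟩ : C)) (by rw [Subgroup.orderOf_mk, hvo])).mp hy).imp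
                (fun e => congrArg Subtype.val e) (fun e => congrArg Subtype.val e))⟩
          · rintro ⟨hxC, hxN⟩
            exact ⟨⟨x, hxC⟩, (mem_normalizer_zpowers (by rw [Subgroup.orderOf_mk, hvo])).mpr
              (((mem_normalizer_zpowers hvo).mp hxN).imp (fun e => Subtype.ext e) (fun e => Subtype.ext e)), rfl⟩
        rw [this]
      rw [hnorm, show Nat.card C = 48 from I.cent u hu] at h1
      omega
    have := card_orderOf_eq_prime hS3
    rw [hn4] at this
    rw [show (8 : ℕ) = 4 * (3 - 1) from rfl, ← this]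
    exact Nat.card_congr
      { toFun := fun v => ⟨⟨v.1.1, mem_cent.mpr v.2.symm⟩, by rw [Subgroup.orderOf_mk]; exact v.1.2.1⟩
        invFun := fun v => ⟨⟨v.1.1, by rw [Subgroup.orderOf_coe]; exact v.2, u, hu, (mem_cent.mp v.1.2).symm⟩,
          (mem_cent.mp v.1.2).symm⟩
        left_inv := fun _ => rfl
        right_inv := fun _ => rfl }
  · rintro ⟨v, hv, u, hu, huv⟩
    refine Eq.trans ?_ (I.w_facts h hu hv huv).2.2.1
    exact Nat.card_congr
      { toFun := fun s => ⟨s.1.1, s.1.2, s.2⟩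
        invFun := fun s => ⟨⟨s.1, s.2.1⟩, s.2.2⟩
        left_inv := fun _ => rfl
        right_inv := fun _ => rfl }
  rw [I.count] at hdc
  have hA : Nat.card A = 440 := by omega
  -- each lies in one Sylow subgroup
  set l := Nat.card {v : A // v.1 ∈ (P₀ : Subgroup G)} with hl
  have hconjA : ∀ (g : G) (v : A), orderOf (g * v.1 * g⁻¹) = 3 ∧ ∃ u : G, orderOf u = 2 ∧ Commute u (g * v.1 * g⁻¹) := by
    rintro g ⟨v, hv, u, hu, huv⟩
    exact ⟨(orderOf_conj g v).trans hv, g * u * g⁻¹, (orderOf_conj g u).trans hu, commute_conj g huv⟩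
  have hmemconj : ∀ (g x : G) (P : Sylow 3 G), g * x * g⁻¹ ∈ ((g • P : Sylow 3 G) : Subgroup G) ↔
      x ∈ (P : Subgroup G) := fun g x P => by
    rw [Sylow.smul_def, Sylow.pointwise_smul_def]
    exact Subgroup.smul_mem_pointwise_smul_iff (a := MulAut.conj g) (S := (P : Subgroup G)) (x := x)
  have hdc2 := double_count (A := A) (B := Sylow 3 G) (i := 1) (j := l)
    (fun v P => v.1 ∈ (P : Subgroup G)) ?_ ?_
  rotate_left
  · rintro ⟨v, hv, u, hu, huv⟩
    obtain ⟨P, hP⟩ := exists_sylow_mem hv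
    rw [Nat.card_eq_one_iff_unique]
    exact ⟨⟨fun a b => Subtype.ext ((I.w_facts h hu hv huv).1 _ _ a.2 b.2)⟩, ⟨⟨P, hP⟩⟩⟩
  · intro P
    obtain ⟨g, rfl⟩ := MulAction.exists_smul_eq G P₀ P
    refine Nat.card_congr
      { toFun := fun v => ⟨⟨g⁻¹ * v.1.1 * g, by simpa using hconjA g⁻¹ v.1⟩, ?_⟩
        invFun := fun v => ⟨⟨g * v.1.1 * g⁻¹, hconjA g v.1⟩, (hmemconj g v.1.1 P₀).mpr v.2⟩
        left_inv := fun v => Subtype.ext (Subtype.ext (by simp [mul_assoc]))
        right_inv := fun v => Subtype.ext (Subtype.ext (by simp [mul_assoc])) }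
    exact (hmemconj g (g⁻¹ * v.1.1 * g) P₀).mp (by
      rw [show g * (g⁻¹ * v.1.1 * g) * g⁻¹ = v.1.1 by group]; exact v.2)
  rw [hA, mul_one] at hdc2
  -- the number of Sylow subgroups
  set N := normalizer ((P₀ : Subgroup G) : Set G) with hN
  have hn := card_sylow_mul_card_normalizer P₀
  rw [h.card, ← hN] at hn
  have hmod := card_sylow_modEq_one 3 G
  rw [Nat.ModEq] at hmod
  have h9N : 9 ∣ Nat.card N := h.sylow_three P₀ ▸ Subgroup.card_dvd_of_le Subgroup.le_normalizer
  have h2N : 2 ∣ Nat.card N := by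
    have := Subgroup.orderOf_dvd_natCard N (x := t)
      ((I.w_facts h ht hwo htw).2.1 P₀ hwP₀ (mem_cent.mpr htw))
    rwa [ht] at this
  have hprime : ∀ (p : ℕ) [Fact p.Prime],
      (∀ y : G, orderOf y = p → Nat.card (centralizer ({y} : Set G)) = p) → p ≠ 3 → ¬ 9 % p = 1 →
      ¬ 9 % p = 0 → ¬ p ∣ Nat.card N := by
    intro p hp hcp hp3 h91 h90 hd
    obtain ⟨⟨y, hy⟩, hyo⟩ := exists_prime_orderOf_dvd_card' (G := N) p hd
    rw [Subgroup.orderOf_mk] at hyo
    have hmem : ∀ g ∈ zpowers y, ∀ q ∈ (P₀ : Subgroup G), g * q * g⁻¹ ∈ (P₀ : Subgroup G) :=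
      fun g hg q hq => (Subgroup.mem_normalizer_iff.mp ((zpowers_le.mpr hy) hg) q).mp hq
    letI : MulAction (zpowers y) (P₀ : Subgroup G) :=
      { smul := fun g q => ⟨(g : G) * q * (g : G)⁻¹, hmem g g.2 q q.2⟩
        one_smul := fun q => Subtype.ext (show (1 : G) * q * (1 : G)⁻¹ = q by simp)
        mul_smul := fun a b q => Subtype.ext
          (show ((a : G) * b) * q * ((a : G) * b)⁻¹ = a * (b * q * (b : G)⁻¹) * (a : G)⁻¹ by group) }
    have hmod := (IsPGroup.of_card (G := zpowers y) (n := 1) (p := p)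
      (by rw [Nat.card_zpowers, hyo, pow_one])).card_modEq_card_fixedPoints (P₀ : Subgroup G)
    have hfix : Nat.card (MulAction.fixedPoints (zpowers y) (P₀ : Subgroup G)) = 1 := by
      rw [Nat.card_eq_one_iff_unique]
      refine ⟨⟨fun a b => ?_⟩, ⟨⟨1, fun g => Subtype.ext (show (g : G) * 1 * (g : G)⁻¹ = 1 by simp)⟩⟩⟩
      have key : ∀ a : MulAction.fixedPoints (zpowers y) (P₀ : Subgroup G), (a.1 : G) = 1 := fun a => by
        have h1 : y * a.1.1 * y⁻¹ = a.1.1 := congrArg Subtype.val (a.2 ⟨y, mem_zpowers y⟩)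
        have h2 := Subgroup.orderOf_dvd_natCard (centralizer ({y} : Set G)) (x := a.1.1)
          (mem_cent.mpr (mul_inv_eq_iff_eq_mul.mp h1).symm)
        rw [hcp y hyo] at h2
        have h3 : orderOf (a.1 : G) ∣ 3 ^ 2 := by
          have := Subgroup.orderOf_dvd_natCard _ a.1.2
          rwa [h.sylow_three P₀] at this
        exact orderOf_eq_one_iff.mp (Nat.eq_one_of_dvd_coprimes
          (((Nat.coprime_primes hp.out Nat.prime_three).mpr hp3).pow_right 2) h2 h3)
      exact Subtype.ext (Subtype.ext ((key a).trans (key b).symm))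
    rw [hfix, h.sylow_three P₀, Nat.ModEq] at hmod
    exact h91 (hmod.trans (Nat.one_mod_eq_one.mpr hp.out.one_lt.ne'))
  have hN144 : Nat.card N ∣ 144 := dvd_of_cube (⟨Nat.card (Sylow 3 G), by
      show 7920 = _
      rw [mul_comm, hn]⟩)
    (hprime 5 I.five (by norm_num) (by norm_num) (by norm_num))
    (hprime 11 I.eleven (by norm_num) (by norm_num) (by norm_num))
  have hcases : Nat.card N = 36 ∧ Nat.card (Sylow 3 G) = 220 ∨
      Nat.card N = 144 ∧ Nat.card (Sylow 3 G) = 55 := by
    have hmem : Nat.card N ∈ Nat.divisors 144 := Nat.mem_divisors.mpr ⟨hN144, by norm_num⟩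
    have key : ∀ d ∈ Nat.divisors 144, 9 ∣ d → 2 ∣ d → (7920 / d) % 3 = 1 → d = 36 ∨ d = 144 := by
      decide +kernel
    have hdiv : 7920 / Nat.card N = Nat.card (Sylow 3 G) := by
      rw [← hn, Nat.mul_div_cancel _ Nat.card_pos]
    rcases key _ hmem h9N h2N (by rw [hdiv]; simpa using hmod) with e | e <;> rw [e] at hn
    · exact Or.inl ⟨e, by omega⟩
    · exact Or.inr ⟨e, by omega⟩
  have hno36 : ¬ (Nat.card N = 36 ∧ Nat.card (Sylow 3 G) = 220) := by
    rintro ⟨hN36, h220⟩
    rw [h220] at hdc2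
    have hl2 : l = 2 := by omega
    -- only `w` and its inverse in `P₀`
    have honly : ∀ d : G, d ∈ (P₀ : Subgroup G) → orderOf d = 3 →
        (∃ u : G, orderOf u = 2 ∧ Commute u d) → d = w ∨ d = w⁻¹ := by
      intro d hdP hdo hdu
      by_contra hne
      push Not at hne
      have hww : w ≠ w⁻¹ := fun e => by
        have : orderOf w ∣ 2 := orderOf_dvd_of_pow_eq_one (by rw [sq]; nth_rewrite 2 [e]; exact mul_inv_cancel w)
        rw [hwo] at this; norm_num at this
      let a : {v : A // v.1 ∈ (P₀ : Subgroup G)} := ⟨⟨w, hwo, t, ht, htw⟩, hwP₀⟩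
      let b : {v : A // v.1 ∈ (P₀ : Subgroup G)} :=
        ⟨⟨w⁻¹, by rw [orderOf_inv, hwo], t, ht, htw.inv_right⟩, inv_mem hwP₀⟩
      let c : {v : A // v.1 ∈ (P₀ : Subgroup G)} := ⟨⟨d, hdo, hdu⟩, hdP⟩
      haveI := Fintype.ofFinite {v : A // v.1 ∈ (P₀ : Subgroup G)}
      have h3 : ({a, b, c} : Finset {v : A // v.1 ∈ (P₀ : Subgroup G)}).card = 3 :=
        Finset.card_eq_three.mpr ⟨a, b, c, fun e => hww (congrArg (fun z => z.1.1) e),
          fun e => hne.1 (congrArg (fun z => z.1.1) e).symm,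
          fun e => hne.2 (congrArg (fun z => z.1.1) e).symm, rfl⟩
      have := Finset.card_le_univ ({a, b, c} : Finset {v : A // v.1 ∈ (P₀ : Subgroup G)})
      rw [h3, ← Nat.card_eq_fintype_card, ← hl, hl2] at this
      omega
    -- `N` normalises `⟨w⟩`
    set NW := normalizer ((zpowers w : Subgroup G) : Set G) with hNW
    have hNle : N ≤ NW := by
      intro g hg
      refine (mem_normalizer_zpowers hwo).mpr ?_
      exact honly _ ((Subgroup.mem_normalizer_iff.mp hg w).mp hwP₀)
        ((orderOf_conj g w).trans hwo) ⟨g * t * g⁻¹, (orderOf_conj g t).trans ht, commute_conj g htw⟩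
    have heq : N = NW := Subgroup.eq_of_le_of_card_ge hNle
      (by rw [hN36, (I.w_facts h ht hwo htw).2.2.2])
    have htN : t ∈ N := (I.w_facts h ht hwo htw).2.1 P₀ hwP₀ (mem_cent.mpr htw)
    -- an element of `P₀` inverted by `t`
    obtain ⟨p, hpP, hpc⟩ : ∃ p ∈ (P₀ : Subgroup G), ¬ Commute t p := by
      by_contra hall
      push Not at hall
      exact I.not_central h ht P₀ hall
    haveI := h.sylow_three_comm P₀
    have hPc : ∀ a ∈ (P₀ : Subgroup G), ∀ b ∈ (P₀ : Subgroup G), Commute a b := fun a ha b hb =>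
      (((P₀ : Subgroup G).le_centralizer ha) b hb).symm
    have htp : t * p * t⁻¹ ∈ (P₀ : Subgroup G) := (Subgroup.mem_normalizer_iff.mp htN p).mp hpP
    set d := p * (t * p * t⁻¹)⁻¹ with hd
    have hdP : d ∈ (P₀ : Subgroup G) := mul_mem hpP (inv_mem htp)
    have hd1 : d ≠ 1 := fun e => hpc (mul_inv_eq_iff_eq_mul.mp (by
      rw [hd, mul_inv_eq_one] at e; exact e.symm))
    have hdinv : t * d * t⁻¹ = d⁻¹ := by
      calc t * d * t⁻¹ = (t * p * t⁻¹) * (t * t * p⁻¹ * (t * t)⁻¹) := by rw [hd]; group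
        _ = d⁻¹ := by rw [invol_mul_self ht, hd]; group
    -- `D`, the subgroup of inverted elements
    let D : Subgroup G :=
      { carrier := {x | x ∈ (P₀ : Subgroup G) ∧ t * x * t⁻¹ = x⁻¹}
        one_mem' := ⟨one_mem _, by simp⟩
        mul_mem' := by
          rintro a b ⟨ha, ha'⟩ ⟨hb, hb'⟩
          refine ⟨mul_mem ha hb, ?_⟩
          rw [show t * (a * b) * t⁻¹ = (t * a * t⁻¹) * (t * b * t⁻¹) by group, ha', hb',
            (hPc a⁻¹ (inv_mem ha) b⁻¹ (inv_mem hb)).eq, mul_inv_rev]
        inv_mem' := by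
          rintro a ⟨ha, ha'⟩
          refine ⟨inv_mem ha, ?_⟩
          rw [← conj_inv, ha'] }
    have hD3 : Nat.card D = 3 := by
      have hdd : Nat.card D ∣ 9 := h.sylow_three P₀ ▸ Subgroup.card_dvd_of_le (fun x hx => hx.1)
      have hne9 : Nat.card D ≠ 9 := fun e => by
        have hDP : D = (P₀ : Subgroup G) :=
          Subgroup.eq_of_le_of_card_ge (fun x hx => hx.1) (by rw [h.sylow_three P₀, e])
        have hwD : w ∈ D := hDP.symm ▸ hwP₀
        have e2 : t * w * t⁻¹ = w := mul_inv_eq_iff_eq_mul.mpr htw.eq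
        have e3 := hwD.2
        rw [e2] at e3
        have : orderOf w ∣ 2 := orderOf_dvd_of_pow_eq_one (by rw [sq]; nth_rewrite 2 [e3]; exact mul_inv_cancel w)
        rw [hwo] at this; norm_num at this
      have hne1 : Nat.card D ≠ 1 := fun e => hd1 (by
        have hmem : d ∈ D := ⟨hdP, hdinv⟩
        rwa [Subgroup.eq_bot_of_card_eq D e, Subgroup.mem_bot] at hmem)
      have key : ∀ k ∈ Nat.divisors 9, k = 1 ∨ k = 3 ∨ k = 9 := by decide +kernel
      rcases key _ (Nat.mem_divisors.mpr ⟨hdd, by norm_num⟩) with e | e | e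
      · exact absurd e hne1
      · exact e
      · exact absurd e hne9
    have hdo : orderOf d = 3 := by
      have h1 := Subgroup.orderOf_dvd_natCard D (x := d) ⟨hdP, hdinv⟩
      rw [hD3] at h1
      exact ((Nat.dvd_prime Nat.prime_three).mp h1).resolve_left (fun e => hd1 (orderOf_eq_one_iff.mp e))
    -- an element of a commutative 2-subgroup inverting `w`
    obtain ⟨T, hT⟩ := (IsPGroup.of_card (G := zpowers (⟨t, htN⟩ : N)) (n := 1) (p := 2)
      (by rw [Nat.card_zpowers, Subgroup.orderOf_mk, ht, pow_one])).exists_le_sylow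
    have hT4 : Nat.card (T : Subgroup N) = 4 :=
      (card_sylow_subgroup (a := 2) (m := 9) (by rw [hN36]; norm_num) (by norm_num) T).trans (by norm_num)
    obtain ⟨v, hvT, hvw⟩ : ∃ v ∈ (T : Subgroup N), (v : G) * w * (v : G)⁻¹ = w⁻¹ := by
      by_contra hall
      push Not at hall
      have hle : (T : Subgroup N).map N.subtype ≤ centralizer ({w} : Set G) := by
        rintro _ ⟨v, hv, rfl⟩
        exact mem_cent.mpr (mul_inv_eq_iff_eq_mul.mp
          (((mem_normalizer_zpowers hwo).mp (heq.le v.2)).resolve_right (hall v hv)))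
      have h1 := Subgroup.card_dvd_of_le hle
      rw [Subgroup.card_map_of_injective N.subtype_injective, hT4, I.cent_eighteen h ht hwo htw] at h1
      norm_num at h1
    haveI : IsMulCommutative (T : Subgroup N) :=
      IsPGroup.isMulCommutative_of_card_eq_prime_sq (p := 2) (by rw [hT4]; norm_num)
    have hvt : Commute (v : G) t :=
      ((congrArg Subtype.val ((T : Subgroup N).le_centralizer hvT ⟨t, htN⟩ (hT (mem_zpowers _)))).symm :)
    have hvd : (v : G) * d * (v : G)⁻¹ = d ∨ (v : G) * d * (v : G)⁻¹ = d⁻¹ := by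
      have hmem : (v : G) * d * (v : G)⁻¹ ∈ D := by
        refine ⟨(Subgroup.mem_normalizer_iff.mp v.2 d).mp hdP, ?_⟩
        calc t * ((v : G) * d * (v : G)⁻¹) * t⁻¹ = (t * (v : G)) * d * (t * (v : G))⁻¹ := by group
          _ = (v : G) * (t * d * t⁻¹) * (v : G)⁻¹ := by rw [← hvt.eq]; group
          _ = _ := by rw [hdinv]; group
      have hDz : D = zpowers d := (Subgroup.eq_of_le_of_card_ge (zpowers_le.mpr (show d ∈ D from ⟨hdP, hdinv⟩))
        (by rw [hD3, Nat.card_zpowers, hdo])).symm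
      rw [hDz, mem_zpowers_iff_mem_range_orderOf, hdo] at hmem
      simp only [Finset.mem_image, Finset.mem_range] at hmem
      obtain ⟨i, hi, e⟩ := hmem
      interval_cases i
      · exfalso
        rw [pow_zero] at e
        exact hd1 (conj_eq_one_iff.mp e.symm)
      · exact Or.inl (by rw [← e, pow_one])
      · exact Or.inr (by
          rw [← e]
          exact eq_inv_of_mul_eq_one_left (by rw [← pow_succ]; exact orderOf_dvd_iff_pow_eq_one.mp hdo.dvd))
    obtain ⟨g, hgd, hgw, hgT⟩ : ∃ g : N, Commute (g : G) d ∧ (g : G) * w * (g : G)⁻¹ = w⁻¹ ∧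
        g ∈ (T : Subgroup N) := by
      rcases hvd with e | e
      · exact ⟨v, mul_inv_eq_iff_eq_mul.mp e, hvw, hvT⟩
      · refine ⟨v * ⟨t, htN⟩, mul_inv_eq_iff_eq_mul.mp ?_, ?_, mul_mem hvT (hT (mem_zpowers _))⟩
        · rw [Subgroup.coe_mul]
          calc (v : G) * t * d * ((v : G) * t)⁻¹ = (v : G) * (t * d * t⁻¹) * (v : G)⁻¹ := by group
            _ = ((v : G) * d * (v : G)⁻¹)⁻¹ := by rw [hdinv]; group
            _ = d := by rw [e, inv_inv]
        · rw [Subgroup.coe_mul]
          calc (v : G) * t * w * ((v : G) * t)⁻¹ = (v : G) * (t * w * t⁻¹) * (v : G)⁻¹ := by group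
            _ = w⁻¹ := by rw [mul_inv_eq_iff_eq_mul.mpr htw.eq, hvw]
    -- it is an involution
    have hg1 : (g : G) ≠ 1 := fun e => by
      rw [e] at hgw
      simp only [one_mul, inv_one, mul_one] at hgw
      have : orderOf w ∣ 2 := orderOf_dvd_of_pow_eq_one (by rw [sq]; nth_rewrite 2 [hgw]; exact mul_inv_cancel w)
      rw [hwo] at this; norm_num at this
    have hg2 : (g : G) * (g : G) = 1 := by
      by_contra hne
      have hmem4 : (g : G) ^ 4 = 1 := by
        have := orderOf_dvd_iff_pow_eq_one.mp (hT4 ▸ Subgroup.orderOf_dvd_natCard _ hgT)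
        simpa using congrArg Subtype.val this
      have hcw : Commute ((g : G) * g) w := mul_inv_eq_iff_eq_mul.mp (by
        calc (g : G) * g * w * ((g : G) * g)⁻¹ = g * (g * w * (g : G)⁻¹) * (g : G)⁻¹ := by group
          _ = w := by rw [hgw, ← conj_inv, hgw, inv_inv])
      have ho : orderOf ((g : G) * g) = 2 := orderOf_two (by
        rw [← hmem4]; simp [pow_succ, mul_assoc]) hne
      -- the involution `g²` centralises all of `P₀`
      refine I.not_central h ho P₀ fun q hq => ?_
      have hDle : ∀ x ∈ (P₀ : Subgroup G), x ∈ zpowers w ⊔ D := fun x hx => by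
        have hle : zpowers w ⊔ D ≤ (P₀ : Subgroup G) := sup_le (zpowers_le.mpr hwP₀) (fun z hz => hz.1)
        have hlt : zpowers w < zpowers w ⊔ D := lt_of_le_of_ne le_sup_left fun e => by
          have hdw : d ∈ zpowers w := e ▸ Subgroup.mem_sup_right (show d ∈ D from ⟨hdP, hdinv⟩)
          obtain ⟨i, hi⟩ := mem_zpowers_iff.mp hdw
          have e2 : t * d * t⁻¹ = d := by
            rw [← hi]
            exact mul_inv_eq_iff_eq_mul.mpr ((htw.zpow_right i)).eq
          have e3 : d⁻¹ = d := hdinv.symm.trans e2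
          have : orderOf d ∣ 2 := orderOf_dvd_of_pow_eq_one (by
            rw [sq]; nth_rewrite 1 [← e3]; exact inv_mul_cancel _)
          rw [hdo] at this; norm_num at this
        have hcard : Nat.card ↥(zpowers w ⊔ D) = 9 := by
          have hd9 := Subgroup.card_dvd_of_le hle
          rw [h.sylow_three P₀] at hd9
          have h3 : 3 < Nat.card ↥(zpowers w ⊔ D) := by
            by_contra hle3
            exact hlt.ne (Subgroup.eq_of_le_of_card_ge hlt.le (by rw [Nat.card_zpowers, hwo]; omega))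
          have key : ∀ k ∈ Nat.divisors 9, 3 < k → k = 9 := by decide +kernel
          exact key _ (Nat.mem_divisors.mpr ⟨hd9, by norm_num⟩) h3
        rw [Subgroup.eq_of_le_of_card_ge hle (by rw [h.sylow_three P₀, hcard])]
        exact hx
      have hle : zpowers w ⊔ D ≤ centralizer ({(g : G) * g} : Set G) := by
        refine sup_le (zpowers_le.mpr (mem_cent.mpr hcw.symm)) ?_
        rw [← Subgroup.eq_of_le_of_card_ge (zpowers_le.mpr (show d ∈ D from ⟨hdP, hdinv⟩))
          (by rw [hD3, Nat.card_zpowers, hdo])]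
        exact zpowers_le.mpr (mem_cent.mpr ((hgd.mul_left hgd).symm))
      exact (mem_cent.mp (hle (hDle q hq))).symm
    have hdmem := honly d hdP hdo ⟨g, orderOf_two hg2 hg1, hgd⟩
    have hinvw : ∀ x, x = w ∨ x = w⁻¹ → t * x * t⁻¹ = x := fun x hx => by
      rcases hx with rfl | rfl
      · exact mul_inv_eq_iff_eq_mul.mpr htw.eq
      · exact mul_inv_eq_iff_eq_mul.mpr htw.inv_right.eq
    have e3 := (hinvw d hdmem).symm.trans hdinv
    have : orderOf d ∣ 2 := orderOf_dvd_of_pow_eq_one (by rw [sq]; nth_rewrite 2 [e3]; exact mul_inv_cancel d)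
    rw [hdo] at this; norm_num at this
  obtain ⟨hN144', h55⟩ := hcases.resolve_left hno36
  rw [h55] at hdc2
  have hl8 : l = 8 := by omega
  have hall : ∀ (P : Sylow 3 G) (p : G), p ∈ (P : Subgroup G) → p ≠ 1 →
      orderOf p = 3 ∧ ∃ u : G, orderOf u = 2 ∧ Commute u p := by
    intro P p hp hp1
    obtain ⟨g, rfl⟩ := MulAction.exists_smul_eq G P₀ P
    obtain ⟨q, rfl⟩ : ∃ q, g * q * g⁻¹ = p := ⟨g⁻¹ * p * g, by group⟩
    rw [hmemconj] at hp
    have hq1 : q ≠ 1 := fun e => hp1 (by rw [e]; group)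
    haveI := Fintype.ofFinite (P₀ : Subgroup G)
    have hsurj : Function.Bijective
        (fun v : {v : A // v.1 ∈ (P₀ : Subgroup G)} =>
          (⟨⟨v.1.1, v.2⟩, fun e => by
            have h3 := v.1.2.1
            rw [show v.1.1 = 1 from congrArg Subtype.val e, orderOf_one] at h3
            omega⟩ : {x : (P₀ : Subgroup G) // x ≠ 1})) := by
      refine Function.Injective.bijective_of_nat_card_le
        (fun a b e => Subtype.ext (Subtype.ext (congrArg (fun z => z.1.1) e :))) ?_
      rw [← hl, hl8, Nat.card_eq_fintype_card, Fintype.card_subtype_compl, Fintype.card_subtype_eq,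
        ← Nat.card_eq_fintype_card, h.sylow_three P₀]
    obtain ⟨v, hv⟩ := hsurj.2 ⟨⟨q, hp⟩, fun e => hq1 (congrArg Subtype.val e)⟩
    have hvq : v.1.1 = q := congrArg (fun z => z.1.1) hv
    exact hvq ▸ hconjA g v.1
  refine ⟨h55, fun P => ?_, fun P Q p hP hQ hp => ?_, hall, fun P g hg => ?_⟩
  · have := card_sylow_mul_card_normalizer P
    rw [h55, h.card] at this
    omega
  · obtain ⟨hpo, u, hu, hup⟩ := hall P p hP hp
    exact (I.w_facts h hu hpo hup).1 P Q hP hQ
  · -- the centraliser of `P`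
    haveI := h.sylow_three_comm P
    set C := centralizer ((P : Subgroup G) : Set G) with hC
    have hPC : (P : Subgroup G) ≤ C := (P : Subgroup G).le_centralizer
    obtain ⟨⟨p, hpP⟩, hpo⟩ := exists_prime_orderOf_dvd_card' (G := (P : Subgroup G)) 3
      (by rw [h.sylow_three P]; norm_num)
    rw [Subgroup.orderOf_mk] at hpo
    obtain ⟨-, u, hu, hup⟩ := hall P p hpP (fun e => by simp [e] at hpo)
    have hCle : C ≤ centralizer ({p} : Set G) := fun x hx => mem_cent.mpr (hx p hpP).symm
    have hd18 := Subgroup.card_dvd_of_le hCle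
    rw [I.cent_eighteen h hu hpo hup] at hd18
    have h9C : 9 ∣ Nat.card C := h.sylow_three P ▸ Subgroup.card_dvd_of_le hPC
    have hodd : ¬ 2 ∣ Nat.card C := fun hd => by
      obtain ⟨⟨r, hr⟩, hro⟩ := exists_prime_orderOf_dvd_card' (G := C) 2 hd
      rw [Subgroup.orderOf_mk] at hro
      exact I.not_central h hro P fun q hq => (hr q hq).symm
    have key : ∀ k ∈ Nat.divisors 18, 9 ∣ k → ¬ 2 ∣ k → k = 9 := by decide +kernel
    have hC9 := key _ (Nat.mem_divisors.mpr ⟨hd18, by norm_num⟩) h9C hodd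
    rw [Subgroup.eq_of_le_of_card_ge hPC (by rw [h.sylow_three P, hC9])]
    exact fun q hq => (hg q hq).symm

end Cfsg.Agent.Recog.OrderM11
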