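import Cfsg.Agent.Recog.OrderM11.Involution

/-!
The subgroups of order three commuting with an involution.
-/

set_option autoImplicit false
set_option linter.style.haveILetI false
set_option linter.unusedSectionVars false

namespace Cfsg.Agent.Recog.OrderM11

open Cfsg.Agent.SmallGroups Subgroup

instance fact_two : Fact (Nat.Prime 2) := ⟨Nat.prime_two⟩
instance fact_three : Fact (Nat.Prime 3) := ⟨Nat.prime_three⟩

variable {G : Type*} [Group G] [Finite G]

theorem mem_cent {a b : G} : a ∈ centralizer ({b} : Set G) ↔ Commute a b :=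
  mem_centralizer_singleton_iff

theorem orderOf_conj (g a : G) : orderOf (g * a * g⁻¹) = orderOf a :=
  MulEquiv.orderOf_eq (MulAut.conj g) a

theorem commute_conj {a b : G} (g : G) (h : Commute a b) :
    Commute (g * a * g⁻¹) (g * b * g⁻¹) :=
  h.map (MulAut.conj g).toMonoidHom

theorem invol_mul_self {s : G} (hs : orderOf s = 2) : s * s = 1 := by
  rw [← sq, ← hs, pow_orderOf_eq_one]

theorem orderOf_two {s : G} (h : s * s = 1) (hne : s ≠ 1) : orderOf s = 2 :=
  orderOf_eq_prime (by rw [sq, h]) hne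

theorem dvd_of_cube {n : ℕ} (h : n ∣ 144 * 5 * 11) (h5 : ¬ 5 ∣ n) (h11 : ¬ 11 ∣ n) : n ∣ 144 :=
  ((Nat.Prime.coprime_iff_not_dvd (by norm_num)).mpr h5).symm.dvd_of_dvd_mul_right
    (((Nat.Prime.coprime_iff_not_dvd (by norm_num)).mpr h11).symm.dvd_of_dvd_mul_right h)

theorem Hyp.sylow_three (h : Hyp G) (P : Sylow 3 G) : Nat.card (P : Subgroup G) = 9 :=
  (card_sylow_subgroup (a := 2) (m := 880) (by rw [h.card]; norm_num) (by norm_num) P).trans
    (by norm_num)

theorem Hyp.sylow_three_comm (h : Hyp G) (P : Sylow 3 G) :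
    IsMulCommutative (P : Subgroup G) :=
  IsPGroup.isMulCommutative_of_card_eq_prime_sq (p := 3) (by rw [h.sylow_three P]; norm_num)

/-- Elements of order three are centralised only by a subgroup of order dividing 144. -/
theorem Invol.cent_dvd (I : Invol G) (h : Hyp G) {w : G} (hw : orderOf w = 3) :
    Nat.card (centralizer ({w} : Set G)) ∣ 144 := by
  have key : ∀ (p : ℕ) [Fact p.Prime],
      (∀ y : G, orderOf y = p → Nat.card (centralizer ({y} : Set G)) = p) → p ≠ 3 →
      ¬ p ∣ Nat.card (centralizer ({w} : Set G)) := by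
    intro p _ hp hp3 hd
    obtain ⟨⟨y, hy⟩, hyo⟩ := exists_prime_orderOf_dvd_card' (G := centralizer ({w} : Set G)) p hd
    rw [Subgroup.orderOf_mk] at hyo
    have h1 := Subgroup.orderOf_dvd_natCard (centralizer ({y} : Set G)) (x := w)
      (mem_cent.mpr (mem_cent.mp hy).symm)
    rw [hp y hyo, hw] at h1
    exact hp3 ((Nat.prime_dvd_prime_iff_eq Nat.prime_three Fact.out).mp h1).symm
  refine dvd_of_cube ?_ (key 5 I.five (by norm_num)) (key 11 I.eleven (by norm_num))
  have := Subgroup.card_subgroup_dvd_card (centralizer ({w} : Set G))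
  rwa [h.card] at this

theorem Hyp.nine_dvd_cent (h : Hyp G) {w : G} (P : Sylow 3 G) (hwP : w ∈ (P : Subgroup G)) :
    (P : Subgroup G) ≤ centralizer ({w} : Set G) := by
  haveI := h.sylow_three_comm P
  intro p hp
  exact mem_cent.mpr ((P : Subgroup G).le_centralizer hwP p hp)

/-- No involution centralises a Sylow 3-subgroup. -/
theorem Invol.not_central (I : Invol G) (h : Hyp G) {r : G} (hr : orderOf r = 2) (P : Sylow 3 G) :
    ¬ ∀ p ∈ (P : Subgroup G), Commute r p := by
  intro hc
  have h1 := Subgroup.card_dvd_of_le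
    (show (P : Subgroup G) ≤ centralizer ({r} : Set G) from fun p hp => mem_cent.mpr (hc p hp).symm)
  rw [h.sylow_three P, I.cent r hr] at h1
  norm_num at h1

/-- The number of involutions commuting with an involution is congruent to one modulo four. -/
theorem Invol.c_one (I : Invol G) (h : Hyp G) {t : G} (ht : orderOf t = 2) :
    Nat.card {s : G // orderOf s = 2 ∧ Commute t s} % 4 = 1 := by
  letI : MulAction G {s : G // orderOf s = 2} :=
    { smul := fun g s => ⟨g * s * g⁻¹, (orderOf_conj g s.1).trans s.2⟩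
      one_smul := fun s => Subtype.ext (show (1 : G) * s * (1 : G)⁻¹ = s by simp)
      mul_smul := fun a b s => Subtype.ext
        (show (a * b) * s * (a * b)⁻¹ = a * (b * s * b⁻¹) * a⁻¹ by group) }
  have hf : Nat.card {a : {s : G // orderOf s = 2} // t • a = a} =
      Nat.card {s : G // orderOf s = 2 ∧ Commute t s} := by
    refine Nat.card_congr
      { toFun := fun a => ⟨a.1.1, a.1.2, mul_inv_eq_iff_eq_mul.mp (congrArg Subtype.val a.2)⟩
        invFun := fun s => ⟨⟨s.1, s.2.1⟩,
          Subtype.ext (show t * s.1 * t⁻¹ = s.1 from mul_inv_eq_iff_eq_mul.mpr s.2.2)⟩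
        left_inv := fun _ => rfl
        right_inv := fun _ => rfl }
  have h4 := h.moved_four ht hf
  rw [I.count] at h4
  have hle : Nat.card {s : G // orderOf s = 2 ∧ Commute t s} ≤ 165 := by
    rw [← I.count]
    exact Nat.card_le_card_of_injective (fun s => (⟨s.1, s.2.1⟩ : {s : G // orderOf s = 2}))
      (fun a b e => Subtype.ext (congrArg Subtype.val e :))
  omega

theorem conj_inf_card {A B : Subgroup G} (g : G) :
    Nat.card ↥(A.map (MulAut.conj g).toMonoidHom ⊓ B.map (MulAut.conj g).toMonoidHom) =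
      Nat.card ↥(A ⊓ B) := by
  rw [← Subgroup.map_inf _ _ _ (MulAut.conj g).injective,
    Subgroup.card_map_of_injective (MulAut.conj g).injective]

/-- All pairs of an involution and a commuting element of order three are conjugate, up to
inversion of the latter. -/
theorem Invol.pair_conj (I : Invol G) {t u w v : G} (ht : orderOf t = 2) (hu : orderOf u = 2)
    (hw : orderOf w = 3) (hv : orderOf v = 3) (htw : Commute t w) (huv : Commute u v) :
    ∃ g : G, g * t * g⁻¹ = u ∧ zpowers (g * w * g⁻¹) = zpowers v := by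
  obtain ⟨g₀, rfl⟩ := isConj_iff.mp (I.conj t u ht hu)
  set C := centralizer ({g₀ * t * g₀⁻¹} : Set G) with hC
  have hC48 : Nat.card C = 48 := I.cent _ hu
  have hS : ∀ a : G, orderOf a = 3 → Commute (g₀ * t * g₀⁻¹) a →
      ∃ S : Sylow 3 C, (S : Subgroup C).map C.subtype = zpowers a := by
    intro a ha hta
    have haC : a ∈ C := mem_cent.mpr hta.symm
    obtain ⟨S, hS⟩ := (IsPGroup.of_card (G := zpowers (⟨a, haC⟩ : C)) (n := 1) (p := 3)
      (by rw [Nat.card_zpowers, Subgroup.orderOf_mk, ha, pow_one])).exists_le_sylow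
    refine ⟨S, ?_⟩
    rw [← Subgroup.eq_of_le_of_card_ge hS (by
      rw [card_sylow_subgroup (a := 1) (m := 16) (by rw [hC48]; norm_num) (by norm_num) S,
        Nat.card_zpowers, Subgroup.orderOf_mk, ha, pow_one]), MonoidHom.map_zpowers]
    rfl
  obtain ⟨S, hSw⟩ := hS (g₀ * w * g₀⁻¹) (by rw [orderOf_conj, hw]) (commute_conj g₀ htw)
  obtain ⟨T, hTv⟩ := hS v hv huv
  obtain ⟨c, hc⟩ := MulAction.exists_smul_eq C S T
  refine ⟨c.1 * g₀, ?_, ?_⟩
  · rw [show c.1 * g₀ * t * (c.1 * g₀)⁻¹ = c.1 * (g₀ * t * g₀⁻¹) * c.1⁻¹ by group,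
      (mem_cent.mp c.2).eq, mul_inv_cancel_right]
  · have hmem : c.1 * (g₀ * w * g₀⁻¹) * c.1⁻¹ ∈ zpowers v := by
      rw [← hTv, ← hc, Sylow.smul_def, Sylow.pointwise_smul_def]
      obtain ⟨a, ha, e⟩ := (hSw ▸ mem_zpowers (g₀ * w * g₀⁻¹) :
        g₀ * w * g₀⁻¹ ∈ (S : Subgroup C).map C.subtype)
      refine ⟨c * a * c⁻¹, ⟨a, ha, rfl⟩, ?_⟩
      rw [← e]; rfl
    rw [show c.1 * g₀ * w * (c.1 * g₀)⁻¹ = c.1 * (g₀ * w * g₀⁻¹) * c.1⁻¹ by group]
    exact Subgroup.eq_of_le_of_card_ge (zpowers_le.mpr hmem)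
      (by rw [Nat.card_zpowers, Nat.card_zpowers, hv, orderOf_conj, orderOf_conj, hw])

theorem cent_zpowers (g : G) : centralizer ((zpowers g : Subgroup G) : Set G) = centralizer {g} := by
  rw [zpowers_eq_closure, Subgroup.centralizer_closure]

/-- `|C(t) ∩ C(w)|` and `|C(t) ∩ N⟨w⟩|`. -/
noncomputable abbrev aCard (t w : G) : ℕ :=
  Nat.card ↥(centralizer ({t} : Set G) ⊓ centralizer ({w} : Set G))

noncomputable abbrev bCard (t w : G) : ℕ :=
  Nat.card ↥(centralizer ({t} : Set G) ⊓ normalizer ((zpowers w : Subgroup G) : Set G))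

theorem map_cent (g a : G) :
    (centralizer ({a} : Set G)).map (MulAut.conj g).toMonoidHom =
      centralizer ({g * a * g⁻¹} : Set G) := by
  ext x
  rw [Subgroup.mem_map_equiv, mem_cent, mem_cent, MulAut.conj_symm_apply]
  constructor
  · intro hx
    have := commute_conj g hx
    simpa [mul_assoc] using this
  · intro hx
    have := commute_conj g⁻¹ hx
    simpa [mul_assoc] using this

theorem map_norm (g a : G) :
    (normalizer ((zpowers a : Subgroup G) : Set G)).map (MulAut.conj g).toMonoidHom =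
      normalizer ((zpowers (g * a * g⁻¹) : Subgroup G) : Set G) := by
  rw [Subgroup.map_equiv_normalizer_eq, MonoidHom.map_zpowers]
  rfl

theorem Invol.card_indep (I : Invol G) {t u w v : G} (ht : orderOf t = 2) (hu : orderOf u = 2)
    (hw : orderOf w = 3) (hv : orderOf v = 3) (htw : Commute t w) (huv : Commute u v) :
    aCard u v = aCard t w ∧ bCard u v = bCard t w := by
  obtain ⟨g, rfl, hg⟩ := I.pair_conj ht hu hw hv htw huv
  constructor
  · rw [aCard, ← cent_zpowers v, ← hg, cent_zpowers, ← map_cent, ← map_cent, conj_inf_card]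
  · rw [bCard, ← hg, ← map_cent, ← map_norm, conj_inf_card]

theorem mem_normalizer_zpowers {g a : G} (ha : orderOf a = 3) :
    g ∈ normalizer ((zpowers a : Subgroup G) : Set G) ↔ g * a * g⁻¹ = a ∨ g * a * g⁻¹ = a⁻¹ := by
  classical
  constructor
  · intro hg
    have hm : g * a * g⁻¹ ∈ zpowers a := (Subgroup.mem_normalizer_iff.mp hg a).mp (mem_zpowers a)
    obtain ⟨i, hi, hi'⟩ : ∃ i, i < 3 ∧ a ^ i = g * a * g⁻¹ := by
      have h1 := mem_zpowers_iff_mem_range_orderOf.mp hm
      rw [ha] at h1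
      simpa using h1
    have hinv : a⁻¹ = a ^ 2 := inv_eq_of_mul_eq_one_right
      (by rw [← pow_succ']; exact orderOf_dvd_iff_pow_eq_one.mp ha.dvd)
    rw [← hi']
    interval_cases i
    · exfalso
      rw [pow_zero] at hi'
      have : a = 1 := by simpa [conj_eq_one_iff] using hi'.symm
      simp [this] at ha
    · exact Or.inl (pow_one a)
    · exact Or.inr hinv.symm
  · intro hg
    have hmap : (zpowers a).map (MulAut.conj g).toMonoidHom = zpowers a := by
      rw [MonoidHom.map_zpowers]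
      change zpowers (g * a * g⁻¹) = zpowers a
      rcases hg with e | e <;> rw [e]
      exact zpowers_inv
    rw [Subgroup.mem_normalizer_iff]
    intro x
    conv_rhs => rw [← hmap]
    rw [Subgroup.mem_map_equiv, MulAut.conj_symm_apply]
    simp [mul_assoc]

theorem Invol.ab_cases (I : Invol G) {t w : G} (ht : orderOf t = 2) (hw : orderOf w = 3)
    (htw : Commute t w) :
    (bCard t w = 48 ∧ (aCard t w = 24 ∨ aCard t w = 48)) ∨
      (bCard t w = 12 ∧ (aCard t w = 6 ∨ aCard t w = 12)) := by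
  classical
  set C := centralizer ({t} : Set G) with hC
  have hC48 : Nat.card C = 48 := I.cent t ht
  have hwC : w ∈ C := mem_cent.mpr htw.symm
  set b := bCard t w with hb
  set a := aCard t w with ha
  have ha6 : 6 ∣ a := by
    refine Nat.Coprime.mul_dvd_of_dvd_of_dvd (m := 2) (n := 3) (by norm_num) ?_ ?_
    · have := Subgroup.orderOf_dvd_natCard (C ⊓ centralizer ({w} : Set G)) (x := t)
        ⟨mem_cent.mpr (Commute.refl t), mem_cent.mpr htw⟩
      rwa [ht] at this
    · have := Subgroup.orderOf_dvd_natCard (C ⊓ centralizer ({w} : Set G)) (x := w)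
        ⟨hwC, mem_cent.mpr (Commute.refl w)⟩
      rwa [hw] at this
  have hba : b = a ∨ b = 2 * a := by
    set A := C ⊓ centralizer ({w} : Set G)
    set B := C ⊓ normalizer ((zpowers w : Subgroup G) : Set G)
    have hle : A ≤ B := inf_le_inf_left C (fun x hx =>
      (mem_normalizer_zpowers hw).mpr (Or.inl (mul_inv_eq_iff_eq_mul.mpr (mem_cent.mp hx).eq)))
    by_cases heq : B ≤ A
    · exact Or.inl (congrArg (fun X : Subgroup G => Nat.card X) (le_antisymm heq hle))
    obtain ⟨g, hgB, hgA⟩ := SetLike.not_le_iff_exists.mp heq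
    have hinv : ∀ x ∈ B, x ∉ A → x * w * x⁻¹ = w⁻¹ := fun x hx hxA =>
      ((mem_normalizer_zpowers hw).mp hx.2).resolve_left fun e =>
        hxA ⟨hx.1, mem_cent.mpr (mul_inv_eq_iff_eq_mul.mp e)⟩
    right
    have hidx : (A.subgroupOf B).index = 2 := by
      rw [Subgroup.index_eq_two_iff]
      refine ⟨⟨g, hgB⟩, fun x => ?_⟩
      simp only [Subgroup.mem_subgroupOf, Subgroup.coe_mul]
      by_cases hx : (x : G) ∈ A
      · refine Or.inr ⟨hx, fun hxg => hgA ?_⟩
        simpa using A.mul_mem (A.inv_mem hx) hxg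
      · refine Or.inl ⟨⟨C.mul_mem x.2.1 hgB.1, mem_cent.mpr (mul_inv_eq_iff_eq_mul.mp ?_)⟩, hx⟩
        calc (x : G) * g * w * ((x : G) * g)⁻¹ = (x : G) * (g * w * g⁻¹) * (x : G)⁻¹ := by group
          _ = ((x : G) * w * (x : G)⁻¹)⁻¹ := by rw [hinv g hgB hgA]; group
          _ = w := by rw [hinv x x.2 hx, inv_inv]
    have h1 := (A.subgroupOf B).index_mul_card
    rw [hidx, Nat.card_congr (Subgroup.subgroupOfEquivOfLe hle).toEquiv] at h1
    exact h1.symm
  have hbn : ∃ n, n % 3 = 1 ∧ n * b = 48 := by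
    obtain ⟨S, hS⟩ := (IsPGroup.of_card (G := zpowers (⟨w, hwC⟩ : C)) (n := 1) (p := 3)
      (by rw [Nat.card_zpowers, Subgroup.orderOf_mk, hw, pow_one])).exists_le_sylow
    have hSeq : zpowers (⟨w, hwC⟩ : C) = (S : Subgroup C) := Subgroup.eq_of_le_of_card_ge hS (by
      rw [card_sylow_subgroup (a := 1) (m := 16) (by rw [hC48]; norm_num) (by norm_num) S,
        Nat.card_zpowers, Subgroup.orderOf_mk, hw, pow_one])
    refine ⟨Nat.card (Sylow 3 C), ?_, ?_⟩
    · have := card_sylow_modEq_one 3 C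
      rwa [Nat.ModEq] at this
    · have h1 := card_sylow_mul_card_normalizer S
      rw [hC48] at h1
      rw [← h1]
      congr 1
      rw [← hSeq, hb, bCard, ← hC]
      have hsub : (normalizer ((zpowers (⟨w, hwC⟩ : C) : Subgroup C) : Set C)).map C.subtype =
          C ⊓ normalizer ((zpowers w : Subgroup G) : Set G) := by
        ext x
        constructor
        · rintro ⟨y, hy, rfl⟩
          refine ⟨y.2, (mem_normalizer_zpowers hw).mpr ?_⟩
          have := (mem_normalizer_zpowers (a := (⟨w, hwC⟩ : C)) (by rw [Subgroup.orderOf_mk, hw])).mp hy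
          exact this.imp (fun e => congrArg Subtype.val e) (fun e => congrArg Subtype.val e)
        · rintro ⟨hxC, hxN⟩
          refine ⟨⟨x, hxC⟩, (mem_normalizer_zpowers (by rw [Subgroup.orderOf_mk, hw])).mpr ?_, rfl⟩
          exact ((mem_normalizer_zpowers hw).mp hxN).imp (fun e => Subtype.ext e) (fun e => Subtype.ext e)
      rw [← hsub, Subgroup.card_map_of_injective C.subtype_injective]
  obtain ⟨n, hn, hnb⟩ := hbn
  obtain ⟨c, hc⟩ := ha6
  have hn48 : n ∈ Nat.divisors 48 := Nat.mem_divisors.mpr ⟨⟨b, hnb.symm⟩, by norm_num⟩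
  have key : ∀ d ∈ Nat.divisors 48, d % 3 = 1 → d = 1 ∨ d = 4 ∨ d = 16 := by decide +kernel
  rcases key n hn48 hn with rfl | rfl | rfl <;> rcases hba with e | e <;> omega

end Cfsg.Agent.Recog.OrderM11
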