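import Cfsg.Agent.SmallGroups.PrimeSylow

/-!
Counting and parity tools for a simple group of order 7920.
-/

set_option autoImplicit false
set_option linter.style.haveILetI false
set_option linter.unusedSectionVars false

namespace Cfsg.Agent.Recog.OrderM11

open Cfsg.Agent.SmallGroups

/-- The hypothesis: a simple group of order 7920. -/
structure Hyp (G : Type*) [Group G] : Prop where
  simple : IsSimpleGroup G
  card : Nat.card G = 7920

theorem double_count {A B : Type*} [Finite A] [Finite B] (r : A → B → Prop) {i j : ℕ}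
    (ha : ∀ a, Nat.card {b // r a b} = i) (hb : ∀ b, Nat.card {a // r a b} = j) :
    Nat.card A * i = Nat.card B * j := by
  classical
  haveI := Fintype.ofFinite A
  haveI := Fintype.ofFinite B
  have e : (Σ a, {b // r a b}) ≃ Σ b, {a // r a b} :=
    { toFun := fun x => ⟨x.2.1, x.1, x.2.2⟩
      invFun := fun x => ⟨x.2.1, x.1, x.2.2⟩
      left_inv := fun _ => rfl
      right_inv := fun _ => rfl }
  have h := Nat.card_congr e
  rw [Nat.card_sigma, Nat.card_sigma, Finset.sum_const_nat (fun a _ => ha a),
    Finset.sum_const_nat (fun b _ => hb b), Finset.card_univ, Finset.card_univ] at h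
  simpa [Nat.card_eq_fintype_card] using h

variable {G : Type*} [Group G] [Finite G]

theorem class_card (s : G) :
    Nat.card {u : G // IsConj s u} * Nat.card (Subgroup.centralizer ({s} : Set G)) = Nat.card G := by
  set C := Subgroup.centralizer ({s} : Set G)
  let f : G ⧸ C → {u : G // IsConj s u} := Quotient.lift
    (fun g : G => (⟨g * s * g⁻¹, isConj_iff.mpr ⟨g, rfl⟩⟩ : {u : G // IsConj s u}))
    (fun a b hab => Subtype.ext (by
      have h := Subgroup.mem_centralizer_singleton_iff.mp (QuotientGroup.leftRel_apply.mp hab)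
      calc a * s * a⁻¹ = a * (s * (a⁻¹ * b)) * b⁻¹ := by group
        _ = a * ((a⁻¹ * b) * s) * b⁻¹ := by rw [h]
        _ = b * s * b⁻¹ := by group))
  have hf : Function.Bijective f := by
    constructor
    · rintro ⟨a⟩ ⟨b⟩ e
      have e' : a * s * a⁻¹ = b * s * b⁻¹ := congrArg Subtype.val e
      refine QuotientGroup.eq.mpr (Subgroup.mem_centralizer_singleton_iff.mpr ?_)
      calc a⁻¹ * b * s = a⁻¹ * (b * s * b⁻¹) * b := by group
        _ = a⁻¹ * (a * s * a⁻¹) * b := by rw [e']
        _ = s * (a⁻¹ * b) := by group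
    · rintro ⟨u, hu⟩
      obtain ⟨g, rfl⟩ := isConj_iff.mp hu
      exact ⟨(g : G ⧸ C), rfl⟩
  rw [← Nat.card_eq_of_bijective f hf, ← Subgroup.index_eq_card]
  exact C.index_mul_card

theorem conj_centralizer_card (s g : G) :
    Nat.card (Subgroup.centralizer ({g * s * g⁻¹} : Set G)) =
      Nat.card (Subgroup.centralizer ({s} : Set G)) := by
  have h1 := class_card (g * s * g⁻¹)
  have h2 := class_card s
  have e : Nat.card {u : G // IsConj (g * s * g⁻¹) u} = Nat.card {u : G // IsConj s u} :=
    Nat.card_congr (Equiv.subtypeEquivRight fun u =>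
      ⟨fun h => (isConj_iff.mpr ⟨g, rfl⟩).trans h, fun h => (isConj_iff.mpr ⟨g, rfl⟩).symm.trans h⟩)
  rw [e, ← h2] at h1
  have hpos : 0 < Nat.card {u : G // IsConj s u} := by
    haveI : Nonempty {u : G // IsConj s u} := ⟨⟨s, IsConj.refl s⟩⟩
    exact Nat.card_pos
  exact Nat.eq_of_mul_eq_mul_left hpos h1

theorem Hyp.nc (h : Hyp G) : ¬ IsMulCommutative G :=
  haveI := h.simple
  not_isMulCommutative (by rw [h.card]; norm_num)

/-- An involution moves a number of points divisible by four. -/
theorem Hyp.moved_four (h : Hyp G) {α : Type*} [Finite α] [MulAction G α] {s : G}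
    (hs : orderOf s = 2) {f : ℕ} (hf : Nat.card {a : α // s • a = a} = f) :
    4 ∣ Nat.card α - f := by
  classical
  haveI := h.simple
  haveI := Fintype.ofFinite α
  set σ := MulAction.toPermHom G α s with hσ
  have hσ2 : σ ^ 2 = 1 := by rw [hσ, ← map_pow, ← hs, pow_orderOf_eq_one, map_one]
  have hsupp : σ.support.card = Nat.card α - f := by
    rw [← hf, Nat.card_eq_fintype_card (α := α), Nat.card_eq_fintype_card, Fintype.card_subtype,
      ← Finset.card_compl]
    congr 1
    ext a
    simp [hσ]
  have hct : σ.cycleType = Multiset.replicate σ.cycleType.card 2 := by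
    refine Multiset.eq_replicate_card.mpr fun n hn => ?_
    have a1 := (Equiv.Perm.dvd_of_mem_cycleType hn).trans (orderOf_dvd_of_pow_eq_one hσ2)
    have a2 := Equiv.Perm.two_le_of_mem_cycleType hn
    have := Nat.le_of_dvd (by norm_num) a1
    omega
  have hsum := Equiv.Perm.sum_cycleType σ
  rw [hct, Multiset.sum_replicate, smul_eq_mul] at hsum
  have hsign : Equiv.Perm.sign σ = 1 := by
    rcases injective_or_trivial ((Equiv.Perm.sign : Equiv.Perm α →* ℤˣ).comp
      (MulAction.toPermHom G α)) with hi | ht
    · exact absurd ⟨⟨fun a b => hi (by simp only [map_mul, mul_comm])⟩⟩ h.nc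
    · exact ht s
  rw [Equiv.Perm.sign_of_cycleType, hct, Multiset.sum_replicate, Multiset.card_replicate,
    smul_eq_mul] at hsign
  have hev : Even σ.cycleType.card := by
    by_contra ho
    rw [Nat.not_even_iff_odd] at ho
    rw [pow_add, (even_two.mul_left σ.cycleType.card).neg_one_pow, one_mul, ho.neg_one_pow] at hsign
    exact absurd hsign (by decide)
  obtain ⟨m, hm⟩ := hev
  exact ⟨m, by omega⟩

/-- Sylow subgroups of prime order absorb the elements of their order normalising them. -/
theorem mem_of_normalizes {p : ℕ} [Fact p.Prime] {v : G} (hv : orderOf v = p) (Q : Sylow p G)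
    (hvQ : v ∈ Subgroup.normalizer ((Q : Subgroup G) : Set G)) : v ∈ (Q : Subgroup G) := by
  have h := IsPGroup.inf_normalizer_sylow (IsPGroup.of_card (G := Subgroup.zpowers v) (n := 1)
    (by rw [Nat.card_zpowers, hv, pow_one])) Q
  have : v ∈ Subgroup.zpowers v ⊓ Subgroup.normalizer ((Q : Subgroup G) : Set G) :=
    ⟨Subgroup.mem_zpowers v, hvQ⟩
  exact (h ▸ this).2

theorem smul_eq_iff {p : ℕ} [Fact p.Prime] {g : G} {P : Sylow p G} :
    g • P = P ↔ g ∈ Subgroup.normalizer ((P : Subgroup G) : Set G) :=
  Sylow.smul_eq_iff_mem_normalizer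

end Cfsg.Agent.Recog.OrderM11
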